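import Cfsg.Agent.Lib.Techniques.FocalOdd.Root
import Cfsg.Agent.Lib.LocalEvenB.FpfModule

/-!
# Coordinates of a natural `SL₂` subgroup
-/

set_option autoImplicit false
set_option linter.all false

namespace CfsgLib.Techniques.FocalOdd

open Subgroup Matrix CfsgLib.LocalEven.OffSL2
open scoped MatrixGroups

variable {P V : Type*} [Group P] [AddCommGroup V] {act : P →* AddMonoid.End V}
  {F : Type} [Field F] (r : Root act F)

/-- The first coordinate axis. -/
def Root.u0 : F →+ V := AddMonoidHom.mk' (fun x => r.ι ![x, 0]) fun x y => by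
  rw [← map_add]; simp

/-- The second coordinate axis. -/
def Root.l0 : F →+ V := AddMonoidHom.mk' (fun x => r.ι ![0, x]) fun x y => by
  rw [← map_add]; simp

/-- The first coordinate. -/
def Root.p0 : V →+ F := AddMonoidHom.mk' (fun v => r.π v 0) fun u v => by rw [map_add]; rfl

/-- The second coordinate. -/
def Root.p1 : V →+ F := AddMonoidHom.mk' (fun v => r.π v 1) fun u v => by rw [map_add]; rfl

/-- The component in the complement. -/
def Root.kp : V →+ V := AddMonoidHom.id V - r.ι.comp r.π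

/-- The element of the root group. -/
def Root.a (b : F) : P := r.emb (CfsgLib.LocalEvenB.upU b)

/-- The element of the opposite root group. -/
def Root.low (b : F) : P := r.emb (CfsgLib.LocalEvenB.loU b)

/-- The central involution. -/
def Root.t : P := r.emb (CfsgLib.LocalEvenB.weyl 1 one_ne_zero * CfsgLib.LocalEvenB.weyl 1 one_ne_zero)

/-- The conjugate. -/
def Root.conj (g : P) : Root act F where
  emb := (MulAut.conj g).toMonoidHom.comp r.emb
  ι := ((act g : V →+ V)).comp r.ι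
  π := r.π.comp (act g⁻¹ : V →+ V)
  πι x := by
    show r.π (act g⁻¹ (act g (r.ι x))) = x
    rw [act_inv, r.πι]
  act_emb h v := by
    show act (g * r.emb h * g⁻¹) v = v - act g (r.ι (r.π (act g⁻¹ v))) +
      act g (r.ι ((h : Matrix (Fin 2) (Fin 2) F) *ᵥ r.π (act g⁻¹ v)))
    rw [act_mul, act_mul, r.act_emb, map_add, map_sub, act_inv']

theorem Root.conj_emb (g : P) (h : SL(2, F)) : (r.conj g).emb h = g * r.emb h * g⁻¹ := rfl

theorem Root.conj_A (g : P) : (r.conj g).A = r.A.map (MulAut.conj g).toMonoidHom := by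
  rw [Root.A, Root.A, MonoidHom.map_range]; rfl

theorem Root.conj_t (g : P) : (r.conj g).t = g * r.t * g⁻¹ := rfl

theorem Root.kp_def (v : V) : r.kp v = v - r.ι (r.π v) := rfl

theorem Root.ι_eq (w : Fin 2 → F) : r.ι w = r.u0 (w 0) + r.l0 (w 1) := by
  show r.ι w = r.ι _ + r.ι _
  rw [← map_add]
  congr 1
  funext i; fin_cases i <;> simp

theorem Root.π_eq (v : V) : r.π v = ![r.p0 v, r.p1 v] := by
  funext i; fin_cases i <;> rfl

theorem Root.π_eq_aux (w : Fin 2 → F) :
    r.ι w = r.u0 (r.p0 (r.ι w)) + r.l0 (r.p1 (r.ι w)) := by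
  conv_lhs => rw [r.ι_eq]
  show _ = r.u0 (r.π (r.ι w) 0) + r.l0 (r.π (r.ι w) 1)
  rw [r.πι]

theorem Root.decomp (v : V) : r.u0 (r.p0 v) + r.l0 (r.p1 v) + r.kp v = v := by
  rw [r.kp_def, r.ι_eq]
  show r.u0 (r.p0 v) + r.l0 (r.p1 v) + (v - (r.u0 (r.p0 v) + r.l0 (r.p1 v))) = v
  abel

theorem Root.p0_u0 (x : F) : r.p0 (r.u0 x) = x := by show r.π (r.ι _) 0 = x; rw [r.πι]; rfl
theorem Root.p1_u0 (x : F) : r.p1 (r.u0 x) = 0 := by show r.π (r.ι _) 1 = 0; rw [r.πι]; rfl
theorem Root.p0_l0 (x : F) : r.p0 (r.l0 x) = 0 := by show r.π (r.ι _) 0 = 0; rw [r.πι]; rfl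
theorem Root.p1_l0 (x : F) : r.p1 (r.l0 x) = x := by show r.π (r.ι _) 1 = x; rw [r.πι]; rfl
theorem Root.kp_ι (w : Fin 2 → F) : r.kp (r.ι w) = 0 := by rw [r.kp_def, r.πι, sub_self]
theorem Root.kp_u0 (x : F) : r.kp (r.u0 x) = 0 := r.kp_ι _
theorem Root.kp_l0 (x : F) : r.kp (r.l0 x) = 0 := r.kp_ι _
theorem Root.π_kp (v : V) : r.π (r.kp v) = 0 := by rw [r.kp_def, map_sub, r.πι, sub_self]
theorem Root.p0_kp (v : V) : r.p0 (r.kp v) = 0 := by show r.π (r.kp v) 0 = 0; rw [r.π_kp]; rfl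
theorem Root.p1_kp (v : V) : r.p1 (r.kp v) = 0 := by show r.π (r.kp v) 1 = 0; rw [r.π_kp]; rfl
theorem Root.kp_kp (v : V) : r.kp (r.kp v) = r.kp v := by
  rw [r.kp_def (r.kp v), r.π_kp, map_zero, sub_zero]

theorem Root.π_zero_iff (v : V) : r.π v = 0 ↔ r.p0 v = 0 ∧ r.p1 v = 0 := by
  refine ⟨fun h => ⟨congrFun h 0, congrFun h 1⟩, fun h => funext fun i => ?_⟩
  fin_cases i
  · exact h.1
  · exact h.2

theorem Root.kp_eq_self {v : V} (h : r.π v = 0) : r.kp v = v := by
  rw [r.kp_def, h, map_zero, sub_zero]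

theorem Root.u0_injective : Function.Injective r.u0 := Function.LeftInverse.injective r.p0_u0
theorem Root.l0_injective : Function.Injective r.l0 := Function.LeftInverse.injective r.p1_l0

theorem Root.act_emb_eq (g : SL(2, F)) (v : V) : act (r.emb g) v =
    r.u0 ((g : Matrix (Fin 2) (Fin 2) F) 0 0 * r.p0 v + (g : Matrix (Fin 2) (Fin 2) F) 0 1 * r.p1 v) +
    r.l0 ((g : Matrix (Fin 2) (Fin 2) F) 1 0 * r.p0 v + (g : Matrix (Fin 2) (Fin 2) F) 1 1 * r.p1 v) +
    r.kp v := by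
  rw [r.act_emb, r.ι_eq ((g : Matrix (Fin 2) (Fin 2) F) *ᵥ r.π v), r.kp_def]
  simp only [mulVec, dotProduct, Fin.sum_univ_two]
  show v - r.ι (r.π v) + (r.u0 _ + r.l0 _) = r.u0 _ + r.l0 _ + (v - r.ι (r.π v))
  exact add_comm _ _

theorem Root.emb_kp (g : SL(2, F)) {v : V} (h : r.π v = 0) : act (r.emb g) v = v := by
  rw [r.act_emb, h]; simp

theorem Root.act_emb_ι_aux (b : F) (w : Fin 2 → F) :
    act (r.a b) (r.ι w) = r.ι ((CfsgLib.LocalEvenB.upU b : SL(2, F)).val *ᵥ w) := by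
  rw [Root.a, r.act_emb, r.πι, sub_self, zero_add]

theorem Root.emb_ι (g : SL(2, F)) (w : Fin 2 → F) :
    act (r.emb g) (r.ι w) = r.ι ((g : Matrix (Fin 2) (Fin 2) F) *ᵥ w) := by
  rw [r.act_emb, r.πι, sub_self, zero_add]

theorem Root.p0_emb (g : SL(2, F)) (v : V) : r.p0 (act (r.emb g) v) =
    (g : Matrix (Fin 2) (Fin 2) F) 0 0 * r.p0 v + (g : Matrix (Fin 2) (Fin 2) F) 0 1 * r.p1 v := by
  rw [r.act_emb_eq, map_add, map_add, r.p0_u0, r.p0_l0, r.p0_kp, add_zero, add_zero]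

theorem Root.p1_emb (g : SL(2, F)) (v : V) : r.p1 (act (r.emb g) v) =
    (g : Matrix (Fin 2) (Fin 2) F) 1 0 * r.p0 v + (g : Matrix (Fin 2) (Fin 2) F) 1 1 * r.p1 v := by
  rw [r.act_emb_eq, map_add, map_add, r.p1_u0, r.p1_l0, r.p1_kp, zero_add, add_zero]

theorem Root.kp_emb (g : SL(2, F)) (v : V) : r.kp (act (r.emb g) v) = r.kp v := by
  rw [r.act_emb_eq, map_add, map_add, r.kp_u0, r.kp_l0, r.kp_kp, zero_add, zero_add]

theorem Root.act_a (b : F) (v : V) : act (r.a b) v = v + r.u0 (b * r.p1 v) := by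
  rw [Root.a, r.act_emb_eq, CfsgLib.LocalEvenB.coe_upU]
  simp only [of_apply, cons_val', cons_val_zero, cons_val_one, cons_val_fin_one, empty_val',
    one_mul, zero_mul, zero_add]
  conv_rhs => rw [← r.decomp v]
  rw [map_add r.u0, map_add r.p1, map_add r.p1, r.p1_u0, r.p1_l0, r.p1_kp, zero_add, add_zero]
  abel

theorem Root.act_low (b : F) (v : V) : act (r.low b) v = v + r.l0 (b * r.p0 v) := by
  rw [Root.low, r.act_emb_eq]
  show r.u0 ((!![1, 0; b, 1] : Matrix (Fin 2) (Fin 2) F) 0 0 * r.p0 v +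
      (!![1, 0; b, 1] : Matrix (Fin 2) (Fin 2) F) 0 1 * r.p1 v) +
    r.l0 ((!![1, 0; b, 1] : Matrix (Fin 2) (Fin 2) F) 1 0 * r.p0 v +
      (!![1, 0; b, 1] : Matrix (Fin 2) (Fin 2) F) 1 1 * r.p1 v) + r.kp v = _
  simp only [of_apply, cons_val', cons_val_zero, cons_val_one, cons_val_fin_one, empty_val',
    one_mul, zero_mul, add_zero]
  conv_rhs => rw [← r.decomp v]
  rw [map_add r.l0, map_add r.p0, map_add r.p0, r.p0_u0, r.p0_l0, r.p0_kp, add_zero, add_zero]
  abel

theorem Root.act_diag {μ : F} (hμ : μ ≠ 0) (v : V) :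
    act (r.emb (CfsgLib.LocalEvenB.diagH μ hμ)) v = r.u0 (μ * r.p0 v) + r.l0 (μ⁻¹ * r.p1 v) + r.kp v := by
  rw [r.act_emb_eq]
  simp [CfsgLib.LocalEvenB.diagH]

theorem coe_weyl_sq {F : Type} [Field F] :
    ((CfsgLib.LocalEvenB.weyl (1 : F) one_ne_zero * CfsgLib.LocalEvenB.weyl 1 one_ne_zero : SL(2, F)) :
      Matrix (Fin 2) (Fin 2) F) = -1 := by
  ext i j
  fin_cases i <;> fin_cases j <;>
    simp [CfsgLib.LocalEvenB.coe_weyl, SpecialLinearGroup.coe_mul, mul_apply, Fin.sum_univ_two]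

theorem Root.act_t (v : V) : act r.t v = r.kp v - r.u0 (r.p0 v) - r.l0 (r.p1 v) := by
  rw [Root.t, r.act_emb_eq, coe_weyl_sq]
  simp only [Matrix.neg_apply, Matrix.one_apply, if_true, Fin.reduceEq, if_false, neg_zero, zero_mul,
    add_zero, zero_add, neg_mul, one_mul, map_neg]
  abel

theorem Root.t_mul_t : r.t * r.t = 1 := by
  rw [Root.t, ← map_mul]
  convert map_one r.emb
  apply Subtype.ext
  show ((CfsgLib.LocalEvenB.weyl (1 : F) one_ne_zero * CfsgLib.LocalEvenB.weyl 1 one_ne_zero : SL(2, F)) :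
      Matrix (Fin 2) (Fin 2) F) * ((CfsgLib.LocalEvenB.weyl (1 : F) one_ne_zero *
        CfsgLib.LocalEvenB.weyl 1 one_ne_zero : SL(2, F)) : Matrix (Fin 2) (Fin 2) F) = 1
  rw [coe_weyl_sq, neg_mul_neg, one_mul]

theorem Root.mem_fix_A (v : V) : v ∈ fix act r.A ↔ r.p1 v = 0 := by
  constructor
  · intro h
    have h1 : act (r.a 1) v = v := h _ (Root.mem_A.2 ⟨1, rfl⟩)
    rw [r.act_a, one_mul, add_eq_left] at h1
    exact r.u0_injective (h1.trans (map_zero r.u0).symm)
  · intro h x hx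
    obtain ⟨b, rfl⟩ := Root.mem_A.1 hx
    show act (r.a b) v = v
    rw [r.act_a, h, mul_zero, map_zero, add_zero]

theorem Root.a_add (b c : F) : r.a (b + c) = r.a b * r.a c := by
  rw [Root.a, Root.a, Root.a, CfsgLib.LocalEvenB.upU_add, map_mul]

theorem Root.a_zero : r.a 0 = 1 := by rw [Root.a, CfsgLib.LocalEvenB.upU_zero, map_one]

theorem Root.a_mem (b : F) : r.a b ∈ r.A := Root.mem_A.2 ⟨b, rfl⟩

theorem Root.a_injective : Function.Injective r.a := fun b c h => by
  have h1 := congrArg (fun x => r.p0 (act x (r.l0 1))) h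
  simp only [r.act_a, map_add, r.p0_u0, r.p0_l0, r.p1_l0, mul_one, zero_add] at h1
  exact h1

theorem Root.A_eq_iff {B : Subgroup P} : r.A ≤ B ↔ ∀ b, r.a b ∈ B := by
  refine ⟨fun h b => h (r.a_mem b), fun h x hx => ?_⟩
  obtain ⟨b, rfl⟩ := Root.mem_A.1 hx
  exact h b

/-- An element commuting with the involution respects the decomposition. -/
theorem Root.comm_t (h2 : ∀ v : V, v + v = 0 → v = 0) {x : P} (hx : x * r.t = r.t * x) :
    (∀ v, r.π v = 0 → r.π (act x v) = 0) ∧ ∀ w, r.kp (act x (r.ι w)) = 0 := by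
  have hc : ∀ v, act r.t (act x v) = act x (act r.t v) := fun v => by rw [← act_mul, ← act_mul, hx]
  refine ⟨fun v hv => ?_, fun w => ?_⟩
  · have h1 := hc v
    rw [show act r.t v = v from r.emb_kp _ hv, r.act_t] at h1
    have h3 := r.decomp (act x v)
    have h4 : r.u0 (r.p0 (act x v)) + r.l0 (r.p1 (act x v)) = 0 := h2 _ (by
      linear_combination (norm := abel) h3 - h1)
    refine (r.π_zero_iff _).2 ⟨?_, ?_⟩
    · simpa [map_add, r.p0_u0, r.p0_l0] using congrArg r.p0 h4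
    · simpa [map_add, r.p1_u0, r.p1_l0] using congrArg r.p1 h4
  · have h1 := hc (r.ι w)
    have ht : act r.t (r.ι w) = -r.ι w := by
      have hd := r.decomp (r.ι w)
      rw [r.kp_ι, add_zero] at hd
      rw [r.act_t, r.kp_ι]
      linear_combination (norm := abel) -hd
    rw [ht, map_neg, r.act_t] at h1
    have h3 := r.decomp (act x (r.ι w))
    exact h2 _ (by linear_combination (norm := abel) h1 + h3)

/-- An element commuting with the involution and fixing the summand centralises the subgroup. -/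
theorem Root.comm_emb (hinj : Function.Injective act) (h2 : ∀ v : V, v + v = 0 → v = 0) {x : P}
    (hx : x * r.t = r.t * x) (hW : ∀ w, act x (r.ι w) = r.ι w) (g : SL(2, F)) :
    x * r.emb g = r.emb g * x := by
  refine hinj (AddMonoidHom.ext fun v => ?_)
  show act (x * r.emb g) v = act (r.emb g * x) v
  have hk : r.π (act x (r.kp v)) = 0 := (r.comm_t h2 hx).1 _ (r.π_kp v)
  have hv : r.ι (r.π v) + r.kp v = v := by rw [r.kp_def]; abel
  rw [act_mul, act_mul]
  conv_lhs => rw [← hv, map_add, r.emb_ι, r.emb_kp g (r.π_kp v), map_add, hW]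
  conv_rhs => rw [← hv, map_add, hW, map_add, r.emb_ι, r.emb_kp g hk]

/-- An element centralising the subgroup acts by a scalar on the summand. -/
theorem Root.scalar (h2 : ∀ v : V, v + v = 0 → v = 0) {x : P}
    (hx : ∀ g, x * r.emb g = r.emb g * x) :
    ∃ l : F, ∀ w, act x (r.ι w) = r.ι (l • w) := by
  obtain ⟨hK, hW⟩ := r.comm_t h2 (hx _)
  have hc : ∀ g v, act (r.emb g) (act x v) = act x (act (r.emb g) v) := fun g v => by
    rw [← act_mul, ← act_mul, hx]
  set g0 : F → F := fun c => r.p0 (act x (r.u0 c)) with hg0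
  have e1 : ∀ b c, r.p1 (act x (r.u0 c)) * b = 0 := by
    intro b c
    have h := congrArg r.p0 (hc (CfsgLib.LocalEvenB.upU b) (r.u0 c))
    rw [show act (r.emb (CfsgLib.LocalEvenB.upU b)) (r.u0 c) = r.u0 c by
      rw [← Root.a, r.act_a, r.p1_u0, mul_zero, map_zero, add_zero]] at h
    rw [← Root.a, r.act_a, map_add, r.p0_u0, add_eq_left] at h
    rw [mul_comm]; exact h
  have e2 : ∀ b y, g0 (b * y) = b * r.p1 (act x (r.l0 y)) := by
    intro b y
    have h := congrArg r.p0 (hc (CfsgLib.LocalEvenB.upU b) (r.l0 y))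
    rw [← Root.a, r.act_a, r.act_a, r.p1_l0, map_add (act x), map_add, map_add, r.p0_u0, add_right_inj] at h
    exact h.symm
  have e3 : ∀ b y, r.p0 (act x (r.l0 y)) * b = 0 := by
    intro b y
    have h := congrArg r.p1 (hc (CfsgLib.LocalEvenB.loU b) (r.l0 y))
    rw [show act (r.emb (CfsgLib.LocalEvenB.loU b)) (r.l0 y) = r.l0 y by
      rw [← Root.low, r.act_low, r.p0_l0, mul_zero, map_zero, add_zero]] at h
    rw [← Root.low, r.act_low, map_add, r.p1_l0, add_eq_left] at h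
    rw [mul_comm]; exact h
  have hg1 : ∀ c, g0 c = c * r.p1 (act x (r.l0 1)) := fun c => by rw [← e2, mul_one]
  have hl1 : ∀ y, r.p1 (act x (r.l0 y)) = y * r.p1 (act x (r.l0 1)) := fun y => by
    rw [← hg1 y, ← one_mul (r.p1 (act x (r.l0 y))), ← e2, one_mul]
  refine ⟨r.p1 (act x (r.l0 1)), fun w => ?_⟩
  rw [← r.decomp (act x (r.ι w)), hW, add_zero, r.ι_eq, map_add (act x), map_add r.p0, map_add r.p1,
    r.ι_eq (_ • w)]
  have f1 := e1 1 (w 0)
  have f3 := e3 1 (w 1)
  rw [mul_one] at f1 f3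
  rw [f1, f3, zero_add, add_zero, hl1 (w 1), show r.p0 (act x (r.u0 (w 0))) = g0 (w 0) from rfl, hg1]
  simp only [Pi.smul_apply, smul_eq_mul, mul_comm]

theorem eq_zero_of_add_self {p : ℕ} [hp : Fact p.Prime] (hodd : p ≠ 2) (hpV : ∀ v : V, p • v = 0)
    (v : V) (h : v + v = 0) : v = 0 := by
  rw [← two_nsmul] at h
  refine AddMonoid.addOrderOf_eq_one_iff.1 (Nat.eq_one_of_dvd_coprimes
    ((Nat.coprime_primes Nat.prime_two hp.out).2 (Ne.symm hodd))
    (addOrderOf_dvd_iff_nsmul_eq_zero.2 h) (addOrderOf_dvd_iff_nsmul_eq_zero.2 (hpV v)))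

include r in
theorem Root.charP {p : ℕ} [hp : Fact p.Prime] (hpV : ∀ v : V, p • v = 0) : CharP F p := by
  refine CharP.charP_iff_prime_eq_zero hp.out |>.2 (r.u0_injective ?_)
  rw [map_zero, show ((p : ℕ) : F) = p • (1 : F) by simp, map_nsmul, hpV]

include r in
theorem Root.two_ne {p : ℕ} [hp : Fact p.Prime] (hodd : p ≠ 2) (hpV : ∀ v : V, p • v = 0) : (2 : F) ≠ 0 := by
  intro h
  have := eq_zero_of_add_self hodd hpV (r.u0 1) (by rw [← map_add, one_add_one_eq_two, h, map_zero])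
  exact one_ne_zero (r.u0_injective (this.trans (map_zero _).symm))

omit [Field F] in
/-- The elements stabilising a chain of length three generate a `p`-group. -/
theorem chain_isPGroup {p : ℕ} [hp : Fact p.Prime] (hinj : Function.Injective act)
    (hodd : p ≠ 2) (hpV : ∀ v : V, p • v = 0) {C1 C2 : AddSubgroup V} (hC : C1 ≤ C2) (S : Set P)
    (hS : ∀ x ∈ S, (∀ v ∈ C1, act x v = v) ∧ (∀ v ∈ C2, act x v - v ∈ C1) ∧ ∀ v, act x v - v ∈ C2) :
    IsPGroup p (Subgroup.closure S) := by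
  let Q : Subgroup P :=
    { carrier := {x | (∀ v ∈ C1, act x v = v) ∧ (∀ v ∈ C2, act x v - v ∈ C1) ∧ ∀ v, act x v - v ∈ C2}
      one_mem' := ⟨fun v _ => act_one act v, fun v _ => by rw [act_one, sub_self]; exact zero_mem _,
        fun v => by rw [act_one, sub_self]; exact zero_mem _⟩
      mul_mem' := fun {x y} hx hy => by
        refine ⟨fun v hv => by rw [act_mul, hy.1 v hv, hx.1 v hv], fun v hv => ?_, fun v => ?_⟩
        · rw [act_mul, ← sub_add_sub_cancel _ (act y v) v]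
          refine add_mem (hx.2.1 _ ?_) (hy.2.1 v hv)
          rw [← sub_add_cancel (act y v) v]
          exact add_mem (hC (hy.2.1 v hv)) hv
        · rw [act_mul, ← sub_add_sub_cancel _ (act y v) v]
          exact add_mem (hx.2.2 _) (hy.2.2 v)
      inv_mem' := fun {x} hx => by
        have h1 : ∀ v, act x⁻¹ v - v = -act x⁻¹ (act x v - v) := fun v => by
          rw [map_sub, act_inv]; abel
        have h0 : ∀ v ∈ C1, act x⁻¹ v = v := fun v hv => by
          conv_lhs => rw [← hx.1 v hv]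
          rw [act_inv]
        refine ⟨h0, fun v hv => ?_, fun v => ?_⟩
        · rw [h1, h0 _ (hx.2.1 v hv)]
          exact neg_mem (hx.2.1 v hv)
        · have hz := hx.2.2 v
          have : act x⁻¹ (act x (act x v - v) - (act x v - v)) = act x (act x v - v) - (act x v - v) :=
            h0 _ (hx.2.1 _ hz)
          rw [map_sub, act_inv] at this
          rw [h1]
          refine neg_mem ?_
          rw [show act x⁻¹ (act x v - v) = (act x v - v) - (act x (act x v - v) - (act x v - v)) by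
            rw [← this]; abel]
          exact sub_mem hz (hC (hx.2.1 _ hz)) }
  refine (IsPGroup.to_le (K := Q) ?_ ((closure_le Q).2 hS))
  intro x
  refine ⟨1, Subtype.ext (hinj (AddMonoidHom.ext fun v => ?_))⟩
  show act ((x : P) ^ (p ^ 1)) v = act 1 v
  rw [pow_one, act_one]
  obtain ⟨d, hd⟩ : ∃ d, d = act (x : P) v - v := ⟨_, rfl⟩
  obtain ⟨e, he⟩ : ∃ e, e = act (x : P) d - d := ⟨_, rfl⟩
  have he1 : act (x : P) e = e := x.2.1 e (he ▸ x.2.2.1 d (hd ▸ x.2.2.2 v))
  have hstep : ∀ n : ℕ, act ((x : P) ^ n) v = v + n • d + n.choose 2 • e := by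
    intro n
    induction n with
    | zero => rw [pow_zero, act_one]; simp
    | succ n ih =>
      rw [pow_succ', act_mul, ih, map_add, map_add, map_nsmul, map_nsmul, he1,
        show act (x : P) v = v + d by rw [hd]; abel, show act (x : P) d = d + e by rw [he]; abel,
        Nat.choose_succ_succ', Nat.choose_one_right, nsmul_add, show (n + n.choose (1 + 1)) • e = n • e + n.choose 2 • e from add_nsmul e _ _,
        succ_nsmul]
      abel
  rw [hstep, hpV, add_zero]
  obtain ⟨k, hk⟩ := hp.out.dvd_choose_self (k := 2) (by norm_num)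
    (lt_of_le_of_ne hp.out.two_le (Ne.symm hodd))
  rw [hk, mul_comm, mul_smul, hpV, nsmul_zero, add_zero]

end CfsgLib.Techniques.FocalOdd
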