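import Mathlib

/-!
# Additive maps of a finite field
-/

set_option autoImplicit false

namespace CfsgLib.Techniques.FocalOdd

variable {F : Type*} [Field F]

/-- An additive map whose commutators with the squares of the scalars are linear is linear. -/
theorem linear_of_torus (h2 : (2 : F) ≠ 0) {σ : F → F} (hσ : ∀ x y, σ (x + y) = σ x + σ y)
    (h : ∀ μ : F, μ ≠ 0 → ∃ ν, ∀ y, μ * σ (μ * y) - σ y = ν * y) (y : F) : σ y = σ 1 * y := by
  set τ : F → F := fun y => σ y - σ 1 * y with hτ
  have hτadd : ∀ x y, τ (x + y) = τ x + τ y := fun x y => by simp only [hτ, hσ]; ring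
  have hτ1 : τ 1 = 0 := by simp [hτ]
  have hτ0 : τ 0 = 0 := by
    have := hτadd 0 0
    rw [add_zero] at this
    linear_combination -this
  have key : ∀ μ : F, μ ≠ 0 → ∀ y, μ * τ (μ * y) - τ y = μ * τ μ * y := by
    intro μ hμ y
    obtain ⟨ν, hν⟩ := h μ hμ
    have e1 := hν 1
    rw [mul_one, mul_one] at e1
    simp only [hτ]
    linear_combination hν y - y * e1
  suffices hh : τ y = 0 by
    simp only [hτ] at hh
    linear_combination hh
  by_cases hex : ∃ l : F, l ≠ 0 ∧ l + 1 ≠ 0 ∧ l + 2 ≠ 0
  · obtain ⟨l, h0, h1, h2'⟩ := hex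
    have k0 := key l h0 y
    have k1 := key (l + 1) h1 y
    have k2 := key (l + 2) h2' y
    rw [show (l + 1) * y = l * y + y by ring, hτadd, hτadd l 1, hτ1, add_zero] at k1
    have e2 : τ ((l + 2) * y) = τ (l * y) + (τ y + τ y) := by
      rw [show (l + 2) * y = l * y + (y + y) by ring, hτadd, hτadd]
    have e2' : τ (l + 2) = τ l := by
      rw [show l + 2 = l + (1 + 1) by ring, hτadd, hτadd, hτ1, add_zero, add_zero]
    rw [e2, e2'] at k2
    have : (2 : F) * τ y = 0 := by linear_combination k0 + k2 - 2 * k1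
    exact (mul_eq_zero.1 this).resolve_left h2
  · push Not at hex
    by_cases hy : y = 0
    · rw [hy, hτ0]
    · by_cases hy1 : y + 1 = 0
      · have := hτadd y 1
        rw [hy1, hτ0, hτ1, add_zero] at this
        exact this.symm
      · have := hτadd y (1 + 1)
        rw [show y + (1 + 1) = y + 2 by ring, hex y hy hy1, hτ0, hτadd, hτ1, add_zero, add_zero] at this
        exact this.symm

/-- An additive map whose commutators with the scalars are linear is linear. -/
theorem linear_of_comm [Finite F] {p : ℕ} [Fact p.Prime] [CharP F p] {τ : F → F}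
    (h : ∀ μ : F, μ ≠ 0 → ∃ ν, ∀ y, τ (μ * y) - μ * τ y = ν * y) (h0 : τ 0 = 0) (y : F) :
    τ y = τ 1 * y := by
  set δ : F → F := fun y => τ y - τ 1 * y with hδ
  have hδ1 : δ 1 = 0 := by simp [hδ]
  have key : ∀ x y, δ (x * y) = x * δ y + δ x * y := by
    intro x y
    by_cases hx : x = 0
    · simp [hδ, hx, h0]
    obtain ⟨ν, hν⟩ := h x hx
    have e1 := hν 1
    rw [mul_one, mul_one] at e1
    simp only [hδ]
    linear_combination hν y - y * e1
  have hpow : ∀ (x : F) (n : ℕ), δ (x ^ n) = n * x ^ (n - 1) * δ x := by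
    intro x n
    induction n with
    | zero => simp [hδ1]
    | succ n ih =>
      rw [pow_succ, key, ih]
      rcases n with _ | n
      · simp
      · simp only [Nat.add_sub_cancel, pow_succ]
        push_cast
        ring
  obtain ⟨x, hx⟩ := (Finite.injective_iff_surjective.1 (frobenius_inj F p)) y
  have : δ y = 0 := by
    rw [← hx, frobenius_def, hpow, CharP.cast_eq_zero F p, zero_mul, zero_mul]
  simp only [hδ] at this
  linear_combination this

/-- A quadratic automorphism is trivial. -/
theorem eq_id_of_quadratic (h2 : (2 : F) ≠ 0) {σ : F → F} (hadd : ∀ x y, σ (x + y) = σ x + σ y)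
    (hmul : ∀ x y, σ (x * y) = σ x * σ y) (hq : ∀ x, σ (σ x - x) = σ x - x) (x : F) : σ x = x := by
  set d := σ x - x with hd
  have h1 : σ x = x + d := by rw [hd]; ring
  have h3 : σ (x * x) = x * x + (x * d + x * d + d * d) := by rw [hmul, h1]; ring
  have h4 : σ d = d := hq x
  have h5 := hq (x * x)
  rw [h3, show x * x + (x * d + x * d + d * d) - x * x = x * d + x * d + d * d by ring,
    hadd, hadd, hmul, hmul, h1, h4] at h5
  have : (2 : F) * (d * d) = 0 := by linear_combination h5
  have := mul_self_eq_zero.1 ((mul_eq_zero.1 this).resolve_left h2)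
  rw [h1, this, add_zero]

end CfsgLib.Techniques.FocalOdd
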