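import Cfsg.Agent.Lib.Techniques.FocalOdd.Coord
import Cfsg.Agent.Lib.Techniques.FocalOdd.Field

/-!
# An offender of least order with the members centralised by its `SL₂`
-/

set_option autoImplicit false
set_option linter.all false
set_option maxHeartbeats 1000000

namespace CfsgLib.Techniques.FocalOdd

open Subgroup Matrix CfsgLib.LocalEven CfsgLib.LocalEven.OffSL2
open scoped MatrixGroups

variable {P V : Type*} [Group P] [AddCommGroup V] [Finite P] [Finite V] {p : ℕ} [hp : Fact p.Prime]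
  {act : P →* AddMonoid.End V} {T : Sylow p P} {M : Subgroup P}

local notation:max X:max "^ᶜ" g:max => Subgroup.map (MulEquiv.toMonoidHom (MulAut.conj g)) X

/-- The elements acting as an element of the root group on the summand. -/
def Nice {F : Type} [Field F] (r : Root act F) (x : P) : Prop :=
  x * r.t = r.t * x ∧ ∃ b, ∀ w, act x (r.ι w) = act (r.a b) (r.ι w)

/-- The elements trivial on the axis and on the quotient by the fixed points. -/
def Triv {F : Type} [Field F] (r : Root act F) (x : P) : Prop :=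
  (∀ u, act x (r.u0 u) = r.u0 u) ∧ ∀ v, r.p1 (act x v) = r.p1 v

/-- A vector fixed by a nontrivial element of a member is fixed by the member. -/
theorem IsMember.fix_of_ne_one (hs : Setting act T M) {Y : Subgroup P} (hY : IsMember act p Y) {y : P}
    (hy : y ∈ Y) (hy1 : y ≠ 1) {v : V} (hv : act y v = v) : v ∈ fix act Y := by
  obtain ⟨g, hg⟩ := exists_sylow_conj_le T hY.isPGroup
  obtain ⟨F, i1, i2, r, D, k, hrA, -⟩ := exists_root hs (hY.conj g) hg
  obtain ⟨b, hb⟩ := Root.mem_A.1 (hrA.ge (conj_mem_conj (g := g) hy))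
  have hb' : r.a b = g * y * g⁻¹ := hb
  have hb0 : b ≠ 0 := fun h => hy1 (by
    rw [h, r.a_zero] at hb'
    calc y = g⁻¹ * (g * y * g⁻¹) * g := by group
      _ = 1 := by rw [← hb']; group)
  have h1 : act (r.a b) (act g v) = act g v := by
    rw [hb', ← act_mul, show g * y * g⁻¹ * g = g * y by group, act_mul, hv]
  rw [r.act_a, add_eq_left] at h1
  have h2 : r.p1 (act g v) = 0 :=
    (mul_eq_zero.1 (r.u0_injective (h1.trans (map_zero r.u0).symm))).resolve_left hb0
  have h3 : act g v ∈ fix act (Y^ᶜg) := by rw [← hrA]; exact (r.mem_fix_A _).2 h2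
  rwa [mem_fix_conj, act_inv] at h3

omit [Finite P] [Finite V] in
theorem IsMember.card_member {A Y : Subgroup P} (hA : IsMember act p A) (hY : IsMember act p Y) :
    Nat.card Y = Nat.card A := le_antisymm (hY.min A hA.toIsOff) (hA.min Y hY.toIsOff)

/-- The datum. -/
structure Datum (act : P →* AddMonoid.End V) (p : ℕ) (M : Subgroup P) {F : Type} [Field F]
    (r : Root act F) (D : Subgroup P) : Prop where
  mem : IsMember act p r.A
  gen : ∀ B : Subgroup P, (∀ Y, IsMember act p Y → Y ≤ D → Y ≤ B) → D ≤ B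
  cen : ∀ d ∈ D, ∀ g, d * r.emb g = r.emb g * d
  pg : IsPGroup p ↥(r.A ⊔ D)
  notle : ∀ c, r.A ⊔ D ≤ M^ᶜc → ¬ r.emb.range ≤ M^ᶜc
  maxD : ∀ Y, IsMember act p Y → (∀ y ∈ Y, ∀ g, y * r.emb g = r.emb g * y) →
    IsPGroup p ↥(D ⊔ Y) → Y ≤ D

/-- A member in `T` extends to a datum. -/
theorem exists_datum (hs : Setting act T M) {A : Subgroup P} (hA : IsMember act p A)
    (hAT : A ≤ (T : Subgroup P)) :
    ∃ (F : Type) (_ : Field F) (_ : Fintype F) (r : Root act F) (D : Subgroup P),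
      r.A = A ∧ Datum act p M r D := by
  obtain ⟨F, i1, i2, r, D0, k, hrA, hgen, hcen, hM0, hE, hpg, hpin⟩ := exists_root hs hA hAT
  set S : Set (Subgroup P) := {D | (∀ B : Subgroup P, (∀ Y, IsMember act p Y → Y ≤ D → Y ≤ B) → D ≤ B) ∧
    D0 ≤ D ∧ (∀ d ∈ D, ∀ g, d * r.emb g = r.emb g * d) ∧ IsPGroup p D}
  obtain ⟨D, ⟨hD1, hD2, hD3, hD4⟩, hmax⟩ := Set.Finite.exists_maximal (Set.toFinite S)
    ⟨D0, hgen, le_rfl, hcen, hpg.to_le le_sup_right⟩
  refine ⟨F, i1, i2, r, D, hrA, hrA ▸ hA, hD1, hD3, ?_, ?_, ?_⟩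
  · refine ((hrA ▸ hA : IsMember act p r.A).isPGroup).to_sup_of_normal_right' hD4 fun x hx => ?_
    obtain ⟨b, rfl⟩ := Root.mem_A.1 hx
    rw [mem_normalizer_iff]
    refine fun d => ⟨fun hd => by rwa [← hD3 d hd, mul_inv_cancel_right], fun hd => ?_⟩
    have h1 := hD3 _ hd (CfsgLib.LocalEvenB.upU b)
    rw [inv_mul_cancel_right, mul_left_cancel_iff] at h1
    rw [← h1] at hd
    exact h1 ▸ hd
  · intro c hc hle
    rw [hpin c ((sup_le_sup_left hD2 _).trans hc)] at hle
    exact hE hle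
  · intro Y hY hYc hYp
    refine le_sup_right.trans (hmax ⟨fun B hB => sup_le ?_ (hB Y hY le_sup_right),
      hD2.trans le_sup_left, ?_, hYp⟩ le_sup_left)
    · exact hD1 B fun Z hZ hZD => hB Z hZ (hZD.trans le_sup_left)
    · intro d hd g
      exact ((sup_le (fun x hx => mem_centralizer_singleton_iff.2 (hD3 x hx g))
        (fun x hx => mem_centralizer_singleton_iff.2 (hYc x hx g)) :
          D ⊔ Y ≤ Subgroup.centralizer {r.emb g}) hd |> mem_centralizer_singleton_iff.1)

variable {F : Type} [Field F] {r : Root act F} {D : Subgroup P}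

omit [Finite V] in
theorem Datum.conj (h : Datum act p M r D) (g : P) : Datum act p M (r.conj g) (D^ᶜg) where
  mem := by rw [r.conj_A]; exact h.mem.conj g
  gen B hB := map_le_iff_le_comap.2 (h.gen _ fun Y hY hYD =>
    map_le_iff_le_comap.1 (hB _ (hY.conj g) (map_mono hYD)))
  cen := by
    rintro _ ⟨d, hd, rfl⟩ e
    show g * d * g⁻¹ * (g * r.emb e * g⁻¹) = g * r.emb e * g⁻¹ * (g * d * g⁻¹)
    rw [show g * d * g⁻¹ * (g * r.emb e * g⁻¹) = g * (d * r.emb e) * g⁻¹ by group, h.cen d hd e]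
    group
  pg := by rw [r.conj_A, ← Subgroup.map_sup]; exact h.pg.map _
  notle c hc hle := by
    rw [r.conj_A, ← Subgroup.map_sup] at hc
    have e : ∀ X : Subgroup P, (X^ᶜg)^ᶜg⁻¹ = X := fun X => by rw [conj_conj, inv_mul_cancel, conj_one]
    have hc' := map_mono (f := (MulAut.conj g⁻¹).toMonoidHom) hc
    rw [e, conj_conj] at hc'
    have hle' := map_mono (f := (MulAut.conj g⁻¹).toMonoidHom) hle
    rw [show (r.conj g).emb.range = r.emb.range^ᶜg from (MonoidHom.map_range _ _).symm, e, conj_conj] at hle'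
    exact h.notle _ hc' hle'
  maxD Y hY hYc hYp := by
    have e : (Y^ᶜg⁻¹)^ᶜg = Y := by rw [conj_conj, mul_inv_cancel, conj_one]
    rw [← e] at hYp ⊢
    refine map_mono (h.maxD _ (hY.conj g⁻¹) ?_ ?_)
    · intro y hy s
      rw [mem_conj, inv_inv] at hy
      have h1 : g * y * g⁻¹ * (g * r.emb s * g⁻¹) = g * r.emb s * g⁻¹ * (g * y * g⁻¹) := hYc _ hy s
      rw [show g * y * g⁻¹ * (g * r.emb s * g⁻¹) = g * (y * r.emb s) * g⁻¹ by group,
        show g * r.emb s * g⁻¹ * (g * y * g⁻¹) = g * (r.emb s * y) * g⁻¹ by group] at h1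
      exact mul_left_cancel (mul_right_cancel h1)
    · refine IsPGroup.of_equiv ?_ ((D ⊔ Y^ᶜg⁻¹).equivMapOfInjective (MulAut.conj g).toMonoidHom
        (MulAut.conj g).injective).symm
      rw [Subgroup.map_sup]
      exact hYp

omit [Finite P] [Finite V] in
theorem Datum.A_le_normalizer (h : Datum act p M r D) : r.A ≤ normalizer (D : Set P) := by
  intro x hx
  obtain ⟨b, rfl⟩ := Root.mem_A.1 hx
  rw [mem_normalizer_iff]
  refine fun d => ⟨fun hd => by rwa [← h.cen d hd, mul_inv_cancel_right], fun hd => ?_⟩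
  have h1 := h.cen _ hd (CfsgLib.LocalEvenB.upU b)
  rw [inv_mul_cancel_right, mul_left_cancel_iff] at h1
  rw [← h1] at hd
  exact h1 ▸ hd

omit [Finite P] [Finite V] in
theorem Datum.mem_sup (h : Datum act p M r D) {x : P} (hx : x ∈ r.A ⊔ D) :
    ∃ b, ∃ d ∈ D, x = r.a b * d := by
  rw [← SetLike.mem_coe, coe_mul_of_left_le_normalizer_right r.A D h.A_le_normalizer] at hx
  obtain ⟨a, ha, d, hd, rfl⟩ := hx
  obtain ⟨b, rfl⟩ := Root.mem_A.1 ha
  exact ⟨b, d, hd, rfl⟩

theorem Setting.two (hs : Setting act T M) (v : V) (h : v + v = 0) : v = 0 :=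
  eq_zero_of_add_self hs.odd hs.hpV v h

theorem eq_one_of_pow {p : ℕ} [Fact p.Prime] [CharP F p] {l : F} {n : ℕ} (h : l ^ p ^ n = 1) : l = 1 := by
  have h1 : (l - 1) ^ p ^ n = 0 := by rw [sub_pow_char_pow, h, one_pow, sub_self]
  exact sub_eq_zero.1 (eq_zero_of_pow_eq_zero h1)

/-- A scalar of `p`-power order is trivial. -/
theorem scalar_eq_one (hs : Setting act T M) (r : Root act F) {x : P} {n : ℕ} (hn : x ^ p ^ n = 1)
    {l : F} (hl : ∀ w, act x (r.ι w) = r.ι (l • w)) : l = 1 := by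
  haveI := r.charP hs.hpV
  refine eq_one_of_pow (n := n) ?_
  have hpow : ∀ (m : ℕ) w, act (x ^ m) (r.ι w) = r.ι (l ^ m • w) := by
    intro m
    induction m with
    | zero => intro w; rw [pow_zero, act_one, pow_zero, one_smul]
    | succ m ih => intro w; rw [pow_succ', act_mul, ih, hl, smul_smul, pow_succ']
  have h1 := congrArg (fun v => r.π v 0) (hpow (p ^ n) ![1, 0])
  rw [hn, act_one] at h1
  simp only [r.πι, Pi.smul_apply, smul_eq_mul, cons_val_zero, mul_one] at h1
  exact h1.symm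

theorem Datum.D_ι (hs : Setting act T M) (h : Datum act p M r D) {d : P} (hd : d ∈ D)
    (w : Fin 2 → F) : act d (r.ι w) = r.ι w := by
  obtain ⟨l, hl⟩ := r.scalar hs.two (h.cen d hd)
  obtain ⟨n, hn⟩ := h.pg ⟨d, mem_sup_right hd⟩
  rw [hl, scalar_eq_one hs r (congrArg Subtype.val hn) hl, one_smul]

omit [Finite P] [Finite V] in
theorem a_eq_zero_of_comm (r : Root act F) {b : F} (hc : r.a b * r.low 1 = r.low 1 * r.a b) : b = 0 := by
  have h1 := congrArg (fun x => r.p0 (act x (r.u0 1))) hc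
  simp only [act_mul, r.act_low, r.act_a, map_add, r.p0_u0, r.p1_u0, r.p1_l0, r.p0_l0, mul_one,
    zero_add, add_zero, mul_zero, map_zero] at h1
  linear_combination h1

theorem Datum.A_not_le (hs : Setting act T M) (h : Datum act p M r D) : ¬ r.A ≤ D := fun hle =>
  one_ne_zero (a_eq_zero_of_comm r (h.cen _ (hle (r.a_mem 1)) _))

/-- A member of nice elements is the root group or centralises the subgroup. -/
theorem classify (hs : Setting act T M) (hA : IsMember act p r.A) {Y : Subgroup P}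
    (hY : IsMember act p Y) (hN : ∀ y ∈ Y, Nice r y) :
    Y = r.A ∨ ∀ y ∈ Y, ∀ g, y * r.emb g = r.emb g * y := by
  classical
  by_cases h2 : ∃ y ∈ Y, y ≠ 1 ∧ ∀ v, r.π v = 0 → act y v = v
  · obtain ⟨y, hy, hy1, hyK⟩ := h2
    left
    refine eq_of_le_of_card_ge ?_ (hA.card_member hY).ge
    intro z hz
    obtain ⟨hzt, b, hb⟩ := hN z hz
    have hzK : ∀ v, r.π v = 0 → act z v = v := fun v hv => hY.fix_of_ne_one hs hy hy1 (hyK v hv) z hz
    refine Root.mem_A.2 ⟨b, hs.inj (AddMonoidHom.ext fun v => ?_)⟩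
    show act (r.a b) v = act z v
    have hv : r.ι (r.π v) + r.kp v = v := by rw [r.kp_def]; abel
    conv_rhs => rw [← hv, map_add, hb, hzK _ (r.π_kp v)]
    conv_lhs => rw [← hv, map_add]
    congr 1
    exact r.emb_kp _ (r.π_kp v)
  push Not at h2
  by_cases h1 : ∃ y ∈ Y, y ≠ 1 ∧ ∀ w, act y (r.ι w) = r.ι w
  · obtain ⟨y, hy, hy1, hyW⟩ := h1
    right
    intro z hz
    exact r.comm_emb hs.inj hs.two (hN z hz).1 fun w => hY.fix_of_ne_one hs hy hy1 (hyW w) z hz
  push Not at h1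
  exfalso
  obtain ⟨y, hy, hy1⟩ := (Subgroup.ne_bot_iff_exists_ne_one.1 hY.ne |> fun ⟨y, hy⟩ =>
    (⟨y, y.2, fun e => hy (Subtype.ext e)⟩ : ∃ y ∈ Y, y ≠ 1))
  obtain ⟨hyt, b, hb⟩ := hN y hy
  have hb0 : b ≠ 0 := fun e => by
    obtain ⟨w, hw⟩ := h1 y hy hy1
    exact hw (by rw [hb, e, r.a_zero, act_one])
  obtain ⟨v0, hv0, hv0'⟩ := h2 y hy hy1
  have hle : fix act Y ≤ fix act r.A := by
    intro v hv
    have hπ : r.π (act y v) = r.π v := by rw [hv y hy]
    have hvv : r.ι (r.π v) + r.kp v = v := by rw [r.kp_def]; abel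
    rw [r.mem_fix_A]
    have h3 : r.p0 (act y v) = r.p0 v + b * r.p1 v := by
      conv_lhs => rw [← hvv, map_add, hb, r.act_a, map_add, map_add, r.p0_u0]
      rw [show r.p0 (act y (r.kp v)) = 0 from
        ((r.π_zero_iff _).1 ((r.comm_t hs.two hyt).1 _ (r.π_kp v))).1, add_zero]
      show r.π (r.ι _) 0 + b * r.π (r.ι _) 1 = _
      rw [r.πι]; rfl
    rw [hv y hy, left_eq_add] at h3
    exact (mul_eq_zero.1 h3).resolve_left hb0
  have hne : fix act Y ≠ fix act r.A := fun e =>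
    hv0' ((e.ge ((r.mem_fix_A v0).2 ((r.π_zero_iff v0).1 hv0).2)) y hy)
  have hlt : Nat.card (fix act Y) < Nat.card (fix act r.A) :=
    lt_of_le_of_ne (Nat.card_le_card_of_injective _ (AddSubgroup.inclusion_injective hle))
      fun e => hne (AddSubgroup.eq_of_le_of_card_ge hle e.ge)
  have h4 := hY.card_eq hs.inj hs.hpV
  rw [hA.card_member hY, hA.card_eq hs.inj hs.hpV] at h4
  exact hlt.ne' (Nat.eq_of_mul_eq_mul_left Nat.card_pos h4)

/-- The members of the pinned group. -/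
theorem Datum.members (hs : Setting act T M) (h : Datum act p M r D) {Y : Subgroup P}
    (hY : IsMember act p Y) (hle : Y ≤ r.A ⊔ D) : Y = r.A ∨ Y ≤ D := by
  refine (classify hs h.mem hY fun y hy => ?_).imp_right fun hc y hy => ?_
  · obtain ⟨b, d, hd, rfl⟩ := h.mem_sup (hle hy)
    refine ⟨?_, b, fun w => by rw [act_mul, h.D_ι hs hd]⟩
    have hat : r.a b * r.t = r.t * r.a b := by
      refine hs.inj (AddMonoidHom.ext fun v => ?_)
      show act (r.a b * r.t) v = act (r.t * r.a b) v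
      rw [act_mul, act_mul, r.act_a, r.act_t, r.act_t, r.act_a]
      simp only [map_add, map_sub, r.p0_u0, r.p1_u0, r.p1_l0, r.p1_kp, r.kp_u0, r.p0_kp, r.p0_l0, sub_zero,
        zero_sub, add_zero, zero_add, mul_neg, map_neg, map_zero]
      abel
    rw [mul_assoc, show d * r.t = r.t * d from h.cen d hd _, ← mul_assoc, hat, mul_assoc]
  · obtain ⟨b, d, hd, rfl⟩ := h.mem_sup (hle hy)
    have h1 := hc _ hy (CfsgLib.LocalEvenB.loU (1 : F))
    rw [mul_assoc, h.cen d hd, ← mul_assoc, ← mul_assoc, mul_right_cancel_iff] at h1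
    rw [a_eq_zero_of_comm r h1, r.a_zero, one_mul]
    exact hd

end CfsgLib.Techniques.FocalOdd
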