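import Cfsg.Agent.Lib.Techniques.FocalOdd.Shear

/-!
# The members of a Sylow subgroup over a datum
-/

set_option autoImplicit false
set_option linter.all false
set_option maxHeartbeats 1000000

namespace CfsgLib.Techniques.FocalOdd

open Subgroup Matrix CfsgLib.LocalEven CfsgLib.LocalEven.OffSL2
open scoped MatrixGroups

variable {P V : Type*} [Group P] [AddCommGroup V] [Finite P] [Finite V] {p : ℕ} [hp : Fact p.Prime]
  {act : P →* AddMonoid.End V} {T : Sylow p P} {M : Subgroup P} {F : Type} [Field F] {r : Root act F}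
  {D : Subgroup P}

local notation:max X:max "^ᶜ" g:max => Subgroup.map (MulEquiv.toMonoidHom (MulAut.conj g)) X

theorem exists_sl_moving {w w' : Fin 2 → F} (hw : w ≠ 0) (hw' : w' ≠ 0) :
    ∃ g : SL(2, F), (g : Matrix (Fin 2) (Fin 2) F) *ᵥ w = w' := by
  obtain ⟨s, hs⟩ := exists_moving hw
  obtain ⟨s', hs'⟩ := exists_moving hw'
  refine ⟨s' * s⁻¹, ?_⟩
  rw [← hs, sl_mulVec, ← sl_mulVec s⁻¹ s, inv_mul_cancel, sl_one_mulVec, hs']

/-- A `p`-group over the pinned group does not catch the summand in its commutators. -/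
theorem Datum.not_ι_le_comm (hs : Setting act T M) (h : Datum act p M r D) {R : Subgroup P}
    (hR : IsPGroup p R) (hP : r.A ⊔ D ≤ R) (hW : ∀ w, r.ι w ∈ comm act R) : False := by
  haveI := hs.nontrivialV
  obtain ⟨g, hg⟩ := exists_sylow_conj_le T hR
  set S := (T : Subgroup P)^ᶜg⁻¹ with hS
  have hRS : R ≤ S := fun x hx => ⟨g * x * g⁻¹, hg (conj_mem_conj hx), by simp [mul_assoc]⟩
  have hWS : ∀ w, r.ι w ∈ comm act S := fun w => (AddSubgroup.closure_mono (fun v => by
    rintro ⟨a, ha, u, rfl⟩; exact ⟨a, hRS ha, u, rfl⟩) : comm act R ≤ comm act S) (hW w)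
  refine h.notle g⁻¹ (hP.trans (hRS.trans (map_mono hs.hM.2))) ?_
  rintro _ ⟨e, rfl⟩
  refine hs.stabS_le (fun x hx => ?_) (comm_ne_top hs.hpV (T.2.map _)) fun e0 => ?_
  · rw [r.act_emb]
    exact add_mem (sub_mem hx (hWS _)) (hWS _)
  · refine one_ne_zero (α := F) (r.u0_injective ?_)
    rw [map_zero]
    exact AddSubgroup.mem_bot.1 (e0 ▸ hWS ![1, 0])

/-- A `p`-group over the pinned group fixes a vector with nonzero part in the summand. -/
theorem Datum.exists_fixed_π (hs : Setting act T M) (h : Datum act p M r D) {R : Subgroup P}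
    (hR : IsPGroup p R) (hP : r.A ⊔ D ≤ R) : ∃ z, z ∈ fix act R ∧ r.π z ≠ 0 := by
  haveI := hs.nontrivialV
  by_contra hall
  push Not at hall
  obtain ⟨g, hg⟩ := exists_sylow_conj_le T hR
  set S := (T : Subgroup P)^ᶜg⁻¹ with hS
  have hRS : R ≤ S := fun x hx => ⟨g * x * g⁻¹, hg (conj_mem_conj hx), by simp [mul_assoc]⟩
  obtain ⟨z, hz, hz0⟩ := exists_fixed (act := act) hs.hpV (T.2.map (MulAut.conj g⁻¹).toMonoidHom)
  refine h.notle g⁻¹ (hP.trans (hRS.trans (map_mono hs.hM.2))) ?_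
  rintro _ ⟨e, rfl⟩
  exact hs.stabV_le hz0 hz (r.emb_kp e (hall z (fix_anti hRS hz)))

/-- The elements of `D` preserve the coordinates in the summand. -/
theorem Datum.π_D (hs : Setting act T M) (h : Datum act p M r D) {d : P} (hd : d ∈ D) (v : V) :
    r.π (act d v) = r.π v := by
  have hv : r.ι (r.π v) + r.kp v = v := by rw [r.kp_def]; abel
  conv_lhs => rw [← hv, map_add, map_add, h.D_ι hs hd, r.πι,
    (r.comm_t hs.two (h.cen d hd _)).1 _ (r.π_kp v), add_zero]

/-- An element of a member normalising the pinned group. -/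
theorem step_elem (hs : Setting act T M) (h : Datum act p M r D) {Y : Subgroup P}
    (hY : IsMember act p Y) (hn : Y ≤ normalizer ((r.A ⊔ D : Subgroup P) : Set P)) {b : P} (hb : b ∈ Y) :
    Nice r b := by
  classical
  have hq : ∀ v, act b (act b v - v) = act b v - v := fun v => (hY.quad hs.inj hs.hpV b hb v) b hb
  have hqq : ∀ v, act b (act b v) - act b v - act b v + v = 0 := fun v => by
    have := hq v
    rw [map_sub] at this
    linear_combination (norm := abel) this
  have hmem : ∀ g ∈ normalizer ((r.A ⊔ D : Subgroup P) : Set P), r.A^ᶜg ≤ r.A ⊔ D := fun g hg =>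
    (map_mono le_sup_left).trans (mem_normalizer_conj_iff.1 hg).le
  -- the image of the axis
  have hax : ∀ g ∈ normalizer ((r.A ⊔ D : Subgroup P) : Set P), r.A^ᶜg = r.A ∨
      r.π (act g (r.u0 1)) = 0 := by
    intro g hg
    refine (h.members hs (h.mem.conj g) (hmem g hg)).imp_right fun hD => ?_
    have hd : g * r.a 1 * g⁻¹ ∈ D := hD (conj_mem_conj (g := g) (r.a_mem 1))
    have h1 := h.π_D hs hd (act g (r.l0 1))
    rw [← act_mul, inv_mul_cancel_right, act_mul, r.act_a, r.p1_l0, one_mul, map_add, map_add,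
      add_eq_left] at h1
    exact h1
  have hbn := hn hb
  have hA : r.A^ᶜb = r.A := by
    refine (hax b hbn).elim id fun h1 => ?_
    rcases hax (b * b) (mul_mem hbn hbn) with h2 | h2
    · have hb2 : b * b ∈ normalizer (r.A : Set P) := mem_normalizer_conj_iff.2 h2
      have hpow : b ^ p = 1 := hY.pow b hb
      obtain ⟨m, hm⟩ := hp.out.odd_of_ne_two hs.odd
      have h3 : (b * b) ^ (m + 1) = b := by
        rw [← pow_two, ← pow_mul, show 2 * (m + 1) = p + 1 by omega, pow_succ, hpow, one_mul]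
      rw [← h3]
      exact mem_normalizer_conj_iff.1 (pow_mem hb2 _)
    · exfalso
      have h3 := congrArg r.π (hqq (r.u0 1))
      rw [act_mul] at h2
      rw [map_add, map_sub, map_sub, h2, h1, map_zero, sub_zero, sub_zero, zero_add] at h3
      exact one_ne_zero (α := F) (by rw [← r.p0_u0 1]; exact congrFun h3 0)
  have hDb : D^ᶜb = D := by
    refine eq_of_le_of_card_ge (map_le_iff_le_comap.2 (h.gen _ fun Z hZ hZD => map_le_iff_le_comap.1 ?_))
      (card_map_of_injective (MulAut.conj b).injective).ge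
    refine (h.members hs (hZ.conj b) ((map_mono (hZD.trans le_sup_right)).trans
      (mem_normalizer_conj_iff.1 hbn).le)).resolve_left fun e => h.A_not_le hs ?_
    have : Z = r.A := map_injective (MulAut.conj b).injective (e.trans hA.symm)
    exact this.ge.trans hZD
  have htriv : Triv r b := triv_of_quad hs hA hq
  refine linearise hs h.mem htriv ?_
  -- the commutator with the involution
  set n : V →+ V := AddMonoidHom.mk' (fun v => act b v - v) (fun u v => by rw [map_add]; abel) with hndef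
  have hn' : ∀ v, act b v = v + n v := fun v => by
    show act b v = v + (act b v - v)
    abel
  have hnn : ∀ v, n (n v) = 0 := fun v => by
    show act b (act b v - v) - (act b v - v) = 0
    rw [hq, sub_self]
  have hp1 : ∀ v, r.p1 (n v) = 0 := fun v => by
    show r.p1 (act b v - v) = 0
    rw [map_sub, htriv.2, sub_self]
  have hnu : ∀ u, n (r.u0 u) = 0 := fun u => by
    show act b (r.u0 u) - r.u0 u = 0
    rw [htriv.1, sub_self]
  set f : V →+ V := r.u0.comp (r.p0.comp (n.comp r.kp)) with hf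
  set g : V →+ V := r.kp.comp (n.comp (r.ι.comp r.π)) with hg
  have hN : ∀ v, n v = r.u0 (r.p0 (n v)) + r.kp (n v) := fun v => by
    conv_lhs => rw [← r.decomp (n v), hp1, map_zero, add_zero]
  have hnk : ∀ v, n (r.kp (n v)) = 0 := fun v => by
    have h1 := hnn v
    rw [hN v, map_add, hnu, zero_add] at h1
    exact h1
  have hbi : b⁻¹ = b ^ (p - 1) := inv_eq_of_mul_eq_one_right (by
    rw [← pow_succ', Nat.sub_add_cancel hp.out.one_le, hY.pow b hb])
  have hinv : ∀ v, act b⁻¹ v = v - n v := fun v => act_injective act b (by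
    rw [act_inv', map_sub, hn' v, hn' (n v), hnn]; abel)
  set r1 := b * r.t * b⁻¹ * r.t with hr1
  have hnt : ∀ v, n (act r.t v) = n (r.kp v) - n (r.ι (r.π v)) := fun v => by
    rw [← map_sub, r.act_t, r.ι_eq]
    show n (r.kp v - r.u0 (r.p0 v) - r.l0 (r.p1 v)) = n (r.kp v - (r.u0 (r.p0 v) + r.l0 (r.p1 v)))
    rw [sub_sub]
  have hr1v : ∀ v, act r1 v = v + (f v + f v) + (g v + g v) := by
    intro v
    rw [hr1, act_mul, act_mul, act_mul, hinv, map_sub]
    have htt : act r.t (act r.t v) = v := by rw [← act_mul, r.t_mul_t, act_one]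
    rw [htt, map_sub, hn' v, hn' (act r.t (n (act r.t v)))]
    have h1 : ∀ u, act r.t (n u) = r.kp (n u) - r.u0 (r.p0 (n u)) := fun u => by
      rw [r.act_t, hp1, map_zero, sub_zero]
    rw [h1, map_sub n, hnk, hnu, sub_zero, add_zero]
    have hv : n v = n (r.ι (r.π v)) + n (r.kp v) := by
      rw [← map_add, r.kp_def]; congr 1; abel
    have hgk : ∀ u, r.π u = 0 → r.p0 u = 0 := fun u hu => ((r.π_zero_iff u).1 hu).1
    show _ = v + (r.u0 (r.p0 (n (r.kp v))) + r.u0 (r.p0 (n (r.kp v)))) +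
      (r.kp (n (r.ι (r.π v))) + r.kp (n (r.ι (r.π v))))
    rw [hnt, map_sub r.kp, map_sub r.p0, map_sub r.u0, hv]
    conv_lhs => rw [hN (r.ι (r.π v)), hN (r.kp v)]
    simp only [map_add, r.kp_u0, r.kp_kp, r.p0_u0, r.p0_kp, add_zero, zero_add]
    abel
  have hgπ : ∀ v, r.π (g v) = 0 := fun v => r.π_kp _
  have hg0 : ∀ v, r.π v = 0 → g v = 0 := fun v hv => by
    show r.kp (n (r.ι (r.π v))) = 0
    rw [hv, map_zero, map_zero, map_zero]
  have hgι : ∀ v, g (r.ι (r.π v)) = g v := fun v => by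
    show r.kp (n (r.ι (r.π (r.ι (r.π v))))) = _
    rw [r.πι]; rfl
  have hfg : ∀ v, f (g v) = 0 := fun v => by
    show r.u0 (r.p0 (n (r.kp (g v)))) = 0
    rw [r.kp_eq_self (hgπ v)]
    show r.u0 (r.p0 (n (r.kp (n _)))) = 0
    rw [hnk, map_zero, map_zero]
  -- conjugates
  have hconj : ∀ e v, act (r.emb e * r1 * (r.emb e)⁻¹) v - v =
      act (r.emb e) (f (act (r.emb e)⁻¹ v) + f (act (r.emb e)⁻¹ v)) +
        (g (act (r.emb e)⁻¹ v) + g (act (r.emb e)⁻¹ v)) := by
    intro e v
    rw [act_mul, act_mul, hr1v, map_add, map_add (act (r.emb e)), act_inv']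
    rw [r.emb_kp e (v := g _ + g _) (by rw [map_add, hgπ, add_zero])]
    abel
  have hkpi : ∀ e v, r.kp (act (r.emb e)⁻¹ v) = r.kp v := fun e v => by
    rw [← map_inv]; exact r.kp_emb _ v
  have hfk : ∀ v, f (r.kp v) = f v := fun v => by
    show r.u0 (r.p0 (n (r.kp (r.kp v)))) = _
    rw [r.kp_kp]; rfl
  set C1 := g.range with hC1
  set C2 := f.ker with hC2
  have hC : C1 ≤ C2 := by
    rintro _ ⟨v, rfl⟩; exact hfg v
  set S := Set.range fun e : SL(2, F) => r.emb e * r1 * (r.emb e)⁻¹ with hS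
  have hSp : IsPGroup p (Subgroup.closure S) := by
    refine chain_isPGroup hs.inj hs.odd hs.hpV hC S ?_
    rintro _ ⟨e, rfl⟩
    have hf' : ∀ v, f v = 0 → f (act (r.emb e)⁻¹ v) = 0 := fun v hv => by
      rw [← hfk, hkpi, hfk, hv]
    refine ⟨?_, fun v hv => ?_, fun v => ?_⟩
    · rintro _ ⟨u, rfl⟩
      have e1 : act (r.emb e)⁻¹ (g u) = g u := by rw [← map_inv]; exact r.emb_kp _ (hgπ u)
      rw [← sub_eq_zero, hconj, e1, hfg, hg0 _ (hgπ u)]
      simp
    · rw [hconj, hf' v hv, add_zero, map_zero, zero_add]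
      exact ⟨_, map_add g _ _⟩
    · rw [hconj]
      refine add_mem ?_ (hC ⟨_, map_add g _ _⟩)
      show f _ = 0
      rw [← hfk, r.kp_emb, map_add r.kp]
      show f (r.kp (r.u0 _) + r.kp (r.u0 _)) = 0
      rw [r.kp_u0, add_zero, map_zero]
  have hA1 : r.A ≤ normalizer ((Subgroup.closure S : Subgroup P) : Set P) := r.A_eq_iff.2 fun c => by
    rw [mem_normalizer_conj_iff, MonoidHom.map_closure]
    congr 1
    ext y
    constructor
    · rintro ⟨_, ⟨e, rfl⟩, rfl⟩
      refine ⟨CfsgLib.LocalEvenB.upU c * e, ?_⟩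
      show r.emb _ * r1 * (r.emb _)⁻¹ = r.a c * (r.emb e * r1 * (r.emb e)⁻¹) * (r.a c)⁻¹
      rw [map_mul, Root.a, _root_.mul_inv_rev]
      group
    · rintro ⟨e, rfl⟩
      refine ⟨_, ⟨(CfsgLib.LocalEvenB.upU c)⁻¹ * e, rfl⟩, ?_⟩
      show r.a c * (r.emb _ * r1 * (r.emb _)⁻¹) * (r.a c)⁻¹ = _
      rw [map_mul, map_inv, Root.a, _root_.mul_inv_rev, inv_inv]
      group
  have hdr : ∀ d ∈ D, d * r1 = r1 * d := by
    intro d hd
    have hd' : b⁻¹ * d * b ∈ D := mem_conj.1 (hDb.ge hd)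
    have e1 : d * r.t = r.t * d := h.cen d hd _
    have e2 : b⁻¹ * d * b * r.t = r.t * (b⁻¹ * d * b) := h.cen _ hd' _
    have e3 : d * (b * r.t * b⁻¹) = (b * r.t * b⁻¹) * d := by
      calc d * (b * r.t * b⁻¹) = b * (b⁻¹ * d * b * r.t) * b⁻¹ := by group
        _ = b * (r.t * (b⁻¹ * d * b)) * b⁻¹ := by rw [e2]
        _ = _ := by group
    rw [hr1, ← mul_assoc, e3, mul_assoc, e1, ← mul_assoc]
  have hD1 : D ≤ normalizer ((Subgroup.closure S : Subgroup P) : Set P) := by
    intro d hd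
    rw [mem_normalizer_conj_iff, MonoidHom.map_closure]
    congr 1
    have key : ∀ e, d * (r.emb e * r1 * (r.emb e)⁻¹) * d⁻¹ = r.emb e * r1 * (r.emb e)⁻¹ := fun e => by
      have c1 : d * r.emb e = r.emb e * d := h.cen d hd e
      have c2 : d * (r.emb e)⁻¹ = (r.emb e)⁻¹ * d := by rw [← map_inv]; exact h.cen d hd _
      rw [← mul_assoc, ← mul_assoc, c1, mul_assoc (r.emb e) d, hdr d hd, ← mul_assoc (r.emb e),
        mul_assoc _ d (r.emb e)⁻¹, c2, ← mul_assoc, mul_inv_cancel_right]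
    ext y
    constructor
    · rintro ⟨_, ⟨e, rfl⟩, rfl⟩
      exact ⟨e, (key e).symm⟩
    · rintro ⟨e, rfl⟩
      exact ⟨_, ⟨e, rfl⟩, key e⟩
  set R := (r.A ⊔ D) ⊔ Subgroup.closure S with hR
  have hRp : IsPGroup p R := h.pg.to_sup_of_normal_right' hSp (sup_le hA1 hD1)
  have hrR : ∀ e, r.emb e * r1 * (r.emb e)⁻¹ ∈ R := fun e => mem_sup_right (subset_closure ⟨e, rfl⟩)
  have hfzero : ∀ v, f v = 0 := by
    intro v
    by_contra hv
    refine h.not_ι_le_comm hs hRp le_sup_left fun w => ?_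
    by_cases hw : w = 0
    · rw [hw, map_zero]; exact zero_mem _
    set c := r.p0 (n (r.kp v)) with hc
    have hc0 : c + c ≠ 0 := fun e => hv (by
      show r.u0 c = 0
      refine hs.two _ ?_
      rw [← map_add, e, map_zero])
    obtain ⟨e, he⟩ := exists_sl_moving (w := ![c + c, 0]) (fun e => hc0 (congrFun e 0)) hw
    refine AddSubgroup.subset_closure ⟨_, hrR e, r.kp v, ?_⟩
    rw [hconj, show act (r.emb e)⁻¹ (r.kp v) = r.kp v by rw [← map_inv]; exact r.emb_kp _ (r.π_kp v),
      hg0 _ (r.π_kp v), add_zero, add_zero, hfk]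
    show r.ι w = act (r.emb e) (r.u0 c + r.u0 c)
    rw [← map_add r.u0]
    show r.ι w = act (r.emb e) (r.ι ![c + c, 0])
    rw [r.emb_ι, he]
  have hgzero : ∀ v, g v = 0 := by
    intro v
    by_contra hv
    obtain ⟨z, hz, hz0⟩ := h.exists_fixed_π hs hRp le_sup_left
    have hv0 : r.π v ≠ 0 := fun e => hv (hg0 v e)
    obtain ⟨e, he⟩ := exists_sl_moving hz0 hv0
    have h1 := hconj e⁻¹ z
    rw [hz _ (hrR e⁻¹), sub_self, hfzero, add_zero, map_zero, zero_add] at h1
    refine hv (hs.two _ ?_)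
    have h2 : g (act (r.emb e⁻¹)⁻¹ z) = g v := by
      rw [← map_inv, inv_inv, ← hgι (act (r.emb e) z), ← hgι v]
      congr 2
      rw [r.act_emb, map_add, map_sub, r.πι, r.πι, sub_self, zero_add, he]
    rw [h2] at h1
    exact h1.symm
  have h1 : r1 = 1 := hs.inj (AddMonoidHom.ext fun v => by
    show act r1 v = act 1 v
    rw [hr1v, hfzero, hgzero, add_zero, add_zero, add_zero, act_one])
  rw [hr1] at h1
  calc b * r.t = b * r.t * b⁻¹ * r.t * (r.t * b) := by
        rw [← mul_assoc (b * r.t * b⁻¹ * r.t), mul_assoc (b * r.t * b⁻¹), r.t_mul_t, mul_one,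
          inv_mul_cancel_right]
    _ = r.t * b := by rw [h1, one_mul]

/-- A member normalising the pinned group lies in it. -/
theorem step (hs : Setting act T M) (h : Datum act p M r D) {Y : Subgroup P}
    (hY : IsMember act p Y) (hn : Y ≤ normalizer ((r.A ⊔ D : Subgroup P) : Set P)) : Y ≤ r.A ⊔ D := by
  rcases classify hs h.mem hY (fun y hy => step_elem hs h hY hn hy) with e | hc
  · exact e.le.trans le_sup_left
  · exact (h.maxD Y hY hc ((h.pg.to_sup_of_normal_left' hY.isPGroup hn).to_le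
      (sup_le_sup_right le_sup_right _))).trans le_sup_right

/-- The members of a `p`-group over the pinned group lie in it. -/
theorem growth (hs : Setting act T M) (h : Datum act p M r D) {R : Subgroup P} (hR : IsPGroup p R)
    (hP : r.A ⊔ D ≤ R) : R ≤ normalizer ((r.A ⊔ D : Subgroup P) : Set P) ∧
      ∀ Y, IsMember act p Y → Y ≤ R → Y ≤ r.A ⊔ D := by
  set N := R ⊓ normalizer ((r.A ⊔ D : Subgroup P) : Set P) with hN
  have hPN : r.A ⊔ D ≤ N := le_inf hP le_normalizer
  have hN' : N = R := by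
    refine eq_of_normalizer_inf_le hR inf_le_left fun x hx => ⟨hx.1, ?_⟩
    have hxN := mem_normalizer_conj_iff.1 hx.2
    refine mem_normalizer_conj_iff.2 (eq_of_le_of_card_ge (map_le_iff_le_comap.2 ?_)
      (card_map_of_injective (MulAut.conj x).injective).ge)
    have key : ∀ Z, IsMember act p Z → Z ≤ r.A ⊔ D → Z^ᶜx ≤ r.A ⊔ D := fun Z hZ hle =>
      step hs h (hZ.conj x) (((map_mono (hle.trans hPN)).trans hxN.le).trans inf_le_right)
    exact sup_le (map_le_iff_le_comap.1 (key _ h.mem le_sup_left))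
      (h.gen _ fun Z hZ hZD => map_le_iff_le_comap.1 (key Z hZ (hZD.trans le_sup_right)))
  have hle : R ≤ normalizer ((r.A ⊔ D : Subgroup P) : Set P) := hN'.ge.trans inf_le_right
  exact ⟨hle, fun Y hY hYR => step hs h hY (hYR.trans hle)⟩

end CfsgLib.Techniques.FocalOdd
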