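import Cfsg.Agent.Lib.LocalEven.LLemma

/-! The `L`-Lemma with its pinned subgroup. -/

set_option autoImplicit false
set_option linter.all false

namespace CfsgLib.Techniques.FocalOdd

open Subgroup CfsgLib.LocalEven

variable {H : Type*} [Group H] [Finite H] {p : ℕ} [Fact p.Prime]

local notation:max X:max "^ᶜ" g:max => Subgroup.map (MulEquiv.toMonoidHom (MulAut.conj g)) X

/-- The `L`-Lemma. -/
theorem lLemmaD (T : Sylow p H) (hmin : Cfsg.IsMinimalOver (T : Subgroup H)) (M : Subgroup H)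
    (hM : IsCoatom M ∧ (T : Subgroup H) ≤ M) (A : Subgroup H) (hAT : A ≤ (T : Subgroup H))
    (hA : ¬ A ≤ Cfsg.pCore p H) :
    ∃ L : Subgroup H, A ⊔ Cfsg.pCore p H ≤ L ∧ ∃ g : H,
      A ⊔ Cfsg.pCoreOf p L ≤ M^ᶜg ∧ ¬ L ≤ M^ᶜg ∧
      (∀ X : Subgroup H, A ⊔ Cfsg.pCoreOf p L ≤ X → X < L → X ≤ M^ᶜg) ∧
      (∀ x ∈ L, x ∉ M^ᶜg → (A ⊔ A^ᶜx) ⊔ Cfsg.pCoreOf p L = L) ∧
      ∃ D : Subgroup H, D ≤ Cfsg.pCoreOf p L ∧
        (∀ B : Subgroup H, Cfsg.pCore p H ≤ B → (∀ k : H, A^ᶜk ≤ D → A^ᶜk ≤ B) → D ≤ B) ∧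
        ∀ c : H, A ⊔ D ≤ M^ᶜc → M^ᶜc = M^ᶜg := by
  set O := Cfsg.pCore p H with hO
  have hOn : ∀ g : H, O^ᶜg = O := fun g =>
    mem_normalizer_conj_iff.mp (CfsgLib.Core.le_normalizer_of_normal ⊤ O (mem_top g))
  have hOTM : ∀ k, O ≤ M^ᶜk := fun k =>
    (hOn k).ge.trans (map_mono ((CfsgLib.Core.pCore_le_sylow T).trans hM.2))
  set S : Set (Subgroup H) := {D | IsPGroup p D ∧ genConj A O D = D ∧ ∃ a b, M^ᶜa ≠ M^ᶜb ∧ D ≤ M^ᶜa ∧ D ≤ M^ᶜb}
  have hSne : S.Nonempty := by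
    refine ⟨O, CfsgLib.Core.isPGroup_pCore p H, le_antisymm (genConj_le le_rfl) le_sup_left, 1, ?_⟩
    have : ∃ b, M^ᶜ(1 : H) ≠ M^ᶜb := by
      by_contra hall
      push Not at hall
      haveI : M.Normal := ⟨fun n hn g => by
        have h := hall g
        rw [conj_one] at h
        rw [h]; exact conj_mem_conj hn⟩
      exact hM.1.1 (top_le_iff.mp (hmin.1.ge.trans (normalClosure_le_normal hM.2)))
    obtain ⟨b, hb⟩ := this
    exact ⟨b, hb, hOTM 1, hOTM b⟩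
  obtain ⟨D, ⟨hDp, hDgen, a, b, hab, hDa, hDb⟩, hDmax⟩ := Set.Finite.exists_maximal (Set.toFinite S) hSne
  have hmax : ∀ D' : Subgroup H, IsPGroup p D' → genConj A O D' = D' →
      (∃ a b, M^ᶜa ≠ M^ᶜb ∧ D' ≤ M^ᶜa ∧ D' ≤ M^ᶜb) → D ≤ D' → D' ≤ D :=
    fun D' h1 h2 h3 h4 => hDmax ⟨h1, h2, h3⟩ h4
  have hOD : O ≤ D := hDgen ▸ le_sup_left
  obtain ⟨k₁, hk₁n, hP₁p, hP₁a, hpin₁⟩ := exists_pinned_side T hmin hM hAT hA hDp hDgen hmax hab hDa hDb
  obtain ⟨k₂, hk₂n, -, -, hpin₂⟩ := exists_pinned_side T hmin hM hAT hA hDp hDgen hmax hab.symm hDb hDa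
  set P₁ := D ⊔ A^ᶜk₁ with hP₁
  set K := P₁ ⊔ A^ᶜk₂ with hK
  have hKD : K ≤ normalizer (D : Set H) := sup_le (sup_le le_normalizer hk₁n) hk₂n
  have hKa : ¬ K ≤ M^ᶜa := fun h => hab (hpin₂ a (sup_le (le_sup_left.trans (le_sup_left.trans h))
    (le_sup_right.trans h)))
  -- pinned `p`-subgroups
  have hpin : ∀ (X R : Subgroup H), IsPGroup p R → P₁ ≤ R → X ≤ normalizer (R : Set H) → X ≤ M^ᶜa := by
    intro X R hR hPR hX
    obtain ⟨c, hc⟩ := exists_sylow_conj_le T hR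
    have hRc : R ≤ M^ᶜc⁻¹ := by
      have h := map_mono (f := (MulAut.conj c⁻¹).toMonoidHom) (hc.trans hM.2)
      rwa [conj_conj, inv_mul_cancel, conj_one] at h
    have hRa : R ≤ M^ᶜa := hpin₁ _ (hPR.trans hRc) ▸ hRc
    intro x hx
    have h1 : R ≤ M^ᶜ(x * a) := by
      rw [← conj_conj, ← mem_normalizer_conj_iff.mp (hX hx)]; exact map_mono hRa
    have h2 := hpin₁ _ (hPR.trans h1)
    rw [← conj_conj] at h2
    exact mem_conj_of_conj_eq T hmin hM h2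
  obtain ⟨L, ⟨hP₁L, hLK, hLa⟩, hLmin⟩ := Set.Finite.exists_minimal
    (Set.toFinite {L : Subgroup H | P₁ ≤ L ∧ L ≤ K ∧ ¬ L ≤ M^ᶜa}) ⟨K, le_sup_left, le_rfl, hKa⟩
  set Q := Cfsg.pCoreOf p L with hQ
  have hDQ : D ≤ Q :=
    CfsgLib.LocalEvenB.le_pCoreOf (le_sup_left.trans hP₁L) hDp (hLK.trans hKD)
  have hOQ : A^ᶜk₁ ⊔ O ≤ L := sup_le (le_sup_right.trans hP₁L) (hOD.trans (le_sup_left.trans hP₁L))
  have hQa : P₁ ⊔ Q ≤ M^ᶜa := by
    have hp' : IsPGroup p ↥(P₁ ⊔ Q) := hP₁p.to_sup_of_normal_right'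
      (CfsgLib.LocalEvenB.isPGroup_pCoreOf L) (hP₁L.trans (CfsgLib.LocalEvenB.le_normalizer_pCoreOf L))
    exact hpin (P₁ ⊔ Q) (P₁ ⊔ Q) hp' le_sup_left le_normalizer
  have hprop : ∀ X : Subgroup H, A^ᶜk₁ ⊔ Q ≤ X → X < L → X ≤ M^ᶜa := by
    intro X hX hXL
    by_contra hn
    exact hXL.not_ge (hLmin ⟨sup_le (hDQ.trans (le_sup_right.trans hX)) (le_sup_left.trans hX),
      hXL.le.trans hLK, hn⟩ hXL.le)
  have hb : ∀ x ∈ L, x ∉ M^ᶜa → (A^ᶜk₁ ⊔ (A^ᶜk₁)^ᶜx) ⊔ Q = L := by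
    intro x hx hxa
    refine (eq_or_lt_of_le (sup_le (sup_le (le_sup_left.trans hOQ) ?_)
      (CfsgLib.LocalEvenB.pCoreOf_le L))).resolve_right fun hlt => hxa ?_
    · exact (map_mono (le_sup_left.trans hOQ)).trans (mem_normalizer_conj_iff.mp (le_normalizer hx)).le
    have hXa := hprop _ (sup_le (le_sup_left.trans le_sup_left) le_sup_right) hlt
    have h1 : P₁^ᶜx ≤ M^ᶜa := by
      rw [hP₁, Subgroup.map_sup, mem_normalizer_conj_iff.mp (hKD (hLK hx))]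
      exact sup_le (le_sup_left.trans hP₁a) ((le_sup_right.trans le_sup_left).trans hXa)
    have h2 : P₁ ≤ M^ᶜ(x⁻¹ * a) := by
      have h := map_mono (f := (MulAut.conj x⁻¹).toMonoidHom) h1
      rwa [conj_conj, inv_mul_cancel, conj_one, conj_conj] at h
    have h3 := hpin₁ _ h2
    rw [← conj_conj] at h3
    simpa using inv_mem (mem_conj_of_conj_eq T hmin hM h3)
  -- transport back to `A`
  set c := k₁⁻¹ with hc
  have hAc : (A^ᶜk₁)^ᶜc = A := by rw [conj_conj, hc, inv_mul_cancel, conj_one]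
  refine ⟨L^ᶜc, ?_, c * a, ?_, ?_, ?_, ?_, D^ᶜc, ?_, ?_, ?_⟩
  · rw [← hAc, ← hOn c, ← Subgroup.map_sup]; exact map_mono hOQ
  · rw [pCoreOf_conj, ← hAc, ← Subgroup.map_sup, ← conj_conj]
    exact map_mono ((sup_le_sup_right le_sup_right Q).trans hQa)
  · rw [← conj_conj]
    exact fun h => hLa ((map_le_map_iff_of_injective (MulAut.conj c).injective).mp h)
  · intro X hX hXL
    set e := (MulAut.conj c).mapSubgroup
    have he : ∀ Y, e Y = Y^ᶜc := fun _ => rfl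
    rw [← conj_conj, ← he, ← e.apply_symm_apply X]
    refine e.monotone (hprop _ ?_ ?_)
    · rw [← e.le_iff_le, e.apply_symm_apply, he, Subgroup.map_sup, hAc, hQ, ← pCoreOf_conj]; exact hX
    · rw [← e.lt_iff_lt, e.apply_symm_apply, he]; exact hXL
  · intro y hy hya
    obtain ⟨x, hx, rfl⟩ := hy
    have hxa : x ∉ M^ᶜa := fun h => hya (by rw [← conj_conj]; exact mem_map_of_mem _ h)
    have h := congrArg (fun Y : Subgroup H => Y^ᶜc) (hb x hx hxa)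
    simp only [Subgroup.map_sup, hAc, hQ, ← pCoreOf_conj] at h
    refine Eq.trans ?_ h
    congr 2
    rw [conj_conj, conj_conj, hc]
    congr 2
    simp [MulAut.conj_apply, mul_assoc]
  · rw [pCoreOf_conj]
    exact map_mono hDQ
  · intro B hOB hB
    have key : D ≤ B^ᶜc⁻¹ := by
      rw [← hDgen]
      refine genConj_le_of_forall ?_ fun k hk => ?_
      · rw [← hOn c⁻¹]
        exact map_mono hOB
      · have h1 : A^ᶜ(c * k) ≤ D^ᶜc := by rw [← conj_conj]; exact map_mono hk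
        have h2 := map_mono (f := (MulAut.conj c⁻¹).toMonoidHom) (hB _ h1)
        rwa [conj_conj, inv_mul_cancel_left] at h2
    have h3 := map_mono (f := (MulAut.conj c).toMonoidHom) key
    rwa [conj_conj, mul_inv_cancel, conj_one] at h3
  · intro x hx
    have h1 : P₁^ᶜc ≤ M^ᶜx := by
      rw [hP₁, Subgroup.map_sup, hAc, sup_comm]
      exact hx
    have h2 := map_mono (f := (MulAut.conj c⁻¹).toMonoidHom) h1
    rw [conj_conj, inv_mul_cancel, conj_one, conj_conj] at h2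
    have h3 := congrArg (fun Y : Subgroup H => Y^ᶜc) (hpin₁ _ h2)
    simp only [conj_conj, mul_inv_cancel_left] at h3
    exact h3

end CfsgLib.Techniques.FocalOdd
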