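import Cfsg.Agent.Lib.LocalEven.OffenderSL2Core
import Cfsg.Agent.Lib.LocalEven.LLemma
import Cfsg.Prelude.Def_LocalEven

/-!
# Offenders of least order on a faithful irreducible module of a `p`-minimal group
-/

set_option autoImplicit false
set_option linter.all false

namespace CfsgLib.Techniques.FocalOdd

open Subgroup CfsgLib.LocalEven.OffSL2

variable {P V : Type*} [Group P] [AddCommGroup V]

/-- An offender. -/
structure IsOff (act : P →* AddMonoid.End V) (p : ℕ) (A : Subgroup P) : Prop where
  comm : ∀ a ∈ A, ∀ b ∈ A, a * b = b * a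
  pow : ∀ a ∈ A, a ^ p = 1
  ne : A ≠ ⊥
  card : Nat.card V ≤ Nat.card A * Nat.card (fix act A)

/-- An offender of least order. -/
structure IsMember (act : P →* AddMonoid.End V) (p : ℕ) (A : Subgroup P) : Prop extends IsOff act p A where
  min : ∀ B : Subgroup P, IsOff act p B → Nat.card A ≤ Nat.card B

variable {act : P →* AddMonoid.End V} {p : ℕ}

theorem fix_anti {A B : Subgroup P} (h : A ≤ B) : fix act B ≤ fix act A := fun _ hv a ha => hv a (h ha)

theorem fix_bot : fix act (⊥ : Subgroup P) = ⊤ := eq_top_iff.2 fun v _ a ha => by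
  rw [mem_bot.1 ha, act_one]

theorem card_fix_conj (g : P) (A : Subgroup P) :
    Nat.card (fix act (A.map (MulAut.conj g).toMonoidHom)) = Nat.card (fix act A) := Nat.card_congr
  { toFun := fun v => ⟨act g⁻¹ v, (mem_fix_conj act).1 v.2⟩
    invFun := fun v => ⟨act g v, (mem_fix_conj act).2 (by rw [act_inv]; exact v.2)⟩
    left_inv := fun v => Subtype.ext (act_inv' act g v)
    right_inv := fun v => Subtype.ext (act_inv act g v) }

theorem IsOff.conj {A : Subgroup P} (h : IsOff act p A) (g : P) :
    IsOff act p (A.map (MulAut.conj g).toMonoidHom) where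
  comm := by
    rintro _ ⟨a, ha, rfl⟩ _ ⟨b, hb, rfl⟩
    rw [← map_mul, h.comm a ha b hb, map_mul]
  pow := by
    rintro _ ⟨a, ha, rfl⟩
    rw [← map_pow, h.pow a ha, map_one]
  ne := fun e => h.ne ((map_eq_bot_iff_of_injective _ (MulAut.conj g).injective).1 e)
  card := by rw [card_map_of_injective (MulAut.conj g).injective, card_fix_conj]; exact h.card

theorem IsMember.conj {A : Subgroup P} (h : IsMember act p A) (g : P) :
    IsMember act p (A.map (MulAut.conj g).toMonoidHom) where
  toIsOff := h.toIsOff.conj g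
  min := fun B hB => by rw [card_map_of_injective (MulAut.conj g).injective]; exact h.min B hB

theorem IsOff.exists_member [Finite P] {O : Subgroup P} (h : IsOff act p O) :
    ∃ A, IsMember act p A := by
  obtain ⟨A, hA, hmin⟩ := Set.exists_min_image {A : Subgroup P | IsOff act p A} (fun A => Nat.card A)
    (Set.toFinite _) ⟨O, h⟩
  exact ⟨A, hA, hmin⟩

theorem IsOff.isPGroup [Fact p.Prime] {A : Subgroup P} (h : IsOff act p A) : IsPGroup p A := fun a =>
  ⟨1, Subtype.ext (by rw [pow_one]; exact h.pow a a.2)⟩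

variable [Finite P] [Finite V] [hp : Fact p.Prime]

theorem exists_card_eq_pow (hpV : ∀ v : V, p • v = 0) (U : AddSubgroup V) :
    ∃ n : ℕ, Nat.card U = p ^ n := by
  have : IsPGroup p (Multiplicative U) := fun x => ⟨1, by
    rw [pow_one]
    exact Multiplicative.toAdd.injective (by
      show p • Multiplicative.toAdd x = 0
      exact Subtype.ext (by rw [AddSubgroup.coe_nsmul, hpV]; rfl))⟩
  obtain ⟨n, hn⟩ := IsPGroup.iff_card.1 this
  exact ⟨n, hn⟩

/-- The span of the commutators with a subgroup. -/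
def comm (act : P →* AddMonoid.End V) (R : Subgroup P) : AddSubgroup V :=
  AddSubgroup.closure {x | ∃ a ∈ R, ∃ v, x = act a v - v}

omit [Finite P] in
/-- The commutators with a `p`-group are proper. -/
theorem comm_ne_top [Nontrivial V] (hpV : ∀ v : V, p • v = 0) {R : Subgroup P} (hR : IsPGroup p R) :
    comm act R ≠ ⊤ := by
  classical
  letI : Module (ZMod p) V := AddCommGroup.zmodModule hpV
  haveI : Finite (V →+ ZMod p) := Finite.of_injective _ DFunLike.coe_injective
  letI : MulAction R (V →+ ZMod p) :=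
    { smul := fun c φ => φ.comp (act ((c : P)⁻¹) : V →+ V)
      one_smul := fun φ => AddMonoidHom.ext fun u => by
        show φ (act (((1 : R) : P)⁻¹) u) = φ u
        rw [Subgroup.coe_one, inv_one, act_one]
      mul_smul := fun c d φ => AddMonoidHom.ext fun u => by
        show φ (act (((c * d : R) : P)⁻¹) u) = φ (act ((d : P)⁻¹) (act ((c : P)⁻¹) u))
        rw [Subgroup.coe_mul, mul_inv_rev, act_mul] }
  have hdvd : p ∣ Nat.card (V →+ ZMod p) := by
    obtain ⟨u, hu⟩ := exists_ne (0 : V)
    obtain ⟨ψ, hψ⟩ : ∃ ψ : V →+ ZMod p, ψ u ≠ 0 := by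
      by_contra hall
      push Not at hall
      exact hu ((Module.forall_dual_apply_eq_zero_iff (R := ZMod p) u).1
        fun φ => hall φ.toAddMonoidHom)
    have hord : addOrderOf ψ = p := addOrderOf_eq_prime (AddMonoidHom.ext fun x => by
        simp [ZMod.natCast_self]) (fun e' => hψ (DFunLike.congr_fun e' u))
    have := addOrderOf_dvd_natCard ψ
    rwa [hord] at this
  obtain ⟨φ, hφfix, hφ⟩ := hR.exists_fixed_point_of_prime_dvd_card_of_fixed_point
    (α := V →+ ZMod p) hdvd (a := 0) (fun c => AddMonoidHom.ext fun u => rfl)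
  intro e
  refine hφ (AddMonoidHom.ext fun v => ?_).symm
  refine (show comm act R ≤ φ.ker from (AddSubgroup.closure_le _).2 ?_) (e.ge (AddSubgroup.mem_top v))
  rintro _ ⟨a, ha, w, rfl⟩
  show φ (act a w - w) = 0
  rw [map_sub, sub_eq_zero]
  conv_rhs => rw [← hφfix (⟨a, ha⟩ : R)⁻¹]
  show _ = φ (act (((⟨a, ha⟩ : R)⁻¹ : R) : P)⁻¹ w)
  rw [Subgroup.coe_inv, inv_inv]

omit [Finite P] in
/-- A `p`-group does not generate a nonzero invariant subgroup by its commutators. -/
theorem not_le_comm (hpV : ∀ v : V, p • v = 0) {R : Subgroup P} (hR : IsPGroup p R) {U : AddSubgroup V}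
    (hinv : ∀ c ∈ R, ∀ u ∈ U, act c u ∈ U) (hne : U ≠ ⊥) :
    ¬ U ≤ AddSubgroup.closure {x | ∃ c ∈ R, ∃ u ∈ U, x = act c u - u} := by
  intro hle
  let g : R → (U →+ U) := fun c =>
    AddMonoidHom.mk' (fun u : U => (⟨act (c : P) (u : V), hinv c c.2 u u.2⟩ : U))
      (fun u w => Subtype.ext (map_add (act (c : P)) (u : V) (w : V)))
  let f : R → AddMonoid.End U := g
  let actU : R →* AddMonoid.End U :=
    { toFun := f
      map_one' := AddMonoidHom.ext fun u => Subtype.ext (by
        show act ((1 : R) : P) (u : V) = u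
        rw [Subgroup.coe_one, act_one])
      map_mul' := fun c d => AddMonoidHom.ext fun u => Subtype.ext (by
        show act ((c : P) * d) (u : V) = act (c : P) (act (d : P) (u : V))
        rw [act_mul]) }
  haveI : Nontrivial U := (AddSubgroup.nontrivial_iff_ne_bot _).2 hne
  refine comm_ne_top (act := actU) (R := ⊤) (fun u => Subtype.ext (hpV u))
    (hR.of_equiv Subgroup.topEquiv.symm) (eq_top_iff.2 fun u _ => ?_)
  have key : AddSubgroup.closure {x | ∃ c ∈ R, ∃ u ∈ U, x = act c u - u} ≤ (comm actU ⊤).map U.subtype :=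
    (AddSubgroup.closure_le _).2 (by
      rintro _ ⟨c, hc, w, hw, rfl⟩
      exact ⟨⟨act c w, hinv c hc w hw⟩ - ⟨w, hw⟩, AddSubgroup.subset_closure ⟨⟨c, hc⟩, mem_top _, ⟨w, hw⟩, rfl⟩,
        AddSubgroup.coe_sub U _ _⟩)
  obtain ⟨u', hu', e'⟩ := key (hle u.2)
  exact (Subtype.ext e' : u' = u) ▸ hu'

/-- An offender of least order is exact. -/
theorem IsMember.card_eq {A : Subgroup P} (h : IsMember act p A) (hinj : Function.Injective act)
    (hpV : ∀ v : V, p • v = 0) : Nat.card V = Nat.card A * Nat.card (fix act A) := by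
  refine le_antisymm h.card (not_lt.1 fun hlt => ?_)
  obtain ⟨a, hc⟩ := IsPGroup.iff_card.1 h.isPGroup
  obtain ⟨f, hf⟩ := exists_card_eq_pow hpV (fix act A)
  obtain ⟨n, hn⟩ := exists_card_eq_pow hpV (⊤ : AddSubgroup V)
  rw [AddSubgroup.card_top] at hn
  have ha0 : a ≠ 0 := fun e => h.ne (Subgroup.eq_bot_of_card_eq A (by rw [hc, e, pow_zero]))
  rw [hc, hf, hn, ← pow_add] at hlt
  have hlt' := (Nat.pow_lt_pow_iff_right hp.out.one_lt).1 hlt
  obtain ⟨K, hK⟩ := Sylow.exists_subgroup_card_pow_prime p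
    (show p ^ (a - 1) ∣ Nat.card A from hc ▸ pow_dvd_pow p (by omega))
  have hK' : Nat.card (K.map A.subtype) = p ^ (a - 1) := by
    rw [card_map_of_injective A.subtype_injective, hK]
  have hle : K.map A.subtype ≤ A := map_subtype_le K
  have hcard : Nat.card V ≤ Nat.card (K.map A.subtype) * Nat.card (fix act (K.map A.subtype)) := by
    refine le_trans ?_ (Nat.mul_le_mul_left _ (Nat.card_le_card_of_injective _
      (AddSubgroup.inclusion_injective (fix_anti (act := act) hle))))
    rw [hK', hf, hn, ← pow_add]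
    exact Nat.pow_le_pow_right hp.out.pos (by omega)
  by_cases hb : K.map A.subtype = ⊥
  · rw [hb, Subgroup.card_bot, one_mul] at hcard
    rw [hb, Subgroup.card_bot] at hK'
    have ha1 : a - 1 = 0 := (pow_eq_one_iff.1 hK'.symm).resolve_left hp.out.one_lt.ne'
    -- `A` has order `p`, and is moved
    have hfix : fix act A = ⊤ := eq_top_of_card _ (by
      rw [hn, hf]; exact Nat.pow_le_pow_right hp.out.pos (by omega))
    refine h.ne ((eq_bot_iff_forall _).2 fun x hx => hinj ?_)
    rw [map_one]
    exact AddMonoidHom.ext fun v => (hfix.ge (AddSubgroup.mem_top v)) x hx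
  · have := h.min _ ⟨fun x hx y hy => h.comm x (hle hx) y (hle hy), fun x hx => h.pow x (hle hx), hb, hcard⟩
    rw [hK', hc] at this
    have := (Nat.pow_le_pow_iff_right hp.out.one_lt).1 this
    omega

theorem IsMember.strict {A A₀ : Subgroup P} (h : IsMember act p A) (hle : A₀ ≤ A) (h0 : A₀ ≠ ⊥)
    (hne : A₀ ≠ A) : Nat.card A₀ * Nat.card (fix act A₀) < Nat.card V := by
  by_contra hc
  exact hne (eq_of_le_of_card_ge hle (h.min A₀ ⟨fun x hx y hy => h.comm x (hle hx) y (hle hy),
    fun x hx => h.pow x (hle hx), h0, not_lt.1 hc⟩))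

/-- An offender of least order is quadratic. -/
theorem IsMember.quad {A : Subgroup P} (h : IsMember act p A) (hinj : Function.Injective act)
    (hpV : ∀ v : V, p • v = 0) : ∀ a ∈ A, ∀ v, act a v - v ∈ fix act A := by
  intro a₀ ha₀ v
  set W := fix act A with hW
  set B : Subgroup P := A ⊓ ⨅ c : A, stabV act (act (c : P) v - v) with hB
  have hmemB : ∀ b, b ∈ B ↔ b ∈ A ∧ ∀ c ∈ A, act b (act c v - v) = act c v - v := fun b => by
    simp only [hB, mem_inf, mem_iInf, Subtype.forall]; rfl
  set C := AddSubgroup.closure (Set.range fun c : A => act (c : P) v - v) ⊔ W with hC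
  have hCB : C ≤ fix act B := by
    refine sup_le ((AddSubgroup.closure_le _).2 ?_) (fix_anti inf_le_left)
    rintro _ ⟨c, rfl⟩ b hb
    exact ((hmemB b).1 hb).2 c c.2
  have hcC : ∀ c ∈ A, act c v - v ∈ C := fun c hc =>
    AddSubgroup.mem_sup_left (AddSubgroup.subset_closure ⟨⟨c, hc⟩, rfl⟩)
  -- the map `c ↦ c v - v` modulo the fixed points
  let f : A → ↥C ⧸ W.addSubgroupOf C := fun c => QuotientAddGroup.mk ⟨_, hcC c c.2⟩
  have hker : ∀ c d : A, f c = f d → (c : P)⁻¹ * d ∈ B := fun c d hcd => by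
    have hw : -(act (c : P) v - v) + (act (d : P) v - v) ∈ W := (QuotientAddGroup.eq.1 hcd :)
    rw [neg_sub, sub_add_sub_cancel'] at hw
    set w := act (d : P) v - act (c : P) v with hwdef
    set e := (c : P)⁻¹ * d with he
    have heA : e ∈ A := mul_mem (inv_mem c.2) d.2
    have hev : act e v = v + w := by
      have h1 : act (c : P)⁻¹ w = w := hw _ (inv_mem c.2)
      rw [he, act_mul, show act (d : P) v = act (c : P) v + w by rw [hwdef]; abel, map_add, act_inv, h1]
    refine (hmemB e).2 ⟨heA, fun x hx => ?_⟩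
    rw [map_sub, ← act_mul, h.comm e heA x hx, act_mul, hev, map_add, hw x hx]
    abel
  have hcard : Nat.card A * Nat.card W ≤ Nat.card B * Nat.card C := by
    have hinj' : Function.Injective fun q : A ⧸ B.subgroupOf A => f q.out := fun q q' hqq => by
      rw [← QuotientGroup.out_eq' q, ← QuotientGroup.out_eq' q', QuotientGroup.eq]
      exact hker _ _ hqq
    have h1 := Nat.card_le_card_of_injective _ hinj'
    rw [Subgroup.card_eq_card_quotient_mul_card_subgroup (B.subgroupOf A),
      Nat.card_congr (Subgroup.subgroupOfEquivOfLe (inf_le_left : B ≤ A)).toEquiv,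
      AddSubgroup.card_eq_card_quotient_mul_card_addSubgroup (W.addSubgroupOf C),
      Nat.card_congr (AddSubgroup.addSubgroupOfEquivOfLe (le_sup_right : W ≤ C)).toEquiv]
    calc _ ≤ Nat.card (↥C ⧸ W.addSubgroupOf C) * Nat.card B * Nat.card W :=
          Nat.mul_le_mul_right _ (Nat.mul_le_mul_right _ h1)
      _ = _ := by ring
  rw [← h.card_eq hinj hpV] at hcard
  have hCfix : Nat.card C ≤ Nat.card (fix act B) :=
    Nat.card_le_card_of_injective _ (AddSubgroup.inclusion_injective hCB)
  by_cases hBA : B = A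
  · intro b hb
    exact ((hmemB b).1 (hBA.ge hb)).2 a₀ ha₀
  by_cases hB1 : B = ⊥
  swap
  · exact absurd (hcard.trans (Nat.mul_le_mul_left _ hCfix)) (not_le.2 (h.strict inf_le_left hB1 hBA))
  exfalso
  rw [hB1, Subgroup.card_bot, one_mul] at hcard
  have hCtop : C = ⊤ := eq_top_of_card _ hcard
  -- then `V` is generated by its commutators and the fixed points
  let D : ℕ → AddSubgroup V := fun n => n.rec ⊤ fun _ U =>
    AddSubgroup.closure {x | ∃ c ∈ A, ∃ u ∈ U, x = act c u - u}
  have hVD : ∀ n, D n ⊔ W = ⊤ := by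
    intro n
    induction n with
    | zero => exact top_sup_eq W
    | succ n ih =>
      refine top_le_iff.1 (hCtop.ge.trans (sup_le ((AddSubgroup.closure_le _).2 ?_) le_sup_right))
      rintro _ ⟨c, rfl⟩
      obtain ⟨d, hd, w, hw, e⟩ := AddSubgroup.mem_sup.1 (ih.ge (AddSubgroup.mem_top v))
      refine AddSubgroup.mem_sup_left (AddSubgroup.subset_closure ⟨c, c.2, d, hd, ?_⟩)
      show act (c : P) v - v = _
      rw [← e, map_add, hw c c.2]
      abel
  have hinv : ∀ m, ∀ c ∈ A, ∀ u ∈ D m, act c u ∈ D m := by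
    intro m c hc
    induction m with
    | zero => exact fun u _ => AddSubgroup.mem_top _
    | succ m ih =>
      intro u hu
      refine (show D (m + 1) ≤ (D (m + 1)).comap (act c : V →+ V) from (AddSubgroup.closure_le _).2 ?_) hu
      rintro _ ⟨b, hb, u, hu, rfl⟩
      refine AddSubgroup.subset_closure ⟨b, hb, act c u, ih u hu, ?_⟩
      show act c (act b u - u) = _
      rw [map_sub, ← act_mul, h.comm c hc b hb, act_mul]
  have hnil : ∀ n, D n ≠ ⊥ → D (n + 1) < D n := by
    intro n hne
    have hle : D (n + 1) ≤ D n := (AddSubgroup.closure_le _).2 (by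
      rintro _ ⟨c, hc, u, hu, rfl⟩
      exact sub_mem (hinv n c hc u hu) hu)
    refine lt_of_le_of_ne hle fun e => ?_
    exact not_le_comm hpV h.isPGroup (hinv n) hne (e.ge.trans ((AddSubgroup.closure_le _).2 (by
      rintro _ ⟨c, hc, w, hw, rfl⟩
      exact AddSubgroup.subset_closure ⟨c, hc, w, hw, rfl⟩)))
  obtain ⟨n, hn⟩ : ∃ n, D n = ⊥ := by
    by_contra hall
    push Not at hall
    have hs : StrictAnti D := strictAnti_nat_of_succ_lt fun n => hnil n (hall n)
    exact not_finite_iff_infinite.2 (Infinite.of_injective D hs.injective) inferInstance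
  have hWtop : W = ⊤ := by rw [← hVD n, hn, bot_sup_eq]
  refine h.ne ((eq_bot_iff_forall _).2 fun x hx => hinj ?_)
  rw [map_one]
  exact AddMonoidHom.ext fun u => (hWtop.ge (AddSubgroup.mem_top u)) x hx

/-- The standing hypotheses. -/
structure Setting (act : P →* AddMonoid.End V) (T : Sylow p P) (M : Subgroup P) : Prop where
  inj : Function.Injective act
  odd : p ≠ 2
  hpV : ∀ v : V, p • v = 0
  irr : ∀ U : AddSubgroup V, (∀ g : P, ∀ u ∈ U, act g u ∈ U) → U = ⊥ ∨ U = ⊤
  minimal : Cfsg.IsMinimalOver (T : Subgroup P)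
  hM : IsCoatom M ∧ (T : Subgroup P) ≤ M
  core : Cfsg.pCore p P = ⊥

variable {T : Sylow p P} {M : Subgroup P}

omit [Finite P] [Finite V] in
theorem Setting.nontrivial (h : Setting act T M) : ∃ g : P, g ≠ 1 := by
  by_contra hc
  push Not at hc
  exact h.hM.1.1 (eq_top_iff.2 fun g _ => by rw [hc g]; exact one_mem _)

omit [Finite P] [Finite V] in
theorem Setting.fix_top (h : Setting act T M) : fix act (⊤ : Subgroup P) = ⊥ := by
  refine (h.irr _ fun g u hu => by rw [fix_top_act act hu]; exact hu).resolve_right fun e => ?_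
  obtain ⟨g, hg⟩ := h.nontrivial
  exact hg (h.inj (by
    rw [map_one]; exact AddMonoidHom.ext fun v => fix_top_act act (e.ge (AddSubgroup.mem_top v)) g))

/-- The stabiliser of a nonzero fixed vector of a conjugate of `T` lies in the point. -/
theorem Setting.stabV_le (h : Setting act T M) {k : P} {z : V} (hz : z ≠ 0)
    (hfix : ∀ a ∈ (T : Subgroup P).map (MulAut.conj k).toMonoidHom, act a z = z) :
    stabV act z ≤ M.map (MulAut.conj k).toMonoidHom :=
  CfsgLib.LocalEven.le_conj_of_sylow_le T h.minimal h.hM (fun e => hz (by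
    have h1 : z ∈ fix act (⊤ : Subgroup P) := fun g _ => e.ge (mem_top g)
    rwa [h.fix_top, AddSubgroup.mem_bot] at h1)) hfix

/-- The stabiliser of the commutators of a conjugate of `T` lies in the point. -/
theorem Setting.stabS_le (h : Setting act T M) {k : P} {g : P}
    (hg : ∀ x ∈ comm act ((T : Subgroup P).map (MulAut.conj k).toMonoidHom),
      act g x ∈ comm act ((T : Subgroup P).map (MulAut.conj k).toMonoidHom))
    (hne : comm act ((T : Subgroup P).map (MulAut.conj k).toMonoidHom) ≠ ⊤)
    (hne' : comm act ((T : Subgroup P).map (MulAut.conj k).toMonoidHom) ≠ ⊥) :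
    g ∈ M.map (MulAut.conj k).toMonoidHom := by
  refine CfsgLib.LocalEven.le_conj_of_sylow_le T h.minimal h.hM (X := stabS act
    (comm act ((T : Subgroup P).map (MulAut.conj k).toMonoidHom))) (fun e => ?_) (fun a ha => ?_) hg
  · exact (h.irr _ fun x u hu => (e.ge (mem_top x) :) u hu).elim hne' hne
  · intro x hx
    rw [← sub_add_cancel (act a x) x]
    exact add_mem (AddSubgroup.subset_closure ⟨a, ha, x, rfl⟩) hx

end CfsgLib.Techniques.FocalOdd
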