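import Cfsg.Agent.Lib.Techniques.FocalOdd.Orbit

/-!
# The offenders in a Sylow subgroup
-/

set_option autoImplicit false
set_option linter.all false
set_option maxHeartbeats 1000000

namespace CfsgLib.Techniques.FocalOdd

open Subgroup Matrix CfsgLib.LocalEven CfsgLib.LocalEven.OffSL2
open scoped MatrixGroups

variable {P V : Type*} [Group P] [AddCommGroup V] [Finite P] [Finite V] {p : ℕ} [hp : Fact p.Prime]
  {act : P →* AddMonoid.End V} {T : Sylow p P} {M : Subgroup P} {F : Type} [Field F] {r : Root act F}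
  {D : Subgroup P}

local notation:max X:max "^ᶜ" g:max => Subgroup.map (MulEquiv.toMonoidHom (MulAut.conj g)) X

omit [Finite P] in
/-- An invariant subgroup spanned by its commutators and fixed vectors is fixed. -/
theorem fixed_of_le_comm (hpV : ∀ v : V, p • v = 0) {R : Subgroup P} (hR : IsPGroup p R)
    {U : AddSubgroup V} (hinv : ∀ c ∈ R, ∀ u ∈ U, act c u ∈ U)
    (hle : U ≤ AddSubgroup.closure {x | ∃ c ∈ R, ∃ u ∈ U, x = act c u - u} ⊔ fix act R) :
    U ≤ fix act R := by
  set U' := AddSubgroup.closure {x | ∃ c ∈ R, ∃ u ∈ U, x = act c u - u} with hU'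
  have hU'U : U' ≤ U := (AddSubgroup.closure_le _).2 (by
    rintro _ ⟨c, hc, u, hu, rfl⟩; exact sub_mem (hinv c hc u hu) hu)
  have hinv' : ∀ c ∈ R, ∀ u ∈ U', act c u ∈ U' := by
    intro c hc u hu
    refine (show U' ≤ U'.comap (act c : V →+ V) from (AddSubgroup.closure_le _).2 ?_) hu
    rintro _ ⟨d, hd, u, hu, rfl⟩
    show act c (act d u - u) ∈ U'
    rw [map_sub, ← act_mul, ← sub_sub_sub_cancel_right _ _ u]
    exact sub_mem (AddSubgroup.subset_closure ⟨_, mul_mem hc hd, u, hu, rfl⟩)
      (AddSubgroup.subset_closure ⟨_, hc, u, hu, rfl⟩)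
  have hbot : U' = ⊥ := by
    by_contra hne
    refine not_le_comm hpV hR hinv' hne ((AddSubgroup.closure_le _).2 ?_)
    rintro _ ⟨c, hc, u, hu, rfl⟩
    obtain ⟨d, hd, z, hz, e⟩ := AddSubgroup.mem_sup.1 (hle hu)
    refine AddSubgroup.subset_closure ⟨c, hc, d, hd, ?_⟩
    rw [← e, map_add, hz c hc]
    abel
  rw [hbot, bot_sup_eq] at hle
  exact hle

theorem exists_fix_le (hs : Setting act T M) {O : Subgroup P} (hO : IsOff act p O)
    (hnq : ¬ ∀ x ∈ O, ∀ v, act x (act x v - v) = act x v - v) :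
    ∃ B : Subgroup P, B ≤ O ∧ B ≠ O ∧ IsOff act p B ∧
      ∃ v, ∀ _ : Nat.card V = Nat.card B * Nat.card (fix act B),
        fix act B ≤ AddSubgroup.closure (Set.range fun c : O => act (c : P) v - v) ⊔ fix act O := by
  classical
  obtain ⟨x₀, hx₀, hv0⟩ : ∃ x ∈ O, ∃ v, act x (act x v - v) ≠ act x v - v := by
    by_contra hall
    push Not at hall
    exact hnq hall
  obtain ⟨v, hv⟩ := hv0
  set W := fix act O with hW
  set B : Subgroup P := O ⊓ ⨅ c : O, stabV act (act (c : P) v - v) with hB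
  have hmemB : ∀ b, b ∈ B ↔ b ∈ O ∧ ∀ c ∈ O, act b (act c v - v) = act c v - v := fun b => by
    simp only [hB, mem_inf, mem_iInf, Subtype.forall]; rfl
  set C := AddSubgroup.closure (Set.range fun c : O => act (c : P) v - v) ⊔ W with hC
  have hCB : C ≤ fix act B := by
    refine sup_le ((AddSubgroup.closure_le _).2 ?_) (fix_anti inf_le_left)
    rintro _ ⟨c, rfl⟩ b hb
    exact ((hmemB b).1 hb).2 c c.2
  have hcC : ∀ c ∈ O, act c v - v ∈ C := fun c hc =>
    AddSubgroup.mem_sup_left (AddSubgroup.subset_closure ⟨⟨c, hc⟩, rfl⟩)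
  let f : O → ↥C ⧸ W.addSubgroupOf C := fun c => QuotientAddGroup.mk ⟨_, hcC c c.2⟩
  have hker : ∀ c d : O, f c = f d → (c : P)⁻¹ * d ∈ B := fun c d hcd => by
    have hw : -(act (c : P) v - v) + (act (d : P) v - v) ∈ W := (QuotientAddGroup.eq.1 hcd :)
    rw [neg_sub, sub_add_sub_cancel'] at hw
    set w := act (d : P) v - act (c : P) v with hwdef
    set e := (c : P)⁻¹ * d with he
    have heA : e ∈ O := mul_mem (inv_mem c.2) d.2
    have hev : act e v = v + w := by
      have h1 : act (c : P)⁻¹ w = w := hw _ (inv_mem c.2)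
      rw [he, act_mul, show act (d : P) v = act (c : P) v + w by rw [hwdef]; abel, map_add, act_inv, h1]
    refine (hmemB e).2 ⟨heA, fun x hx => ?_⟩
    rw [map_sub, ← act_mul, hO.comm e heA x hx, act_mul, hev, map_add, hw x hx]
    abel
  have hcard : Nat.card O * Nat.card W ≤ Nat.card B * Nat.card C := by
    have hinj' : Function.Injective fun q : O ⧸ B.subgroupOf O => f q.out := fun q q' hqq => by
      rw [← QuotientGroup.out_eq' q, ← QuotientGroup.out_eq' q', QuotientGroup.eq]
      exact hker _ _ hqq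
    have h1 := Nat.card_le_card_of_injective _ hinj'
    rw [Subgroup.card_eq_card_quotient_mul_card_subgroup (B.subgroupOf O),
      Nat.card_congr (Subgroup.subgroupOfEquivOfLe (inf_le_left : B ≤ O)).toEquiv,
      AddSubgroup.card_eq_card_quotient_mul_card_addSubgroup (W.addSubgroupOf C),
      Nat.card_congr (AddSubgroup.addSubgroupOfEquivOfLe (le_sup_right : W ≤ C)).toEquiv]
    calc _ ≤ Nat.card (↥C ⧸ W.addSubgroupOf C) * Nat.card B * Nat.card W :=
          Nat.mul_le_mul_right _ (Nat.mul_le_mul_right _ h1)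
      _ = _ := by ring
  have hV : Nat.card V ≤ Nat.card B * Nat.card C := hO.card.trans hcard
  have hBne : B ≠ O := fun e => hv (((hmemB x₀).1 (e.ge hx₀)).2 x₀ hx₀)
  have hB1 : B ≠ ⊥ := by
    intro hB1
    rw [hB1, Subgroup.card_bot, one_mul] at hV
    have hCtop : C = ⊤ := eq_top_of_card _ hV
    have hall : (⊤ : AddSubgroup V) ≤ fix act O := fixed_of_le_comm hs.hpV hO.isPGroup
      (fun c _ u _ => AddSubgroup.mem_top _) (hCtop.ge.trans (sup_le ((AddSubgroup.closure_le _).2 (by
        rintro _ ⟨c, rfl⟩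
        exact AddSubgroup.mem_sup_left (AddSubgroup.subset_closure ⟨c, c.2, v, AddSubgroup.mem_top v, rfl⟩)))
        le_sup_right))
    refine hO.ne ((eq_bot_iff_forall _).2 fun x hx => hs.inj ?_)
    rw [map_one]
    exact AddMonoidHom.ext fun u => hall (AddSubgroup.mem_top u) x hx
  have hCfix : Nat.card C ≤ Nat.card (fix act B) :=
    Nat.card_le_card_of_injective _ (AddSubgroup.inclusion_injective hCB)
  refine ⟨B, inf_le_left, hBne, ⟨fun a ha b hb => hO.comm a (inf_le_left (α := Subgroup P) ha) b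
    (inf_le_left (α := Subgroup P) hb), fun a ha => hO.pow a (inf_le_left (α := Subgroup P) ha), hB1,
    hV.trans (Nat.mul_le_mul_left _ hCfix)⟩, v, fun hex => ?_⟩
  rw [hex] at hV
  exact (AddSubgroup.eq_of_le_of_card_ge hCB (Nat.le_of_mul_le_mul_left hV Nat.card_pos)).ge

section
variable [Finite F] (hs : Setting act T M) (h : Datum act p M r D) (hPT : r.A ⊔ D ≤ (T : Subgroup P))
include hs h hPT

/-- An element of `T` acting quadratically lies in the pinned group. -/
theorem quad_mem {x : P} (hx : x ∈ (T : Subgroup P)) (hq : ∀ v, act x (act x v - v) = act x v - v) :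
    x ∈ r.A ⊔ D := by
  rw [← iSup_eq hs h hPT]
  refine mem_iSup_of_nice hs h hPT fun i => ?_
  have hpow : x ^ p = 1 := by
    have hn : ∀ (n : ℕ) v, act (x ^ n) v = v + n • (act x v - v) := by
      intro n
      induction n with
      | zero => intro v; rw [pow_zero, act_one, zero_smul, add_zero]
      | succ n ih =>
        intro v
        rw [pow_succ', act_mul, ih, map_add, map_nsmul, hq, succ_nsmul]
        abel
    refine hs.inj (AddMonoidHom.ext fun v => ?_)
    show act (x ^ p) v = act 1 v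
    rw [hn, hs.hpV, add_zero, act_one]
  have hstab : i.1^ᶜx = i.1 := by
    by_contra hne
    set j : Ix T r.A := ⟨i.1^ᶜx, x * i.x, Subgroup.mul_mem _ hx i.x_mem,
      by rw [← conj_conj, i.x_conj]⟩ with hj
    set k : Ix T r.A := ⟨i.1^ᶜ(x * x), (x * x) * i.x, Subgroup.mul_mem _ (Subgroup.mul_mem _ hx hx) i.x_mem,
      by rw [← conj_conj, i.x_conj]⟩ with hk
    have hji : i ≠ j := fun e => hne (congrArg Subtype.val e).symm
    have hki : i ≠ k := by
      intro e
      have h2 : x * x ∈ normalizer (i.1 : Set P) := mem_normalizer_conj_iff.2 (congrArg Subtype.val e).symm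
      obtain ⟨m, hm⟩ := hp.out.odd_of_ne_two hs.odd
      have h3 : (x * x) ^ (m + 1) = x := by
        rw [← pow_two, ← pow_mul, show 2 * (m + 1) = p + 1 by omega, pow_succ, hpow, one_mul]
      exact hne (mem_normalizer_conj_iff.1 (h3 ▸ pow_mem h2 _))
    set w := (rI i).ι ![1, 0] with hw
    have hmove : ∀ (y : P), y ∈ (T : Subgroup P) → ∀ l : Ix T r.A, i.1^ᶜy = l.1 → i ≠ l →
        (rI i).π (act y w) = 0 := by
      intro y hy l hl hne'
      have h1 : act (rI l).t (act y w) = -act y w := by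
        rw [← act_mul, ← t_conj hs h hPT hy hl, act_mul, hw, (rI i).act_t, (rI i).kp_ι, zero_sub,
          sub_eq_add_neg, ← neg_add, ← (rI i).π_eq_aux, map_neg]
      rw [← (rI l).neg_eigen hs.two h1]
      exact π_ι hs h hPT hne'.symm _
    have h1 := hmove x hx j rfl hji
    have h2 := hmove (x * x) (Subgroup.mul_mem _ hx hx) k rfl hki
    rw [act_mul] at h2
    have h3 := congrArg (rI i).π (hq w)
    rw [map_sub (act x), map_sub, map_sub, h1, h2, hw, (rI i).πι, sub_zero, zero_sub] at h3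
    have := congrFun h3 0
    simp at this
  have hnice := linearise hs (datum_I hs h hPT i).1.mem
    (triv_of_quad hs (r := rI i) (by rw [rI_A]; exact hstab) hq)
    (norm_t hs h hPT (P1_conj hs h hPT hx) i hstab)
  exact hnice.2

/-- The offenders of the pinned group. -/
theorem off_le {O : Subgroup P} (hO : IsOff act p O) (hle : O ≤ r.A ⊔ D) :
    Nat.card V = Nat.card O * Nat.card (fix act O) ∧
      ∀ i : Ix T r.A, i.1 ≤ O ∨ ∀ x ∈ O, ∀ w, act x ((rI i).ι w) = (rI i).ι w := by
  classical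
  letI := Fintype.ofFinite (Ix T r.A)
  choose β hβ using fun (x : O) (i : Ix T r.A) => nice_of_mem hs h hPT i (hle x.2)
  set S : Finset (Ix T r.A) := Finset.univ.filter fun i => ∃ x, β x i ≠ 0 with hS
  have hS' : ∀ i ∉ S, ∀ x, β x i = 0 := fun i hi x => by
    simp only [hS, Finset.mem_filter, Finset.mem_univ, true_and, not_exists, not_not] at hi
    exact hi x
  let f : O → (↥S → F) := fun x i => β x i
  have hf : Function.Injective f := fun x y e => Subtype.ext (ext_I hs h hPT fun i w => by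
    rw [hβ, hβ]
    by_cases hi : i ∈ S
    · rw [show β x i = β y i from congrFun e ⟨i, hi⟩]
    · rw [hS' i hi, hS' i hi])
  let q : V →+ (↥S → F) := AddMonoidHom.mk' (fun v i => (rI i.1).p1 v) (fun u v => funext fun i => map_add _ u v)
  have hqs : Function.Surjective q := by
    intro g
    refine ⟨∑ j : ↥S, (rI j.1).l0 (g j), funext fun i => ?_⟩
    show (rI i.1).p1 _ = g i
    rw [map_sum, Finset.sum_eq_single i]
    · rw [(rI i.1).p1_l0]
    · intro j _ hj
      show (rI i.1).π ((rI j.1).ι _) 1 = 0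
      rw [π_ι hs h hPT (fun e => hj (Subtype.ext e))]; rfl
    · exact fun h' => absurd (Finset.mem_univ i) h'
  have hker : q.ker = fix act O := by
    ext v
    constructor
    · intro hv x hx
      conv_lhs => rw [← sum_proj hs h hPT v, map_sum]
      conv_rhs => rw [← sum_proj hs h hPT v]
      refine Finset.sum_congr rfl fun i _ => ?_
      rw [hβ ⟨x, hx⟩ i, (rI i).act_a]
      by_cases hi : i ∈ S
      · have h1 : (rI i).p1 v = 0 := congrFun hv ⟨i, hi⟩
        rw [show (rI i).p1 ((rI i).ι ((rI i).π v)) = (rI i).p1 v by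
          show (rI i).π ((rI i).ι _) 1 = _; rw [(rI i).πι]; rfl, h1, mul_zero, map_zero, add_zero]
      · rw [hS' i hi, zero_mul, map_zero, add_zero]
    · intro hv
      refine funext fun i => ?_
      show (rI i.1).p1 v = 0
      obtain ⟨x, hx⟩ := (Finset.mem_filter.1 i.2).2
      have hxv := hv x x.2
      have h1 := congrArg ((rI i.1).π) hxv
      rw [← sum_proj hs h hPT v, map_sum, map_sum, map_sum, Finset.sum_eq_single i.1, Finset.sum_eq_single i.1,
        hβ, (rI i.1).act_a, map_add, add_eq_left] at h1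
      · have h2 := congrFun h1 0
        rw [show (rI i.1).π ((rI i.1).u0 _) 0 = _ from (rI i.1).p0_u0 _,
          show (rI i.1).p1 ((rI i.1).ι ((rI i.1).π v)) = (rI i.1).p1 v by
            show (rI i.1).π ((rI i.1).ι _) 1 = _; rw [(rI i.1).πι]; rfl] at h2
        exact (mul_eq_zero.1 h2).resolve_left hx
      · intro j _ hj; exact π_ι hs h hPT hj _
      · exact fun h' => absurd (Finset.mem_univ i.1) h'
      · intro j _ hj
        rw [hβ, (rI j).act_emb_ι_aux]
        exact π_ι hs h hPT hj _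
      · exact fun h' => absurd (Finset.mem_univ i.1) h'
  have hV : Nat.card V = Nat.card (↥S → F) * Nat.card (fix act O) := by
    rw [AddSubgroup.card_eq_card_quotient_mul_card_addSubgroup q.ker,
      Nat.card_congr (QuotientAddGroup.quotientKerEquivOfSurjective q hqs).toEquiv, hker]
  have hle1 : Nat.card O ≤ Nat.card (↥S → F) := Nat.card_le_card_of_injective f hf
  have hc := hO.card
  rw [hV] at hc
  have heq : Nat.card O = Nat.card (↥S → F) := le_antisymm hle1 (Nat.le_of_mul_le_mul_right hc Nat.card_pos)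
  have hbij : Function.Bijective f := (Nat.bijective_iff_injective_and_card f).2 ⟨hf, heq⟩
  refine ⟨by rw [hV, heq], fun i => ?_⟩
  by_cases hi : i ∈ S
  · left
    rw [← rI_A i, (rI i).A_eq_iff]
    intro b
    obtain ⟨x, hx⟩ := hbij.2 (Pi.single ⟨i, hi⟩ b)
    have : (x : P) = (rI i).a b := ext_I hs h hPT fun j w => by
      rw [hβ]
      by_cases hj : j = i
      · subst hj
        rw [show β x j = b by rw [← show f x ⟨j, hi⟩ = β x j from rfl, hx, Pi.single_eq_same]]
      · have h0 : β x j = 0 := by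
          by_cases hjS : j ∈ S
          · rw [← show f x ⟨j, hjS⟩ = β x j from rfl, hx, Pi.single_eq_of_ne]
            exact fun e => hj (congrArg Subtype.val e)
          · exact hS' j hjS x
        rw [h0, (rI j).a_zero, act_one, a_fix hs h hPT (Ne.symm hj)]
    exact this ▸ x.2
  · exact Or.inr fun x hx w => by rw [hβ ⟨x, hx⟩ i, hS' i hi, (rI i).a_zero, act_one]

/-- The offenders of `T` lie in the pinned group. -/
theorem off_T {O : Subgroup P} (hO : IsOff act p O) (hOT : O ≤ (T : Subgroup P)) : O ≤ r.A ⊔ D := by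
  classical
  generalize hn : Nat.card O = n
  induction n using Nat.strong_induction_on generalizing O with
  | _ n ih =>
    by_cases hq : ∀ x ∈ O, ∀ v, act x (act x v - v) = act x v - v
    · exact fun x hx => quad_mem hs h hPT (hOT hx) (hq x hx)
    obtain ⟨B, hBO, hBne, hB, v, hv⟩ := exists_fix_le hs hO hq
    have hBJ : B ≤ r.A ⊔ D := ih (Nat.card B) (hn ▸ lt_of_le_of_ne
      (Nat.card_le_card_of_injective _ (Subgroup.inclusion_injective hBO))
      fun e => hBne (eq_of_le_of_card_ge hBO e.ge)) hB (hBO.trans hOT) rfl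
    obtain ⟨hex, hsupp⟩ := off_le hs h hPT hB hBJ
    have hfixB := hv hex
    letI := Fintype.ofFinite (Ix T r.A)
    set S : Finset (Ix T r.A) := Finset.univ.filter fun i => i.1 ≤ B with hS
    have hcomm : ∀ x ∈ O, ∀ i ∈ S, ∀ c, x * (rI i).a c = (rI i).a c * x := fun x hx i hi c =>
      hO.comm x hx _ (hBO ((Finset.mem_filter.1 hi).2 (rI_A i ▸ (rI i).a_mem c)))
    have hnice : ∀ x ∈ O, ∀ i ∈ S, Nice (rI i) x := by
      intro x hx i hi
      have hn' : x ^ p ^ 1 = 1 := by rw [pow_one, hO.pow x hx]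
      have hst : i.1^ᶜx = i.1 := conj_eq_of_comm fun a ha => by
        rw [← rI_A i] at ha
        obtain ⟨c, rfl⟩ := Root.mem_A.1 ha
        exact (hcomm x hx i hi c).symm
      exact linearise hs (datum_I hs h hPT i).1.mem (triv_of_comm hs hn' (hcomm x hx i hi))
        (norm_t hs h hPT (P1_conj hs h hPT (hOT hx)) i hst)
    let pr : V →+ V := AddMonoidHom.id V - ∑ i ∈ S, (rI i).ι.comp (rI i).π
    have hpr : ∀ u, pr u = u - ∑ i ∈ S, (rI i).ι ((rI i).π u) := fun u => by
      show u - (∑ i ∈ S, (rI i).ι.comp (rI i).π) u = _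
      rw [AddMonoidHom.finset_sum_apply]; rfl
    have hprc : ∀ x ∈ O, ∀ u, act x (pr u) = pr (act x u) := by
      intro x hx u
      rw [hpr, hpr, map_sub, map_sum]
      congr 1
      exact Finset.sum_congr rfl fun i hi => ((rI i).comm_proj hs.two (hnice x hx i hi).1 u).symm
    let U : AddSubgroup V :=
      { carrier := {u | ∀ i ∈ S, (rI i).π u = 0}
        zero_mem' := fun i _ => map_zero _
        add_mem' := fun {a b} ha hb i hi => by rw [map_add, ha i hi, hb i hi, add_zero]
        neg_mem' := fun {a} ha i hi => by rw [map_neg, ha i hi, neg_zero] }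
    have hprU : ∀ u, pr u ∈ U := fun u i hi => by
      rw [hpr, map_sub, map_sum, Finset.sum_eq_single i]
      · rw [(rI i).πι, sub_self]
      · intro j _ hj; exact π_ι hs h hPT hj _
      · exact fun h' => absurd hi h'
    have hUpr : ∀ u ∈ U, pr u = u := fun u hu => by
      rw [hpr, Finset.sum_eq_zero, sub_zero]
      intro i hi; rw [hu i hi, map_zero]
    have hinv : ∀ c ∈ O, ∀ u ∈ U, act c u ∈ U := fun c hc u hu => by
      rw [← hUpr u hu, hprc c hc]; exact hprU _
    have hUB : U ≤ fix act B := by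
      intro u hu b hb
      conv_lhs => rw [← sum_proj hs h hPT u, map_sum]
      conv_rhs => rw [← sum_proj hs h hPT u]
      refine Finset.sum_congr rfl fun i _ => ?_
      rcases hsupp i with hi | hi
      · rw [hu i (Finset.mem_filter.2 ⟨Finset.mem_univ i, hi⟩), map_zero, map_zero]
      · exact hi b hb _
    have hUfix : U ≤ fix act O := by
      refine fixed_of_le_comm hs.hpV hO.isPGroup hinv ?_
      intro u hu
      have h1 : AddSubgroup.closure (Set.range fun c : O => act (c : P) v - v) ⊔ fix act O ≤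
          (AddSubgroup.closure {x | ∃ c ∈ O, ∃ u ∈ U, x = act c u - u} ⊔ fix act O).comap pr := by
        refine sup_le ((AddSubgroup.closure_le _).2 ?_) ?_
        · rintro _ ⟨c, rfl⟩
          refine AddSubgroup.mem_sup_left (AddSubgroup.subset_closure ⟨c, c.2, pr v, hprU v, ?_⟩)
          rw [map_sub, hprc _ c.2]
        · exact fun z hz => AddSubgroup.mem_sup_right fun c hc => by rw [hprc c hc, hz c hc]
      have h2 := h1 (hfixB (hUB hu))
      rw [AddSubgroup.mem_comap, hUpr u hu] at h2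
      exact h2
    intro x hx
    rw [← iSup_eq hs h hPT]
    refine mem_iSup_of_nice hs h hPT fun i => ?_
    by_cases hi : i ∈ S
    · exact (hnice x hx i hi).2
    · refine ⟨0, fun w => ?_⟩
      rw [(rI i).a_zero, act_one]
      exact hUfix (fun j hj => π_ι hs h hPT (i := i) (j := j) (fun e => hi (e.symm ▸ hj)) w) x hx

end

/-- The structure of the offenders. -/
theorem offender_structure (hs : Setting act T M) {O₀ : Subgroup P} (hO₀ : IsOff act p O₀) :
    ∃ (F : Type) (_ : Field F) (_ : Fintype F) (r : Root act F) (J0 : Subgroup P),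
      IsMember act p r.A ∧ r.A ⊔ J0 ≤ (T : Subgroup P) ∧
      (∀ d ∈ J0, ∀ g, d * r.emb g = r.emb g * d) ∧ ¬ r.emb.range ≤ M ∧
      (∀ a ∈ r.A ⊔ J0, ∀ b ∈ r.A ⊔ J0, a * b = b * a) ∧ (∀ a ∈ r.A ⊔ J0, a ^ p = 1) ∧
      (∀ O, IsOff act p O → O ≤ (T : Subgroup P) →
        O ≤ r.A ⊔ J0 ∧ Nat.card V = Nat.card O * Nat.card (fix act O)) ∧
      (∀ x ∈ (T : Subgroup P), (∀ v ∈ fix act (r.A ⊔ J0), act x v = v) → x ∈ r.A ⊔ J0) ∧
      (∀ R : Subgroup P, R ≤ (T : Subgroup P) → (T : Subgroup P) ≤ normalizer (R : Set P) →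
        (∃ O, IsOff act p O ∧ O ≤ R) → r.A ⊔ J0 ≤ R) := by
  classical
  obtain ⟨A₁, hA₁⟩ := hO₀.exists_member
  obtain ⟨g, hg⟩ := exists_sylow_conj_le T hA₁.isPGroup
  obtain ⟨F, i1, i2, r₁, D₁, hrA₁, h₁⟩ := exists_datum hs (hA₁.conj g) hg
  obtain ⟨g', hg'⟩ := exists_sylow_conj_le T h₁.pg
  haveI : Finite F := Finite.of_fintype F
  set r := r₁.conj g' with hr
  set D := D₁^ᶜg' with hD
  have h : Datum act p M r D := h₁.conj g'
  have hPT : r.A ⊔ D ≤ (T : Subgroup P) := by rw [hr, hD, r₁.conj_A, ← Subgroup.map_sup]; exact hg'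
  refine ⟨F, i1, i2, r, D, h.mem, hPT, h.cen, ?_, J_comm hs h hPT, J_pow hs h hPT, ?_, ?_, ?_⟩
  · have := h.notle 1 (by rw [conj_one]; exact hPT.trans hs.hM.2)
    rwa [conj_one] at this
  · intro O hO hOT
    exact ⟨off_T hs h hPT hO hOT, (off_le hs h hPT hO (off_T hs h hPT hO hOT)).1⟩
  · intro x hx hfix
    rw [← iSup_eq hs h hPT]
    refine mem_iSup_of_nice hs h hPT fun i => ?_
    have hu0 : ∀ u, act x ((rI i).u0 u) = (rI i).u0 u := fun u => by
      refine hfix _ fun a ha => ?_
      obtain ⟨b, hb⟩ := nice_of_mem hs h hPT i ha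
      show act a ((rI i).ι ![u, 0]) = (rI i).ι ![u, 0]
      rw [hb, (rI i).act_a, show (rI i).p1 ((rI i).ι ![u, 0]) = 0 from (rI i).p1_u0 u, mul_zero, map_zero,
        add_zero]
    have hst : i.1^ᶜx = i.1 := by
      set j : Ix T r.A := ⟨i.1^ᶜx, x * i.x, Subgroup.mul_mem _ hx i.x_mem,
        by rw [← conj_conj, i.x_conj]⟩ with hj
      by_contra hne
      have hij : j ≠ i := fun e => hne (congrArg Subtype.val e)
      have htu : act (rI i).t ((rI i).u0 1) = -(rI i).u0 1 := by
        rw [(rI i).act_t, (rI i).kp_u0, (rI i).p0_u0, (rI i).p1_u0, map_zero, sub_zero, zero_sub]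
      have h1 : act (rI j).t ((rI i).u0 1) = -(rI i).u0 1 := by
        conv_lhs => rw [← hu0, ← act_mul, ← t_conj hs h hPT hx (i := i) (j := j) rfl, act_mul, htu,
          map_neg, hu0]
      have h2 := congrArg (rI i).π ((rI j).neg_eigen hs.two h1)
      rw [π_ι hs h hPT hij] at h2
      refine one_ne_zero (α := F) ?_
      rw [← (rI i).p0_u0 1]
      exact congrFun h2.symm 0
    obtain ⟨n, hn⟩ := T.2 ⟨x, hx⟩
    exact (linearise hs (datum_I hs h hPT i).1.mem
      (triv_of_fix hs (congrArg Subtype.val hn) (by rw [rI_A]; exact hst) hu0)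
      (norm_t hs h hPT (P1_conj hs h hPT hx) i hst)).2
  · intro R hRT hTR ⟨O, hO, hOR⟩
    have hOT := hOR.trans hRT
    obtain ⟨i₀, hi₀⟩ : ∃ i : Ix T r.A, i.1 ≤ O := by
      by_contra hall
      push Not at hall
      refine hO.ne ((eq_bot_iff_forall _).2 fun x hx => ext_I hs h hPT fun i w => ?_)
      rw [act_one]
      exact ((off_le hs h hPT hO (off_T hs h hPT hO hOT)).2 i).resolve_left (hall i) x hx w
    rw [← iSup_eq hs h hPT]
    refine iSup_le fun j => ?_
    have hy : j.x * i₀.x⁻¹ ∈ (T : Subgroup P) := Subgroup.mul_mem _ j.x_mem (Subgroup.inv_mem _ i₀.x_mem)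
    have e : i₀.1^ᶜ(j.x * i₀.x⁻¹) = j.1 := by
      rw [← i₀.x_conj, conj_conj, inv_mul_cancel_right, j.x_conj]
    rw [← e, ← mem_normalizer_conj_iff.1 (hTR hy)]
    exact map_mono (hi₀.trans hOR)

end CfsgLib.Techniques.FocalOdd
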