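import Cfsg.Agent.Lib.Techniques.FocalOdd.Rigid

/-!
# The conjugates of a datum in a Sylow subgroup
-/

set_option autoImplicit false
set_option linter.all false
set_option maxHeartbeats 1000000

namespace CfsgLib.Techniques.FocalOdd

open Subgroup Matrix CfsgLib.LocalEven CfsgLib.LocalEven.OffSL2
open scoped MatrixGroups

variable {P V : Type*} [Group P] [AddCommGroup V] [Finite P] [Finite V] {p : ℕ} [hp : Fact p.Prime]
  {act : P →* AddMonoid.End V} {T : Sylow p P} {M : Subgroup P} {F : Type} [Field F] {r : Root act F}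
  {D : Subgroup P}

local notation:max X:max "^ᶜ" g:max => Subgroup.map (MulEquiv.toMonoidHom (MulAut.conj g)) X

omit [Finite P] [Finite V] in
theorem Root.a_t (hinj : Function.Injective act) (b : F) : r.a b * r.t = r.t * r.a b := by
  refine hinj (AddMonoidHom.ext fun v => ?_)
  show act (r.a b * r.t) v = act (r.t * r.a b) v
  rw [act_mul, act_mul, r.act_a, r.act_t, r.act_t, r.act_a]
  simp only [map_add, map_sub, r.p0_u0, r.p1_u0, r.p1_l0, r.p1_kp, r.kp_u0, r.p0_kp, r.p0_l0, sub_zero,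
    zero_sub, add_zero, zero_add, mul_neg, map_neg, map_zero]
  abel

theorem Root.neg_eigen (h2 : ∀ v : V, v + v = 0 → v = 0) {v : V} (h : act r.t v = -v) :
    r.ι (r.π v) = v := by
  rw [r.act_t] at h
  have h3 := r.decomp v
  have h4 : r.kp v = 0 := h2 _ (by linear_combination (norm := abel) h + h3)
  rw [r.kp_def, sub_eq_zero] at h4
  exact h4.symm

theorem Root.comm_proj (h2 : ∀ v : V, v + v = 0 → v = 0) {x : P} (hx : x * r.t = r.t * x) (v : V) :
    r.ι (r.π (act x v)) = act x (r.ι (r.π v)) := by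
  obtain ⟨hK, hW⟩ := r.comm_t h2 hx
  have hv : r.ι (r.π v) + r.kp v = v := by rw [r.kp_def]; abel
  conv_lhs => rw [← hv, map_add, map_add, hK _ (r.π_kp v), add_zero]
  have h1 := hW (r.π v)
  rw [r.kp_def, sub_eq_zero] at h1
  exact h1.symm

/-- A subgroup containing `T` and the `SL₂` is everything. -/
theorem Datum.top (hs : Setting act T M) (h : Datum act p M r D) (hPT : r.A ⊔ D ≤ (T : Subgroup P))
    {X : Subgroup P} (hT : (T : Subgroup P) ≤ X) (hE : r.emb.range ≤ X) : X = ⊤ := by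
  by_contra hne
  obtain ⟨N, hN, hXN⟩ := (eq_top_or_exists_le_coatom X).resolve_left hne
  obtain ⟨M₀, -, hu⟩ := hs.minimal.2
  have e : N = M := (hu N ⟨hN, hT.trans hXN⟩).trans (hu M hs.hM).symm
  exact h.notle 1 (by rw [conj_one]; exact hPT.trans hs.hM.2) (by rw [conj_one, ← e]; exact hE.trans hXN)

/-- The index set. -/
abbrev Ix (T : Sylow p P) (A : Subgroup P) : Type _ :=
  {Y : Subgroup P // ∃ x ∈ (T : Subgroup P), A^ᶜx = Y}

/-- The conjugating element. -/
noncomputable def Ix.x {A : Subgroup P} (i : Ix T A) : P := i.2.choose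

theorem Ix.x_mem {A : Subgroup P} (i : Ix T A) : i.x ∈ (T : Subgroup P) := i.2.choose_spec.1

theorem Ix.x_conj {A : Subgroup P} (i : Ix T A) : A^ᶜ(i.x) = i.1 := i.2.choose_spec.2

/-- The root subgroup of an index. -/
noncomputable def rI (i : Ix T r.A) : Root act F := r.conj i.x

theorem rI_A (i : Ix T r.A) : (rI i).A = i.1 := by rw [rI, r.conj_A, i.x_conj]

section
variable (hs : Setting act T M) (h : Datum act p M r D) (hPT : r.A ⊔ D ≤ (T : Subgroup P))
include hs h hPT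

theorem P1_conj {x : P} (hx : x ∈ (T : Subgroup P)) : (r.A ⊔ D)^ᶜx = r.A ⊔ D :=
  mem_normalizer_conj_iff.1 ((growth hs h T.2 hPT).1 hx)

theorem datum_I (i : Ix T r.A) :
    Datum act p M (rI i) (D^ᶜ(i.x)) ∧ (rI i).A ⊔ D^ᶜ(i.x) = r.A ⊔ D := by
  refine ⟨h.conj _, ?_⟩
  rw [rI, r.conj_A, ← Subgroup.map_sup, P1_conj hs h hPT i.x_mem]

theorem members_I (i : Ix T r.A) {Y : Subgroup P} (hY : IsMember act p Y) (hle : Y ≤ r.A ⊔ D) :
    Y = i.1 ∨ Y ≤ D^ᶜ(i.x) :=
  rI_A i ▸ (datum_I hs h hPT i).1.members hs hY ((datum_I hs h hPT i).2.ge.trans' hle)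

theorem I_le (i : Ix T r.A) : i.1 ≤ r.A ⊔ D := by
  rw [← rI_A i]; exact le_sup_left.trans (datum_I hs h hPT i).2.le

theorem I_member (i : Ix T r.A) : IsMember act p i.1 := by
  rw [← rI_A i]; exact (datum_I hs h hPT i).1.mem

theorem I_le_D {i j : Ix T r.A} (hij : i ≠ j) : i.1 ≤ D^ᶜ(j.x) :=
  (members_I hs h hPT j (I_member hs h hPT i) (I_le hs h hPT i)).resolve_left fun e => hij (Subtype.ext e)

theorem norm_D {x : P} (hn : (r.A ⊔ D)^ᶜx = r.A ⊔ D) (i : Ix T r.A) (hx : i.1^ᶜx = i.1) :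
    (D^ᶜ(i.x))^ᶜx = D^ᶜ(i.x) := by
  obtain ⟨hd, hP⟩ := datum_I hs h hPT i
  refine eq_of_le_of_card_ge (map_le_iff_le_comap.2 (hd.gen _ fun Z hZ hZD => map_le_iff_le_comap.1 ?_))
    (card_map_of_injective (MulAut.conj x).injective).ge
  refine (members_I hs h hPT i (hZ.conj x) ((map_mono ((hZD.trans le_sup_right).trans hP.le)).trans
    hn.le)).resolve_left fun e => hd.A_not_le hs ?_
  have : Z = i.1 := map_injective (MulAut.conj x).injective (e.trans hx.symm)
  rw [rI_A, ← this]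
  exact hZD

theorem norm_t [Finite F] {x : P} (hn : (r.A ⊔ D)^ᶜx = r.A ⊔ D) (i : Ix T r.A) (hx : i.1^ᶜx = i.1) :
    x * (rI i).t = (rI i).t * x :=
  comm_t_of_normalizer hs (datum_I hs h hPT i).1 (by rw [rI_A]; exact hx) (norm_D hs h hPT hn i hx)

theorem t_conj [Finite F] {x : P} (hx : x ∈ (T : Subgroup P)) {i j : Ix T r.A} (hij : i.1^ᶜx = j.1) :
    x * (rI i).t = (rI j).t * x := by
  set y := j.x⁻¹ * x * i.x with hy
  have hyT : y ∈ (T : Subgroup P) :=
    Subgroup.mul_mem _ (Subgroup.mul_mem _ (Subgroup.inv_mem _ j.x_mem) hx) i.x_mem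
  have hyA : r.A^ᶜy = r.A := by
    have : (r.A^ᶜ(i.x))^ᶜx = r.A^ᶜ(j.x) := by rw [i.x_conj, j.x_conj]; exact hij
    have h1 := congrArg (fun X : Subgroup P => X^ᶜ(j.x⁻¹)) this
    simp only [conj_conj] at h1
    rw [inv_mul_cancel, conj_one, ← mul_assoc] at h1
    exact h1
  have hyD : D^ᶜy = D := by
    refine eq_of_le_of_card_ge (map_le_iff_le_comap.2 (h.gen _ fun Z hZ hZD => map_le_iff_le_comap.1 ?_))
      (card_map_of_injective (MulAut.conj y).injective).ge
    refine (h.members hs (hZ.conj y) ((map_mono (hZD.trans le_sup_right)).trans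
      (P1_conj hs h hPT hyT).le)).resolve_left fun e => h.A_not_le hs ?_
    exact (map_injective (MulAut.conj y).injective (e.trans hyA.symm)).ge.trans hZD
  have h2 := comm_t_of_normalizer hs h hyA hyD
  rw [rI, rI, r.conj_t, r.conj_t]
  calc x * (i.x * r.t * i.x⁻¹) = j.x * (y * r.t) * i.x⁻¹ := by rw [hy]; group
    _ = j.x * (r.t * y) * i.x⁻¹ := by rw [h2]
    _ = _ := by rw [hy]; group

theorem t_comm [Finite F] (i j : Ix T r.A) : (rI i).t * (rI j).t = (rI j).t * (rI i).t := by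
  obtain ⟨hdi, hPi⟩ := datum_I hs h hPT i
  have hDi : (D^ᶜ(i.x))^ᶜ((rI i).t) = D^ᶜ(i.x) := conj_eq_of_comm fun d hd => hdi.cen d hd _
  have hAi : ∀ k : Ix T r.A, k.1^ᶜ((rI i).t) = k.1 := fun k => conj_eq_of_comm fun d hd => by
    by_cases hk : k = i
    · rw [hk, ← rI_A i] at hd
      obtain ⟨b, rfl⟩ := Root.mem_A.1 hd
      exact (rI i).a_t hs.inj b
    · exact hdi.cen d (I_le_D hs h hPT hk hd) _
  refine norm_t hs h hPT ?_ j (hAi j)
  rw [← hPi, Subgroup.map_sup, hDi, rI_A, hAi i]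

theorem a_fix {i j : Ix T r.A} (hij : i ≠ j) (c : F) (w : Fin 2 → F) :
    act ((rI i).a c) ((rI j).ι w) = (rI j).ι w :=
  (datum_I hs h hPT j).1.D_ι hs (I_le_D hs h hPT hij (rI_A i ▸ (rI i).a_mem c)) w

theorem π_ι [Finite F] {i j : Ix T r.A} (hij : i ≠ j) (w : Fin 2 → F) : (rI j).π ((rI i).ι w) = 0 := by
  set v := (rI i).ι w with hv
  set u := (rI j).ι ((rI j).π v) with hu
  have h1 : act (rI i).t v = -v := by
    rw [hv, (rI i).act_t, (rI i).kp_ι, zero_sub, sub_eq_add_neg, ← neg_add, ← (rI i).π_eq_aux]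
  have h2 : act (rI i).t u = -u := by
    rw [hu, ← (rI j).comm_proj hs.two (t_comm hs h hPT i j) v, h1, map_neg, map_neg]
  have h3 := (rI i).neg_eigen hs.two h2
  have h4 : (rI i).p1 u = 0 := by
    have h5 : act ((rI i).a 1) u = u := a_fix hs h hPT hij 1 _
    rw [(rI i).act_a, one_mul, add_eq_left] at h5
    exact (rI i).u0_injective (h5.trans (map_zero _).symm)
  have h6 : u = (rI i).u0 ((rI i).p0 u) := by
    conv_lhs => rw [← h3, (rI i).ι_eq]
    show _ + (rI i).l0 ((rI i).p1 u) = _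
    rw [h4, map_zero, add_zero]
    rfl
  have h7 : (rI j).π u = 0 := by
    have h8 := (datum_I hs h hPT j).1.π_D hs (I_le_D hs h hPT hij
      (rI_A i ▸ (rI i).a_mem ((rI i).p0 u))) ((rI i).l0 1)
    rw [(rI i).act_a, (rI i).p1_l0, mul_one, map_add, ← h6, add_eq_left] at h8
    exact h8
  rwa [hu, (rI j).πι] at h7

theorem sum_proj [Finite F] [Fintype (Ix T r.A)] (v : V) : ∑ i : Ix T r.A, (rI i).ι ((rI i).π v) = v := by
  classical
  set S : AddSubgroup V := ⨆ i : Ix T r.A, (rI i).ι.range with hS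
  have hin : ∀ (i : Ix T r.A) w, (rI i).ι w ∈ S := fun i w => AddSubgroup.mem_iSup_of_mem i ⟨w, rfl⟩
  set i₀ : Ix T r.A := ⟨r.A, 1, one_mem _, conj_one _⟩
  have htop : stabS act S = ⊤ := by
    refine (datum_I hs h hPT i₀).1.top hs ((datum_I hs h hPT i₀).2.le.trans hPT) ?_ ?_
    · intro x hx
      have hle : S ≤ S.comap (act x : V →+ V) := iSup_le fun i => by
        rintro _ ⟨w, rfl⟩
        show act x ((rI i).ι w) ∈ S
        set j : Ix T r.A := ⟨i.1^ᶜx, x * i.x, Subgroup.mul_mem _ hx i.x_mem,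
          by rw [← conj_conj, i.x_conj]⟩ with hj
        have hxt := t_conj hs h hPT hx (i := i) (j := j) rfl
        have : act (rI j).t (act x ((rI i).ι w)) = -act x ((rI i).ι w) := by
          rw [← act_mul, ← hxt, act_mul, (rI i).act_t, (rI i).kp_ι, zero_sub, sub_eq_add_neg, ← neg_add,
            ← (rI i).π_eq_aux, map_neg]
        rw [← (rI j).neg_eigen hs.two this]
        exact hin j _
      exact fun u hu => hle hu
    · rintro _ ⟨g, rfl⟩ u hu
      rw [(rI i₀).act_emb]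
      exact add_mem (sub_mem hu (hin i₀ _)) (hin i₀ _)
  haveI := hs.nontrivialV
  have hSV : S = ⊤ := (hs.irr S fun g u hu => (htop.ge (mem_top g) :) u hu).resolve_left fun e => by
    have h1 := hin i₀ ![1, 0]
    rw [e, AddSubgroup.mem_bot] at h1
    exact one_ne_zero (α := F) ((rI i₀).u0_injective (h1.trans (map_zero _).symm))
  let sumHom : V →+ V := ∑ i : Ix T r.A, (rI i).ι.comp (rI i).π
  have hle : S ≤ AddMonoidHom.eqLocus sumHom (AddMonoidHom.id V) := iSup_le fun i => by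
    rintro _ ⟨w, rfl⟩
    show sumHom ((rI i).ι w) = (rI i).ι w
    rw [AddMonoidHom.finset_sum_apply, Finset.sum_eq_single i]
    · show (rI i).ι ((rI i).π ((rI i).ι w)) = _
      rw [(rI i).πι]
    · intro j _ hj
      show (rI j).ι ((rI j).π ((rI i).ι w)) = 0
      rw [π_ι hs h hPT (Ne.symm hj), map_zero]
    · exact fun h' => absurd (Finset.mem_univ i) h'
  have h1 : sumHom v = v := hle (hSV.ge (AddSubgroup.mem_top v))
  rwa [AddMonoidHom.finset_sum_apply] at h1

theorem ext_I [Finite F] {x y : P} (hxy : ∀ (i : Ix T r.A) w, act x ((rI i).ι w) = act y ((rI i).ι w)) :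
    x = y := by
  classical
  letI := Fintype.ofFinite (Ix T r.A)
  refine hs.inj (AddMonoidHom.ext fun v => ?_)
  show act x v = act y v
  conv_lhs => rw [← sum_proj hs h hPT v, map_sum]
  conv_rhs => rw [← sum_proj hs h hPT v, map_sum]
  exact Finset.sum_congr rfl fun i _ => hxy i _

theorem mem_iSup_of_nice [Finite F] {x : P}
    (hx : ∀ i : Ix T r.A, ∃ b, ∀ w, act x ((rI i).ι w) = act ((rI i).a b) ((rI i).ι w)) :
    x ∈ ⨆ i : Ix T r.A, i.1 := by
  classical
  letI := Fintype.ofFinite (Ix T r.A)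
  choose b hb using hx
  have key : ∀ s : Finset (Ix T r.A), ∃ y ∈ ⨆ i : Ix T r.A, i.1,
      (∀ i ∈ s, ∀ w, act y ((rI i).ι w) = act x ((rI i).ι w)) ∧
      ∀ i ∉ s, ∀ w, act y ((rI i).ι w) = (rI i).ι w := by
    intro s
    induction s using Finset.induction with
    | empty => exact ⟨1, one_mem _, fun i hi => absurd hi (Finset.notMem_empty i), fun i _ w => act_one act _⟩
    | insert j s hj ih =>
      obtain ⟨y, hy, hy1, hy2⟩ := ih
      refine ⟨(rI j).a (b j) * y, Subgroup.mul_mem _ (mem_iSup_of_mem j (rI_A j ▸ (rI j).a_mem _)) hy,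
        fun i hi w => ?_, fun i hi w => ?_⟩
      · rcases Finset.mem_insert.1 hi with rfl | hi'
        · rw [act_mul, hy2 _ hj, hb]
        · have hji : j ≠ i := fun e => hj (e ▸ hi')
          rw [act_mul, hy1 i hi', hb i, (rI i).act_emb_ι_aux, a_fix hs h hPT hji]
      · rw [Finset.mem_insert, not_or] at hi
        rw [act_mul, hy2 i hi.2, a_fix hs h hPT (Ne.symm hi.1)]
  obtain ⟨y, hy, hy1, -⟩ := key Finset.univ
  exact ext_I hs h hPT (x := y) (y := x) (fun i w => hy1 i (Finset.mem_univ i) w) ▸ hy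

theorem nice_of_mem (i : Ix T r.A) {x : P} (hx : x ∈ r.A ⊔ D) :
    ∃ b, ∀ w, act x ((rI i).ι w) = act ((rI i).a b) ((rI i).ι w) := by
  obtain ⟨hd, hP⟩ := datum_I hs h hPT i
  obtain ⟨b, d, hd', rfl⟩ := hd.mem_sup (hP.ge hx)
  exact ⟨b, fun w => by rw [act_mul, hd.D_ι hs hd']⟩

theorem iSup_eq [Finite F] : ⨆ i : Ix T r.A, i.1 = r.A ⊔ D :=
  le_antisymm (iSup_le (I_le hs h hPT)) fun x hx =>
    mem_iSup_of_nice hs h hPT fun i => nice_of_mem hs h hPT i hx

theorem J_comm [Finite F] : ∀ x ∈ r.A ⊔ D, ∀ y ∈ r.A ⊔ D, x * y = y * x := by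
  intro x hx y hy
  refine ext_I hs h hPT fun i w => ?_
  obtain ⟨b, hb⟩ := nice_of_mem hs h hPT i hx
  obtain ⟨c, hc⟩ := nice_of_mem hs h hPT i hy
  have e1 : act (x * y) ((rI i).ι w) = act ((rI i).a b * (rI i).a c) ((rI i).ι w) := by
    rw [act_mul, act_mul, hc, (rI i).act_emb_ι_aux c, hb]
  have e2 : act (y * x) ((rI i).ι w) = act ((rI i).a c * (rI i).a b) ((rI i).ι w) := by
    rw [act_mul, act_mul, hb, (rI i).act_emb_ι_aux b, hc]
  rw [e1, e2, ← (rI i).a_add, add_comm, (rI i).a_add]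

theorem J_pow [Finite F] : ∀ x ∈ r.A ⊔ D, x ^ p = 1 := by
  intro x hx
  refine ext_I hs h hPT fun i w => ?_
  obtain ⟨b, hb⟩ := nice_of_mem hs h hPT i hx
  have hn : ∀ n : ℕ, ∀ w, act (x ^ n) ((rI i).ι w) = act ((rI i).a b ^ n) ((rI i).ι w) := by
    intro n
    induction n with
    | zero => intro w; rw [pow_zero, pow_zero]
    | succ n ih =>
      intro w
      rw [pow_succ, act_mul, hb, (rI i).act_emb_ι_aux, ih, ← (rI i).act_emb_ι_aux, ← act_mul, ← pow_succ]
  rw [hn, (datum_I hs h hPT i).1.mem.pow _ ((rI i).a_mem b)]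

end

end CfsgLib.Techniques.FocalOdd
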