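import Cfsg.Agent.Lib.Techniques.FocalOdd.Members
import Cfsg.Agent.Lib.LocalEven.OffenderSL2Main

/-!
# A quadratic subgroup with two-conjugate generation on an irreducible module
-/

set_option autoImplicit false
set_option linter.all false

namespace CfsgLib.Techniques.FocalOdd

open Subgroup Matrix CfsgLib.LocalEven.OffSL2

variable {P V : Type*} [Group P] [AddCommGroup V] {p : ℕ}

/-- The hypotheses. -/
structure Pair (act : P →* AddMonoid.End V) (T : Sylow p P) (M A : Subgroup P) : Prop where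
  inj : Function.Injective act
  irr : ∀ U : AddSubgroup V, (∀ g : P, ∀ u ∈ U, act g u ∈ U) → U = ⊥ ∨ U = ⊤
  AT : A ≤ (T : Subgroup P)
  TM : (T : Subgroup P) ≤ M
  Mne : M ≠ ⊤
  ne : A ≠ ⊥
  quad : ∀ a ∈ A, ∀ v, act a v - v ∈ fix act A
  gen : ∀ x ∉ M, A ⊔ A.map (MulAut.conj x).toMonoidHom = ⊤
  core : ∀ r ∈ (T : Subgroup P), (∀ g : P, g⁻¹ * r * g ∈ M) → ∀ g : P, g⁻¹ * r * g ∈ (T : Subgroup P)

variable [Finite P] [Finite V] [hp : Fact p.Prime] {act : P →* AddMonoid.End V} {T : Sylow p P} {M A : Subgroup P}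

omit [Finite P] [Finite V] in
theorem Pair.fix_top (h : Pair act T M A) : fix act (⊤ : Subgroup P) = ⊥ := by
  refine (h.irr _ fun g u hu => by rw [fix_top_act act hu]; exact hu).resolve_right fun e => ?_
  refine h.ne ((eq_bot_iff_forall _).2 fun a _ => h.inj ?_)
  rw [map_one]
  exact AddMonoidHom.ext fun v => fix_top_act act (e.ge (AddSubgroup.mem_top v)) a

omit [Finite P] [Finite V] in
theorem Pair.inf_fix (h : Pair act T M A) {g : P} (hg : g ∉ M) {v : V} (h1 : v ∈ fix act A)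
    (h2 : act g⁻¹ v ∈ fix act A) : v = 0 := by
  have := mem_top_of_gen act (h.gen g hg) h1 ((mem_fix_conj act).2 h2)
  rwa [h.fix_top, AddSubgroup.mem_bot] at this

omit [Finite P] in
/-- `V` is the sum of the fixed points of `A` and a translate. -/
theorem Pair.decomp (h : Pair act T M A) (hfix : fix act A ≠ ⊥) {g : P} (hg : g ∉ M) (v : V) :
    ∃ w x, w ∈ fix act A ∧ act g⁻¹ x ∈ fix act A ∧ w + x = v := by
  obtain ⟨S, hS⟩ : ∃ S, S = fix act A ⊔ fix act (A.map (MulAut.conj g).toMonoidHom) := ⟨_, rfl⟩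
  have hA : A ≤ stabS act S := fun a ha s hs => by
    rw [← sub_add_cancel (act a s) s]
    exact add_mem (hS ▸ AddSubgroup.mem_sup_left (h.quad a ha s)) hs
  have hB : A.map (MulAut.conj g).toMonoidHom ≤ stabS act S := by
    rintro _ ⟨a, ha, rfl⟩ s hs
    show act (g * a * g⁻¹) s ∈ S
    rw [act_mul, act_mul, ← sub_add_cancel (act g (act a (act g⁻¹ s))) s]
    refine add_mem (hS ▸ AddSubgroup.mem_sup_right ((mem_fix_conj act).2 ?_)) hs
    rw [map_sub, act_inv]
    exact h.quad a ha _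
  have htop := (h.gen g hg).ge.trans (sup_le hA hB)
  have hStop : S = ⊤ := (h.irr S fun k u hu => htop (mem_top k) u hu).resolve_left fun e =>
    hfix (le_bot_iff.1 (e ▸ hS ▸ le_sup_left))
  obtain ⟨w, hw, x, hx, e⟩ := AddSubgroup.mem_sup.1 (hS ▸ hStop.ge (AddSubgroup.mem_top v))
  exact ⟨w, x, hw, (mem_fix_conj act).1 hx, e⟩

theorem Pair.facts (h : Pair act T M A) (hpV : ∀ v : V, p • v = 0) :
    (∀ a ∈ A, a ≠ 1 → ∀ v, act a v = v → v ∈ fix act A) ∧
      Nat.card A ≤ Nat.card (fix act A) ∧ Nat.card V = Nat.card (fix act A) * Nat.card (fix act A) ∧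
      ∃ y, y ∈ fix act (T : Subgroup P) ∧ y ≠ 0 := by
  haveI : Nontrivial V := by
    by_contra hc
    rw [not_nontrivial_iff_subsingleton] at hc
    exact h.ne ((eq_bot_iff_forall _).2 fun a _ => h.inj (AddMonoidHom.ext fun v => Subsingleton.elim _ _))
  obtain ⟨y, hy, hy0⟩ : ∃ y, y ∈ fix act (T : Subgroup P) ∧ y ≠ 0 := by
    letI : MulAction (T : Subgroup P) V :=
      { smul := fun a v => act (a : P) v
        one_smul := fun v => act_one act v
        mul_smul := fun a b v => act_mul act (a : P) b v }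
    have hdvd : p ∣ Nat.card V := by
      obtain ⟨n, hn⟩ := exists_card_eq_pow hpV (⊤ : AddSubgroup V)
      rw [AddSubgroup.card_top] at hn
      rcases n with _ | n
      · have := Finite.one_lt_card (α := V)
        rw [hn, pow_zero] at this
        exact absurd this (lt_irrefl 1)
      · exact hn ▸ dvd_pow_self p n.succ_ne_zero
    obtain ⟨y, hy, hy0⟩ := T.2.exists_fixed_point_of_prime_dvd_card_of_fixed_point (α := V) hdvd
      (a := 0) (fun c => map_zero _)
    exact ⟨y, fun a ha => hy ⟨a, ha⟩, hy0.symm⟩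
  have hyA : y ∈ fix act A := fun a ha => hy a (h.AT ha)
  have hfix : fix act A ≠ ⊥ := fun e => hy0 (AddSubgroup.mem_bot.1 (e ▸ hyA))
  obtain ⟨g, hg⟩ : ∃ g, g ∉ M := by
    by_contra hc
    push Not at hc
    exact h.Mne (eq_top_iff.2 fun g _ => hc g)
  -- the conjugates of a nontrivial element leave `M`
  have hout : ∀ a ∈ A, a ≠ 1 → ∀ g ∉ M, g⁻¹ * a * g ∉ M := by
    intro a ha ha1 g hg hd
    by_cases hall : ∀ k : P, k⁻¹ * a * k ∈ M
    · have hk := h.core a (h.AT ha) hall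
      refine ha1 (h.inj ?_)
      rw [map_one]
      refine AddMonoidHom.ext fun v => ?_
      have htop : (AddSubgroup.closure (Set.range fun k => act k y)) = ⊤ := by
        refine (h.irr _ fun k u hu => ?_).resolve_left fun e =>
          hy0 (AddSubgroup.mem_bot.1 (e ▸ AddSubgroup.subset_closure ⟨1, act_one act y⟩))
        refine (show AddSubgroup.closure (Set.range fun k => act k y) ≤
          (AddSubgroup.closure (Set.range fun k => act k y)).comap (act k : V →+ V) from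
            (AddSubgroup.closure_le _).2 ?_) hu
        rintro _ ⟨j, rfl⟩
        exact AddSubgroup.subset_closure ⟨k * j, act_mul act k j y⟩
      have hle : AddSubgroup.closure (Set.range fun k => act k y) ≤ fix act (Subgroup.zpowers a) := by
        refine (AddSubgroup.closure_le _).2 ?_
        rintro _ ⟨k, rfl⟩ b hb
        refine (zpowers_le.2 ?_ : Subgroup.zpowers a ≤ stabV act (act k y)) hb
        show act a (act k y) = act k y
        rw [← act_mul, show a * k = k * (k⁻¹ * a * k) by group, act_mul, hy _ (hk k)]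
      exact hle (htop.ge (AddSubgroup.mem_top v)) a (mem_zpowers a)
    push Not at hall
    obtain ⟨k, hk⟩ := hall
    have hkM : k ∉ M := fun hkM => hk (M.mul_mem (M.mul_mem (M.inv_mem hkM) (h.TM (h.AT ha))) hkM)
    obtain ⟨i, hi⟩ := IsPGroup.iff_orderOf.1 T.2 (⟨a, h.AT ha⟩ : (T : Subgroup P))
    rw [Subgroup.orderOf_mk] at hi
    set d := g⁻¹ * a * g with hd'
    have hdord : orderOf (⟨d, hd⟩ : M) = p ^ i := by
      rw [Subgroup.orderOf_mk, ← hi, hd', show g⁻¹ * a * g = (MulAut.conj g⁻¹).toMonoidHom a by simp,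
        orderOf_injective _ (MulAut.conj g⁻¹).injective]
    obtain ⟨S, hS⟩ := (IsPGroup.of_card (n := i) (by rw [Nat.card_zpowers, hdord]) :
      IsPGroup p (Subgroup.zpowers (⟨d, hd⟩ : M))).exists_le_sylow
    obtain ⟨m, hm⟩ := MulAction.exists_smul_eq M (T.subtype h.TM) S
    have hdm : (m : P)⁻¹ * d * m ∈ (T : Subgroup P) := by
      have h1 := hS (mem_zpowers _)
      rw [← hm] at h1
      obtain ⟨t, ht, hte⟩ := h1
      have hteP : (m : P) * t * (m : P)⁻¹ = d := congrArg Subtype.val hte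
      rw [← hteP, show (m : P)⁻¹ * ((m : P) * t * (m : P)⁻¹) * m = (t : P) by group]
      exact mem_subgroupOf.1 ht
    have hgm : g * m ∉ M := fun hc => hg (by simpa [mul_assoc] using M.mul_mem hc (M.inv_mem m.2))
    set u := act (g * m) y with hu
    have hau : act a u = u := by
      rw [hu, ← act_mul, show a * (g * m) = (g * m) * ((m : P)⁻¹ * d * m) by rw [hd']; group,
        act_mul, hy _ hdm]
    obtain ⟨w, x, hw, hx, e⟩ := h.decomp hfix hkM u
    have hax : act a x = x := by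
      rw [← e, map_add, hw a ha, add_right_inj] at hau
      exact hau
    have hx0 : act k⁻¹ x = 0 := h.inf_fix hk hx (by
      rw [show (k⁻¹ * a * k)⁻¹ = k⁻¹ * a⁻¹ * k by group, act_mul, act_mul, act_inv',
        show act a⁻¹ x = x by conv_lhs => rw [← hax, act_inv]]
      exact hx)
    have hxz : x = 0 := by rw [← act_inv' act k x, hx0, map_zero]
    rw [hxz, add_zero] at e
    refine hy0 (act_injective act (g * m) ?_)
    rw [map_zero, ← hu]
    exact h.inf_fix hgm (e ▸ hw) (by rw [hu, act_inv]; exact hyA)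
  have hfree : ∀ a ∈ A, a ≠ 1 → ∀ x, act g⁻¹ x ∈ fix act A → act a x = x → x = 0 := by
    intro a ha ha1 x hx hax
    have hx0 : act g⁻¹ x = 0 := h.inf_fix (hout a ha ha1 g hg) hx (by
      rw [show (g⁻¹ * a * g)⁻¹ = g⁻¹ * a⁻¹ * g by group, act_mul, act_mul, act_inv',
        show act a⁻¹ x = x by conv_lhs => rw [← hax, act_inv]]
      exact hx)
    rw [← act_inv' act g x, hx0, map_zero]
  refine ⟨fun a ha ha1 v hv => ?_, ?_, ?_, y, hy, hy0⟩
  · obtain ⟨w, x, hw, hx, rfl⟩ := h.decomp hfix hg v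
    rw [map_add, hw a ha, add_right_inj] at hv
    rw [hfree a ha ha1 x hx hv, add_zero]
    exact hw
  · set x₀ := act g y with hx₀
    refine Nat.card_le_card_of_injective (fun a : A => (⟨act (a : P) x₀ - x₀, h.quad a a.2 x₀⟩ : fix act A))
      fun a b hab => ?_
    have e : act (a : P) x₀ = act (b : P) x₀ := sub_left_inj.1 (congrArg Subtype.val hab)
    by_contra hne
    refine hy0 (act_injective act g ?_)
    rw [map_zero]
    refine hfree ((b : P)⁻¹ * a) (mul_mem (inv_mem b.2) a.2) (fun e' => hne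
      (Subtype.ext (inv_mul_eq_one.1 e').symm)) x₀ (by rw [hx₀, act_inv]; exact hyA) ?_
    rw [act_mul, e, act_inv]
  · have hX : Nat.card (fix act (A.map (MulAut.conj g).toMonoidHom)) = Nat.card (fix act A) := card_fix_conj g A
    have e := card_sup_mul_inf (fix act A) (fix act (A.map (MulAut.conj g).toMonoidHom))
    have htop : fix act A ⊔ fix act (A.map (MulAut.conj g).toMonoidHom) = ⊤ := eq_top_iff.2 fun v _ => by
      obtain ⟨w, x, hw, hx, rfl⟩ := h.decomp hfix hg v
      exact AddSubgroup.add_mem_sup hw ((mem_fix_conj act).2 hx)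
    have hbot : fix act A ⊓ fix act (A.map (MulAut.conj g).toMonoidHom) = ⊥ :=
      eq_bot_iff.2 fun v hv => AddSubgroup.mem_bot.2 (h.inf_fix hg hv.1 ((mem_fix_conj act).1 hv.2))
    rw [htop, hbot, AddSubgroup.card_top, AddSubgroup.card_bot, mul_one, hX] at e
    exact e

/-- A matrix moving the first basis vector to a given one. -/
theorem exists_moving {F : Type*} [Field F] {w : Fin 2 → F} (hw : w ≠ 0) :
    ∃ s : SpecialLinearGroup (Fin 2) F, (s : Matrix (Fin 2) (Fin 2) F) *ᵥ ![1, 0] = w := by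
  by_cases h0 : w 0 = 0
  · have h1 : w 1 ≠ 0 := fun h1 => hw (funext fun i => by fin_cases i <;> simp [h0, h1])
    refine ⟨⟨!![0, -(w 1)⁻¹; w 1, 0], by simp [det_fin_two, h1]⟩, funext fun i => ?_⟩
    fin_cases i <;> simp [h0]
  · refine ⟨⟨!![w 0, 0; w 1, (w 0)⁻¹], by simp [det_fin_two, h0]⟩, funext fun i => ?_⟩
    fin_cases i <;> simp

theorem sl_mulVec {F : Type*} [Field F] (g h : SpecialLinearGroup (Fin 2) F) (v : Fin 2 → F) :
    ((g * h : SpecialLinearGroup (Fin 2) F) : Matrix (Fin 2) (Fin 2) F) *ᵥ v =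
      (g : Matrix (Fin 2) (Fin 2) F) *ᵥ ((h : Matrix (Fin 2) (Fin 2) F) *ᵥ v) := by
  rw [mulVec_mulVec]; rfl

theorem sl_one_mulVec {F : Type*} [Field F] (v : Fin 2 → F) :
    ((1 : SpecialLinearGroup (Fin 2) F) : Matrix (Fin 2) (Fin 2) F) *ᵥ v = v := by
  exact one_mulVec v

/-- The natural coordinates, adapted to `A`. -/
theorem Pair.natural (h : Pair act T M A) (hpV : ∀ v : V, p • v = 0)
    (hAW : Nat.card A = Nat.card (fix act A)) :
    ∃ (F : Type) (_ : Field F) (_ : Fintype F) (ψ : V ≃+ (Fin 2 → F))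
      (ρ : P →* SpecialLinearGroup (Fin 2) F),
      Fintype.card F = Nat.card A ∧ Function.Bijective ρ ∧
        (∀ g v, ψ (act g v) = (ρ g : Matrix (Fin 2) (Fin 2) F) *ᵥ ψ v) ∧
        (∀ a ∈ A, ∃ b, ρ a = CfsgLib.LocalEvenB.upU b) ∧
        (∀ b, ∃ a ∈ A, ρ a = CfsgLib.LocalEvenB.upU b) := by
  classical
  obtain ⟨huni, -, hV, y, hy, hy0⟩ := h.facts hpV
  have hyp : Hyp act T M A y :=
    { inj := h.inj, AT := h.AT, TM := h.TM, Mne := h.Mne, quad := h.quad
      hq := by rw [hV, hAW]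
      strict := fun A₀ hle h0 hne => by
        obtain ⟨a, ha, ha1⟩ := (Subgroup.bot_or_exists_ne_one A₀).resolve_left h0
        refine Nat.mul_lt_mul_of_lt_of_le ?_ ?_ Nat.card_pos
        · exact lt_of_le_of_ne (card_le_of_le hle) fun e => hne (eq_of_le_of_card_ge hle e.ge)
        · exact Nat.card_le_card_of_injective _ (AddSubgroup.inclusion_injective
            (show fix act A₀ ≤ fix act A from fun v hv => huni a (hle ha) ha1 v (hv a ha)))
      hy := hy
      hyZ := fun hc => hy0 (by rwa [h.fix_top, AddSubgroup.mem_bot] at hc)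
      gen := h.gen, core := h.core }
  obtain ⟨-, F, i1, i2, ψ, ρ, hc, hρ, hψ, hker, hact⟩ := hyp.natural hpV
  have hψinj : Function.Injective ψ := (injective_iff_map_eq_zero ψ).2 fun v hv => by
    have := (hker v).1 hv
    rwa [h.fix_top, AddSubgroup.mem_bot] at this
  have hψy : ψ y ≠ 0 := fun e => hy0 (hψinj (by rw [e, map_zero]))
  obtain ⟨s, hs⟩ := exists_moving hψy
  let sl : (Fin 2 → F) →+ (Fin 2 → F) :=
    { toFun := fun x => ((s⁻¹ : SpecialLinearGroup (Fin 2) F) : Matrix (Fin 2) (Fin 2) F) *ᵥ x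
      map_zero' := mulVec_zero _
      map_add' := fun x x' => mulVec_add _ x x' }
  have hsl : Function.Bijective sl := by
    refine ⟨fun x x' hxx => ?_, fun x => ⟨(s : Matrix (Fin 2) (Fin 2) F) *ᵥ x, ?_⟩⟩
    · have e := congrArg (fun z => (s : Matrix (Fin 2) (Fin 2) F) *ᵥ z) hxx
      replace e : (s : Matrix (Fin 2) (Fin 2) F) *ᵥ (((s⁻¹ : SpecialLinearGroup (Fin 2) F) : Matrix (Fin 2) (Fin 2) F) *ᵥ x) =
        (s : Matrix (Fin 2) (Fin 2) F) *ᵥ (((s⁻¹ : SpecialLinearGroup (Fin 2) F) : Matrix (Fin 2) (Fin 2) F) *ᵥ x') := e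
      rwa [← sl_mulVec, ← sl_mulVec, mul_inv_cancel, sl_one_mulVec, sl_one_mulVec] at e
    · show ((s⁻¹ : SpecialLinearGroup (Fin 2) F) : Matrix (Fin 2) (Fin 2) F) *ᵥ _ = x
      rw [← sl_mulVec, inv_mul_cancel, sl_one_mulVec]
  let ψ' : V ≃+ (Fin 2 → F) := AddEquiv.ofBijective (sl.comp ψ) (hsl.comp ⟨hψinj, hψ⟩)
  let ρ' : P →* SpecialLinearGroup (Fin 2) F := (MulAut.conj s⁻¹).toMonoidHom.comp ρ
  have hρ' : Function.Bijective ρ' := (MulAut.conj s⁻¹).bijective.comp hρ
  have hact' : ∀ g v, ψ' (act g v) = (ρ' g : Matrix (Fin 2) (Fin 2) F) *ᵥ ψ' v := fun g v => by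
    show ((s⁻¹ : SpecialLinearGroup (Fin 2) F) : Matrix (Fin 2) (Fin 2) F) *ᵥ ψ (act g v) =
      ((s⁻¹ * ρ g * s⁻¹⁻¹ : SpecialLinearGroup (Fin 2) F) : Matrix (Fin 2) (Fin 2) F) *ᵥ
        (((s⁻¹ : SpecialLinearGroup (Fin 2) F) : Matrix (Fin 2) (Fin 2) F) *ᵥ ψ v)
    rw [hact, ← sl_mulVec, ← sl_mulVec, inv_inv, mul_inv_cancel_right]
  have hψ'y : ψ' y = ![1, 0] := by
    show ((s⁻¹ : SpecialLinearGroup (Fin 2) F) : Matrix (Fin 2) (Fin 2) F) *ᵥ ψ y = _
    rw [← hs, ← sl_mulVec, inv_mul_cancel, sl_one_mulVec]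
  have hup : ∀ a ∈ A, ∃ b, ρ' a = CfsgLib.LocalEvenB.upU b := by
    intro a ha
    have h1 := hact' a y
    rw [hy a (h.AT ha), hψ'y] at h1
    set m := (ρ' a : Matrix (Fin 2) (Fin 2) F) with hm
    have e0 : m 0 0 = 1 := by simpa [mulVec, dotProduct, Fin.sum_univ_two] using (congrFun h1 0).symm
    have e1 : m 1 0 = 0 := by simpa [mulVec, dotProduct, Fin.sum_univ_two] using (congrFun h1 1).symm
    have hd : m 0 0 * m 1 1 - m 0 1 * m 1 0 = 1 := by
      rw [← det_fin_two]; exact (ρ' a).2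
    rw [e0, e1, one_mul, mul_zero, sub_zero] at hd
    refine ⟨m 0 1, Subtype.ext ?_⟩
    ext i j
    fin_cases i <;> fin_cases j <;> simp [CfsgLib.LocalEvenB.coe_upU, ← hm, e0, e1, hd]
  refine ⟨F, i1, i2, ψ', ρ', hc, hρ', hact', hup, fun b => ?_⟩
  choose f hf using hup
  have hf' : Function.Bijective fun a : A => f a a.2 := by
    refine (Nat.bijective_iff_injective_and_card _).2 ⟨fun a a' e => ?_, by
      rw [Nat.card_eq_fintype_card (α := F), hc]⟩
    exact Subtype.ext (hρ'.1 (by rw [hf a a.2, hf a' a'.2]; exact congrArg _ e))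
  obtain ⟨a, ha⟩ := hf'.2 b
  exact ⟨a, a.2, by rw [hf a a.2, ← ha]⟩

end CfsgLib.Techniques.FocalOdd
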