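import Cfsg.Agent.Lib.Techniques.FocalOdd.Grow

/-!
# The normaliser of a datum centralises the involution
-/

set_option autoImplicit false
set_option linter.all false
set_option maxHeartbeats 1000000

namespace CfsgLib.Techniques.FocalOdd

open Subgroup Matrix CfsgLib.LocalEven CfsgLib.LocalEven.OffSL2
open scoped MatrixGroups

variable {P V : Type*} [Group P] [AddCommGroup V] [Finite P] [Finite V] {p : ℕ} [hp : Fact p.Prime]
  {act : P →* AddMonoid.End V} {T : Sylow p P} {M : Subgroup P} {F : Type} [Field F] {r : Root act F}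
  {D : Subgroup P}

local notation:max X:max "^ᶜ" g:max => Subgroup.map (MulEquiv.toMonoidHom (MulAut.conj g)) X

omit [Finite P] [Finite V] in
theorem conj_eq_of_comm {g : P} (hg : ∀ d ∈ D, d * g = g * d) : D^ᶜg = D := by
  ext y
  rw [mem_conj]
  constructor
  · intro hy
    have h1 := hg _ hy
    rw [show g * (g⁻¹ * y * g) = y * g by group, mul_left_inj] at h1
    exact h1 ▸ hy
  · intro hy
    rwa [mul_assoc, hg y hy, inv_mul_cancel_left]

theorem weyl_a_conj (r : Root act F) (b : F) :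
    r.emb (CfsgLib.LocalEvenB.weyl 1 one_ne_zero) * r.a b * (r.emb (CfsgLib.LocalEvenB.weyl 1 one_ne_zero))⁻¹
      = r.low (-b) := by
  rw [Root.a, Root.low, ← map_mul, ← CfsgLib.LocalEvenB.weyl_conj_up (1 : F) one_ne_zero, map_mul,
    mul_inv_cancel_right, inv_one, mul_one, mul_one]

/-- The rigidity of a datum. -/
theorem rigid [Finite F] (hs : Setting act T M) (h : Datum act p M r D) {x : P}
    (hu : ∀ u, act x (r.u0 u) = r.u0 u) (hp1 : ∀ v, r.p1 (act x v) = r.p1 v)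
    (hfix : ∀ v, r.p1 v = 0 → ∃ u, act x v - v = r.u0 u) (hD : ∀ d ∈ D, d * x = x * d)
    (htx : x * (r.t * x * r.t) = 1) : x = 1 := by
  classical
  haveI := r.charP hs.hpV
  have h2 : (2 : F) ≠ 0 := r.two_ne hs.odd hs.hpV
  set σ : F → F := fun y => r.p0 (act x (r.l0 y)) with hσ
  set φ : V →+ F := r.p0.comp (act x : V →+ V) with hφ
  set ψ : F →+ V := r.kp.comp ((act x : V →+ V).comp r.l0) with hψ
  have hπψ : ∀ y, r.π (ψ y) = 0 := fun y => r.π_kp _
  have hk : ∀ v, act x (r.kp v) = r.kp v + r.u0 (φ (r.kp v)) := by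
    intro v
    obtain ⟨u, hu'⟩ := hfix (r.kp v) (r.p1_kp v)
    have h1 : φ (r.kp v) = u := by
      show r.p0 (act x (r.kp v)) = u
      rw [sub_eq_iff_eq_add.1 hu', map_add, r.p0_u0, r.p0_kp, add_zero]
    rw [h1, sub_eq_iff_eq_add.1 hu', add_comm]
  have hxv : ∀ v, act x v = v + r.u0 (σ (r.p1 v) + φ (r.kp v)) + ψ (r.p1 v) := by
    intro v
    conv_lhs => rw [← r.decomp v, map_add, map_add, hu, hk,
      ← r.decomp (act x (r.l0 (r.p1 v))), hp1, r.p1_l0]
    conv_rhs => enter [1, 1]; rw [← r.decomp v]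
    show r.u0 (r.p0 v) + (r.u0 (σ (r.p1 v)) + r.l0 (r.p1 v) + ψ (r.p1 v)) + _ = _
    rw [map_add]
    abel
  have hσadd : ∀ a b, σ (a + b) = σ a + σ b := fun a b => by simp only [hσ, map_add]
  have hσneg : ∀ a, σ (-a) = -σ a := fun a => by simp only [hσ, map_neg]
  have h2σ : ∀ y, σ y + σ y = φ (ψ y) := by
    intro y
    have h1 := congrArg (fun g => r.p0 (act g (r.l0 y))) htx
    have ht : ∀ v, act r.t v = r.kp v - r.u0 (r.p0 v) - r.l0 (r.p1 v) := r.act_t
    simp only [act_one, r.p0_l0, act_mul] at h1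
    rw [ht (r.l0 y), r.kp_l0, r.p0_l0, r.p1_l0, map_zero, zero_sub, neg_zero, zero_sub] at h1
    rw [hxv (-r.l0 y)] at h1
    simp only [map_neg, r.p1_l0, r.kp_l0, hσneg, map_zero, neg_zero, add_zero] at h1
    rw [ht] at h1
    simp only [map_add, map_neg, map_sub, r.p0_u0, r.p0_l0, r.p1_u0, r.p1_l0, r.kp_u0, r.kp_l0,
      r.kp_eq_self (hπψ y), ((r.π_zero_iff _).1 (hπψ y)).1, ((r.π_zero_iff _).1 (hπψ y)).2, neg_zero,
      add_zero, zero_add, map_zero, sub_neg_eq_add, sub_zero] at h1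
    rw [hxv] at h1
    simp only [map_add, map_neg, r.p0_u0, r.p0_l0, r.p1_u0, r.p1_l0, r.kp_u0, r.kp_l0,
      r.kp_eq_self (hπψ y), ((r.π_zero_iff _).1 (hπψ y)).1, ((r.π_zero_iff _).1 (hπψ y)).2, neg_zero,
      add_zero, zero_add, map_zero] at h1
    rw [hu, r.p0_u0, show r.p0 (act x (r.l0 y)) = σ y from rfl] at h1
    have h0 := hσadd 0 0
    rw [add_zero] at h0
    linear_combination h1 - h0
  have hlin : ∀ μ : F, μ ≠ 0 → ∃ ν, ∀ y, φ (ψ (μ * y)) - μ * φ (ψ y) = ν * y := by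
    intro μ hμ
    set τ := r.emb (CfsgLib.LocalEvenB.diagH μ hμ) with hτ
    set τ' := r.emb (CfsgLib.LocalEvenB.diagH μ⁻¹ (inv_ne_zero hμ)) with hτ'
    set xm := τ * x * τ' with hxm
    have hm : ∀ v, act xm v = v + r.u0 (μ * σ (μ * r.p1 v) + μ * φ (r.kp v)) + ψ (μ * r.p1 v) := by
      intro v
      rw [hxm, act_mul, act_mul, hτ', r.act_diag (inv_ne_zero hμ) v, inv_inv, hxv, hτ, r.act_diag]
      simp only [map_add, r.p0_u0, r.p0_l0, r.p0_kp, r.p1_u0, r.p1_l0, r.p1_kp, r.kp_u0, r.kp_l0,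
        r.kp_kp, r.kp_eq_self (hπψ _), ((r.π_zero_iff _).1 (hπψ _)).1, ((r.π_zero_iff _).1 (hπψ _)).2,
        map_zero, add_zero, zero_add]
      conv_rhs => enter [1, 1]; rw [← r.decomp v]
      rw [mul_add μ, mul_add μ, ← mul_assoc μ μ⁻¹, mul_inv_cancel₀ hμ, one_mul, ← mul_assoc μ⁻¹ μ,
        inv_mul_cancel₀ hμ, one_mul]
      simp only [map_add]
      abel
    have hm1 : ∀ v, r.p1 (act xm v) = r.p1 v := fun v => by
      rw [hm, map_add, map_add, r.p1_u0, ((r.π_zero_iff _).1 (hπψ _)).2, add_zero, add_zero]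
    have hc : ∀ u, act (x * xm) u = act (xm * x) u + r.u0 (φ (ψ (μ * r.p1 u)) - μ * φ (ψ (r.p1 u))) := by
      intro u
      rw [act_mul act x xm, act_mul act xm x, hxv (act xm u), hm (act x u), hm1, hp1, hm u, hxv u]
      simp only [map_add, r.kp_u0, r.kp_eq_self (hπψ _), r.kp_kp, add_zero, mul_add, map_sub]
      abel
    obtain ⟨ν, hν⟩ := Root.mem_A.1 (shear_mem hs h.mem (x := x * xm * (xm * x)⁻¹)
      (fun y => φ (ψ (μ * y)) - μ * φ (ψ y)) fun v => by
        rw [act_mul _ (x * xm), hc, act_inv']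
        have : r.p1 (act (xm * x)⁻¹ v) = r.p1 v := by
          conv_rhs => rw [← act_inv' act (xm * x) v, act_mul, hm1, hp1]
        rw [this])
    refine ⟨ν, fun y => r.u0_injective ?_⟩
    have h1 := congrArg (fun g => act g (act (xm * x) (r.l0 y))) hν
    rw [← Root.a, r.act_a, act_mul _ (x * xm), hc, act_inv] at h1
    rw [show r.p1 (act (xm * x) (r.l0 y)) = y by rw [act_mul, hm1, hp1, r.p1_l0], r.p1_l0,
      add_right_inj] at h1
    exact h1.symm
  set c' := φ (ψ 1) / 2 with hc'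
  have hψc : ∀ y, φ (ψ y) = φ (ψ 1) * y :=
    linear_of_comm (p := p) (τ := fun y => φ (ψ y)) hlin (by simp)
  have hσc : ∀ y, σ y = c' * y := fun y => by
    have := h2σ y
    rw [hψc] at this
    rw [hc']
    field_simp
    linear_combination this
  have hxl : ∀ y, act x (r.l0 y) = act (r.a c') (r.l0 y) + ψ y := fun y => by
    rw [hxv, r.act_a, r.p1_l0, r.kp_l0, map_zero, add_zero, hσc]
  set w := r.emb (CfsgLib.LocalEvenB.weyl 1 one_ne_zero) with hw
  -- the chain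
  set C1 : AddSubgroup V := ((act x : V →+ V).comp r.l0).range with hC1
  set C2 : AddSubgroup V := C1 ⊔ ((act (r.a c') : V →+ V).comp r.l0).range with hC2
  have hdiff : ∀ (g : P) b v, act (g * r.low b * g⁻¹) v - v = act g (r.l0 (b * r.p0 (act g⁻¹ v))) := by
    intro g b v
    rw [act_mul, act_mul, r.act_low, map_add, act_inv', add_sub_cancel_left]
  have hxp : ∀ y, r.p0 (act (r.a c')⁻¹ (act x (r.l0 y))) = 0 := fun y => by
    rw [hxl, map_add, act_inv, map_add, r.p0_l0, zero_add, Root.a, ← map_inv, r.emb_kp _ (hπψ y)]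
    exact ((r.π_zero_iff _).1 (hπψ y)).1
  set S : Set P := {z | ∃ b, z = r.a c' * r.low b * (r.a c')⁻¹ ∨ z = x * r.low b * x⁻¹} with hS
  have hSp : IsPGroup p (Subgroup.closure S) := by
    refine chain_isPGroup hs.inj hs.odd hs.hpV (C1 := C1) (C2 := C2) le_sup_left S ?_
    rintro _ ⟨b, rfl | rfl⟩
    · have h0 : ∀ v ∈ C2, act (r.a c' * r.low b * (r.a c')⁻¹) v = v := by
        intro v hv
        obtain ⟨_, ⟨y, rfl⟩, _, ⟨y', rfl⟩, rfl⟩ := AddSubgroup.mem_sup.1 hv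
        rw [← sub_eq_zero, hdiff]
        show act (r.a c') (r.l0 (b * r.p0 (act (r.a c')⁻¹ (act x (r.l0 y) + act (r.a c') (r.l0 y'))))) = 0
        rw [map_add, map_add r.p0, act_inv, hxp, r.p0_l0, add_zero, mul_zero, map_zero, map_zero]
      exact ⟨fun v hv => h0 v (AddSubgroup.mem_sup_left hv),
        fun v hv => by rw [h0 v hv, sub_self]; exact zero_mem _,
        fun v => by rw [hdiff]; exact AddSubgroup.mem_sup_right ⟨_, rfl⟩⟩
    · refine ⟨?_, fun v _ => by rw [hdiff]; exact ⟨_, rfl⟩,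
        fun v => by rw [hdiff]; exact AddSubgroup.mem_sup_left ⟨_, rfl⟩⟩
      rintro _ ⟨y, rfl⟩
      rw [← sub_eq_zero, hdiff]
      show act x (r.l0 (b * r.p0 (act x⁻¹ (act x (r.l0 y))))) = 0
      rw [act_inv, r.p0_l0, mul_zero, map_zero, map_zero]
  have hDS : ∀ d ∈ D, ∀ z ∈ S, d * z = z * d := by
    rintro d hd _ ⟨b, rfl | rfl⟩
    · rw [Root.a, Root.low, ← map_inv, ← map_mul, ← map_mul]
      exact h.cen d hd _
    · have e1 : d * x⁻¹ = x⁻¹ * d := by
        calc d * x⁻¹ = x⁻¹ * (x * d) * x⁻¹ := by group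
          _ = x⁻¹ * (d * x) * x⁻¹ := by rw [hD d hd]
          _ = x⁻¹ * d := by group
      calc d * (x * r.low b * x⁻¹) = (d * x) * r.low b * x⁻¹ := by group
        _ = x * (d * r.low b) * x⁻¹ := by rw [hD d hd]; group
        _ = x * (r.low b * d) * x⁻¹ := by rw [show d * r.low b = r.low b * d from h.cen d hd _]
        _ = x * r.low b * (d * x⁻¹) := by group
        _ = x * r.low b * x⁻¹ * d := by rw [e1]; group
  set g := r.a c' * w with hg
  have hg1 : D^ᶜg = D := conj_eq_of_comm fun d hd => by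
    rw [hg, Root.a, hw, ← map_mul]; exact h.cen d hd _
  have hd1 : Datum act p M (r.conj g) (D^ᶜg) := h.conj g
  have hA1 : ∀ z ∈ r.A^ᶜg, z ∈ Subgroup.closure S := by
    rintro _ ⟨a, ha, rfl⟩
    obtain ⟨b, rfl⟩ := Root.mem_A.1 ha
    refine subset_closure ⟨-b, Or.inl ?_⟩
    show g * r.a b * g⁻¹ = _
    rw [hg, ← weyl_a_conj, hw, _root_.mul_inv_rev]
    group
  have hB1 : ∀ z ∈ r.A^ᶜ(x * w), z ∈ Subgroup.closure S := by
    rintro _ ⟨a, ha, rfl⟩
    obtain ⟨b, rfl⟩ := Root.mem_A.1 ha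
    refine subset_closure ⟨-b, Or.inr ?_⟩
    show x * w * r.a b * (x * w)⁻¹ = _
    rw [← weyl_a_conj, hw, _root_.mul_inv_rev]
    group
  have hDc : D ≤ normalizer ((Subgroup.closure S : Subgroup P) : Set P) := by
    intro d hd
    rw [mem_normalizer_conj_iff, MonoidHom.map_closure]
    congr 1
    have key : ∀ z ∈ S, d * z * d⁻¹ = z := fun z hz => by rw [hDS d hd z hz, mul_inv_cancel_right]
    ext y
    constructor
    · rintro ⟨z, hz, rfl⟩
      show d * z * d⁻¹ ∈ S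
      rw [key z hz]; exact hz
    · intro hy
      exact ⟨y, hy, key y hy⟩
  set R := D ⊔ Subgroup.closure S with hR
  have hRp : IsPGroup p R := (h.pg.to_le le_sup_right).to_sup_of_normal_right' hSp hDc
  have hB : r.A^ᶜ(x * w) ≤ (r.conj g).A ⊔ D^ᶜg := (growth hs hd1 hRp (by
    rw [r.conj_A, hg1]
    exact sup_le (fun z hz => mem_sup_right (hA1 z hz)) le_sup_left)).2 _ (h.mem.conj _)
    (fun z hz => mem_sup_right (hB1 z hz))
  have hBA : r.A^ᶜ(x * w) = r.A^ᶜg := by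
    refine r.conj_A g ▸ ((hd1.members hs (h.mem.conj _) hB).resolve_right fun hle => ?_)
    rw [hg1] at hle
    have h1 : x * r.low (-1) * x⁻¹ ∈ D := hle ⟨r.a 1, r.a_mem 1, by
      show x * w * r.a 1 * (x * w)⁻¹ = _
      rw [← weyl_a_conj, hw, _root_.mul_inv_rev]; group⟩
    have h2' : r.low (-1) ∈ D := by
      have e1 := hD _ h1
      rw [inv_mul_cancel_right] at e1
      have h3 : x * r.low (-1) * x⁻¹ = r.low (-1) := (mul_left_cancel e1).symm
      exact h3 ▸ h1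
    refine one_ne_zero (α := F) (a_eq_zero_of_comm r ?_)
    have h4 : r.low 1 ∈ D := by
      have : r.low 1 = (r.low (-1))⁻¹ := eq_inv_of_mul_eq_one_left (by
        rw [Root.low, Root.low, ← map_mul, ← CfsgLib.LocalEvenB.loU_add, add_neg_cancel,
          show CfsgLib.LocalEvenB.loU (0 : F) = 1 from Subtype.ext (by
            show (!![1, 0; (0 : F), 1] : Matrix (Fin 2) (Fin 2) F) = 1
            exact Matrix.one_fin_two.symm), map_one])
      rw [this]; exact inv_mem h2'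
    exact (h.cen _ h4 _).symm
  obtain ⟨b, hb⟩ : ∃ b, x * r.low 1 * x⁻¹ = r.a c' * r.low b * (r.a c')⁻¹ := by
    obtain ⟨a, ha, e⟩ := hBA.le (⟨r.a (-1), r.a_mem _, rfl⟩ :
      x * w * r.a (-1) * (x * w)⁻¹ ∈ r.A^ᶜ(x * w))
    obtain ⟨b, rfl⟩ := Root.mem_A.1 ha
    refine ⟨-b, ?_⟩
    change g * r.a b * g⁻¹ = _ at e
    have e1 : r.low 1 = w * r.a (-1) * w⁻¹ := by rw [hw, weyl_a_conj, neg_neg]
    have e2 : r.low (-b) = w * r.a b * w⁻¹ := (weyl_a_conj r b).symm
    rw [e1, e2, show x * (w * r.a (-1) * w⁻¹) * x⁻¹ = x * w * r.a (-1) * (x * w)⁻¹ by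
      rw [_root_.mul_inv_rev]; group, ← e, hg, _root_.mul_inv_rev]
    group
  have hxb : ∀ v, act x (r.l0 (1 * r.p0 (act x⁻¹ v))) = act (r.a c') (r.l0 (b * r.p0 (act (r.a c')⁻¹ v))) :=
    fun v => by rw [← hdiff, ← hdiff, hb]
  have hψ0 : ∀ y, ψ y = 0 := by
    intro y
    have h1 := congrArg r.kp (hxb (r.u0 y))
    rw [show act x⁻¹ (r.u0 y) = r.u0 y by conv_lhs => rw [← hu y, act_inv], r.p0_u0, one_mul,
      Root.a, r.kp_emb, r.kp_l0] at h1
    exact h1
  have hc0 : c' = 0 := by rw [hc', hψ0, map_zero, zero_div]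
  have hφ0 : ∀ v, φ (r.kp v) = 0 := by
    intro v
    have h1 := congrArg r.p1 (hxb (r.kp v))
    have e1 : act x⁻¹ (r.kp v) = r.kp v - r.u0 (φ (r.kp v)) := act_injective act x (by
      rw [act_inv', map_sub, hu, hk]; abel)
    rw [e1, map_sub, r.p0_kp, r.p0_u0, zero_sub, one_mul, hp1, r.p1_l0, hc0, r.a_zero, act_one,
      inv_one, act_one, r.p0_kp, mul_zero, map_zero, map_zero, neg_eq_zero] at h1
    exact h1
  refine hs.inj (AddMonoidHom.ext fun v => ?_)
  show act x v = act 1 v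
  rw [hxv, hσc, hc0, zero_mul, hφ0, hψ0, add_zero, add_zero, map_zero, add_zero, act_one]

/-- The normaliser of the root group and of `D` centralises the involution. -/
theorem comm_t_of_normalizer [Finite F] (hs : Setting act T M) (h : Datum act p M r D) {x : P}
    (hx : r.A^ᶜx = r.A) (hxD : D^ᶜx = D) : x * r.t = r.t * x := by
  obtain ⟨β, γ, θ, hu, hv, hθ, hrel, hγ1⟩ := norm_rel hs hx
  have hβi : Function.Injective β := fun a b e => r.u0_injective (act_injective act x (by rw [hu, hu, e]))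
  have hγi : ∀ y, γ y = 0 → y = 0 := fun y hy => hβi (by
    rw [← one_mul y, hrel, hy, mul_zero, map_zero])
  have hxi : ∀ u, ∃ u', act x⁻¹ (r.u0 u) = r.u0 u' := fun u => by
    obtain ⟨u', hu'⟩ := (Finite.injective_iff_surjective.1 hβi) u
    exact ⟨u', by rw [← hu', ← hu, act_inv]⟩
  have htu : ∀ u, act r.t (r.u0 u) = -r.u0 u := fun u => by
    rw [r.act_t, r.kp_u0, r.p0_u0, r.p1_u0, map_zero, sub_zero, zero_sub]
  have ht1 : ∀ v, r.p1 (act r.t v) = -r.p1 v := fun v => by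
    rw [r.act_t, map_sub, map_sub, r.p1_kp, r.p1_u0, r.p1_l0]; ring
  have key := rigid hs h (x := x⁻¹ * r.t * x * r.t) (fun u => ?_) (fun v => ?_) (fun v hv0 => ?_) ?_ ?_
  · calc x * r.t = x * r.t * 1 := (mul_one _).symm
      _ = x * r.t * (x⁻¹ * r.t * x * r.t)⁻¹ := by rw [key, inv_one]
      _ = x * (r.t * r.t⁻¹) * x⁻¹ * r.t⁻¹ * x := by group
      _ = r.t⁻¹ * x := by rw [mul_inv_cancel, mul_one, mul_inv_cancel, one_mul]
      _ = r.t * x := by rw [inv_eq_of_mul_eq_one_right r.t_mul_t]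
  · rw [act_mul, act_mul, act_mul, htu, map_neg, hu, map_neg, htu, neg_neg, ← hu, act_inv]
  · rw [act_mul, act_mul, act_mul]
    have h1 : ∀ z, γ (r.p1 (act x⁻¹ z)) = r.p1 z := fun z => by rw [← hv, act_inv']
    refine sub_eq_zero.1 (hγi _ ?_)
    rw [map_sub γ, h1, ht1, hv, ht1, map_neg, neg_neg, sub_self]
  · rw [act_mul, act_mul, act_mul]
    have htd : ∀ z, r.p1 z = 0 → act r.t z = z + r.u0 (-(r.p0 z + r.p0 z)) := fun z hz => by
      rw [map_neg r.u0, map_add r.u0]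
      conv_rhs => enter [1]; rw [← r.decomp z, hz, map_zero, add_zero]
      rw [r.act_t, hz, map_zero, sub_zero]
      abel
    have e1 : act r.t v = v + r.u0 (-(r.p0 v + r.p0 v)) := htd v hv0
    have hp : r.p1 (act x (act r.t v)) = 0 := by rw [hv, ht1, hv0, neg_zero, map_zero]
    rw [htd _ hp, map_add, act_inv, e1]
    obtain ⟨u', hu'⟩ := hxi (-(r.p0 (act x (v + r.u0 (-(r.p0 v + r.p0 v)))) +
      r.p0 (act x (v + r.u0 (-(r.p0 v + r.p0 v))))))
    rw [hu']
    exact ⟨-(r.p0 v + r.p0 v) + u', by rw [map_add r.u0]; abel⟩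
  · intro d hd
    have hd' : x * d * x⁻¹ ∈ D := hxD.le (conj_mem_conj (g := x) hd)
    have e1 : x * d * x⁻¹ * r.t = r.t * (x * d * x⁻¹) := h.cen _ hd' _
    have e2 : d * r.t = r.t * d := h.cen d hd _
    calc d * (x⁻¹ * r.t * x * r.t) = x⁻¹ * (x * d * x⁻¹ * r.t) * x * r.t := by group
      _ = x⁻¹ * (r.t * (x * d * x⁻¹)) * x * r.t := by rw [e1]
      _ = x⁻¹ * r.t * x * (d * r.t) := by group
      _ = _ := by rw [e2]; group
  · have ti : r.t⁻¹ = r.t := inv_eq_of_mul_eq_one_right r.t_mul_t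
    calc x⁻¹ * r.t * x * r.t * (r.t * (x⁻¹ * r.t * x * r.t) * r.t)
        = x⁻¹ * r.t * x * (r.t * r.t) * x⁻¹ * r.t * x * (r.t * r.t) := by group
      _ = x⁻¹ * r.t * x * 1 * x⁻¹ * r.t * x * 1 := by rw [r.t_mul_t]
      _ = x⁻¹ * (r.t * r.t) * x := by group
      _ = 1 := by rw [r.t_mul_t]; group

end CfsgLib.Techniques.FocalOdd
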