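import Cfsg.Agent.Lib.Techniques.FocalOdd.Pair
import Cfsg.Agent.Lib.Techniques.FocalOdd.LLemmaD
import Cfsg.Agent.Lib.Transfer.PResidual
import Cfsg.Agent.Lib.LocalEven.PClosed

/-!
# An offender of least order gives a natural `SL₂` subgroup
-/

set_option autoImplicit false
set_option linter.all false
set_option maxHeartbeats 1600000

namespace CfsgLib.Techniques.FocalOdd

open Subgroup Matrix CfsgLib.LocalEven.OffSL2
open scoped MatrixGroups

variable {P V : Type*} [Group P] [AddCommGroup V]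

/-- An element of order prime to `p` which is trivial on `U'/U` and on `U` is trivial on `U'`. -/
theorem trivial_of_layers [Finite P] {p : ℕ} (hpV : ∀ v : V, p • v = 0) {act : P →* AddMonoid.End V}
    {x : P} (hx : (orderOf x).Coprime p) {U : AddSubgroup V} (hU : ∀ u ∈ U, act x u = u) {v : V}
    (hv : act x v - v ∈ U) : act x v = v := by
  have hstep : ∀ i : ℕ, act (x ^ i) v = v + i • (act x v - v) := by
    intro i
    induction i with
    | zero => rw [pow_zero, act_one, zero_smul, add_zero]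
    | succ i ih =>
      rw [pow_succ', act_mul, ih, map_add, map_nsmul, hU _ hv, succ_nsmul]
      abel
  have h1 := hstep (orderOf x)
  rw [pow_orderOf_eq_one, act_one, left_eq_add] at h1
  have h2 : addOrderOf (act x v - v) = 1 := Nat.eq_one_of_dvd_coprimes hx
    (addOrderOf_dvd_iff_nsmul_eq_zero.2 h1) (addOrderOf_dvd_iff_nsmul_eq_zero.2 (hpV _))
  exact sub_eq_zero.1 (AddMonoid.addOrderOf_eq_one_iff.1 h2)

/-- The map `b ↦ (1 b; 0 1)`. -/
def upHom (F : Type*) [Field F] : Multiplicative F →* SL(2, F) where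
  toFun b := CfsgLib.LocalEvenB.upU (Multiplicative.toAdd b)
  map_one' := CfsgLib.LocalEvenB.upU_zero
  map_mul' b c := CfsgLib.LocalEvenB.upU_add _ _

/-- A subgroup `SL₂(F)` natural on a summand and trivial on a complement. -/
structure Root (act : P →* AddMonoid.End V) (F : Type) [Field F] where
  emb : SL(2, F) →* P
  ι : (Fin 2 → F) →+ V
  π : V →+ (Fin 2 → F)
  πι : ∀ x, π (ι x) = x
  act_emb : ∀ (g : SL(2, F)) v, act (emb g) v = v - ι (π v) + ι ((g : Matrix (Fin 2) (Fin 2) F) *ᵥ π v)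

/-- The root group. -/
def Root.A {act : P →* AddMonoid.End V} {F : Type} [Field F] (r : Root act F) : Subgroup P :=
  (r.emb.comp (upHom F)).range

theorem Root.mem_A {act : P →* AddMonoid.End V} {F : Type} [Field F] {r : Root act F} {a : P} :
    a ∈ r.A ↔ ∃ b : F, r.emb (CfsgLib.LocalEvenB.upU b) = a :=
  ⟨fun ⟨b, hb⟩ => ⟨Multiplicative.toAdd b, hb⟩, fun ⟨b, hb⟩ => ⟨Multiplicative.ofAdd b, hb⟩⟩

variable [Finite P] [Finite V] {p : ℕ} [hp : Fact p.Prime] {act : P →* AddMonoid.End V}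
  {T : Sylow p P} {M : Subgroup P}

omit [Finite P] in
/-- A `p`-group fixes a nonzero vector. -/
theorem exists_fixed [Nontrivial V] (hpV : ∀ v : V, p • v = 0) {R : Subgroup P} (hR : IsPGroup p R) :
    ∃ z, z ∈ fix act R ∧ z ≠ 0 := by
  letI : MulAction R V :=
    { smul := fun a v => act (a : P) v
      one_smul := fun v => act_one act v
      mul_smul := fun a b v => act_mul act (a : P) b v }
  have hdvd : p ∣ Nat.card V := by
    obtain ⟨u, hu⟩ := exists_ne (0 : V)
    exact (addOrderOf_eq_prime (hpV u) hu) ▸ addOrderOf_dvd_natCard u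
  obtain ⟨z, hz, hz0⟩ := hR.exists_fixed_point_of_prime_dvd_card_of_fixed_point (α := V) hdvd
    (a := 0) (fun c => map_zero _)
  exact ⟨z, fun a ha => hz ⟨a, ha⟩, hz0.symm⟩

omit [Finite P] in
theorem Setting.nontrivialV (hs : Setting act T M) : Nontrivial V := by
  by_contra hc
  rw [not_nontrivial_iff_subsingleton] at hc
  obtain ⟨g, hg⟩ := hs.nontrivial
  exact hg (hs.inj (AddMonoidHom.ext fun v => Subsingleton.elim _ _))

/-- An offender of least order lies in an `SL₂` with a pinned group. -/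
theorem exists_root (hs : Setting act T M) {A : Subgroup P} (hA : IsMember act p A)
    (hAT : A ≤ (T : Subgroup P)) :
    ∃ (F : Type) (_ : Field F) (_ : Fintype F) (r : Root act F) (D : Subgroup P) (k : P),
      r.A = A ∧ (∀ B : Subgroup P, (∀ Y, IsMember act p Y → Y ≤ D → Y ≤ B) → D ≤ B) ∧
      (∀ d ∈ D, ∀ g, d * r.emb g = r.emb g * d) ∧
      r.A ⊔ D ≤ M.map (MulAut.conj k).toMonoidHom ∧
      ¬ r.emb.range ≤ M.map (MulAut.conj k).toMonoidHom ∧
      IsPGroup p ↥(r.A ⊔ D) ∧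
      ∀ c, r.A ⊔ D ≤ M.map (MulAut.conj c).toMonoidHom →
        M.map (MulAut.conj c).toMonoidHom = M.map (MulAut.conj k).toMonoidHom := by
  classical
  haveI := hs.nontrivialV
  obtain ⟨L, hAL', k, hAR, hLM, hprop, hgenL, D, hDR, hDgen, hpin⟩ :=
    lLemmaD T hs.minimal M hs.hM A hAT (fun hle => hA.ne (le_bot_iff.1 (hle.trans hs.core.le)))
  have hAL : A ≤ L := le_sup_left.trans hAL'
  set R := Cfsg.pCoreOf p L with hR
  set M' := M.map (MulAut.conj k).toMonoidHom with hM'
  have hRL : R ≤ L := CfsgLib.LocalEvenB.pCoreOf_le L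
  have hRn : L ≤ normalizer (R : Set P) := CfsgLib.LocalEvenB.le_normalizer_pCoreOf L
  have hRp : IsPGroup p R := CfsgLib.LocalEvenB.isPGroup_pCoreOf L
  have hARp : IsPGroup p ↥(A ⊔ R) := hA.isPGroup.to_sup_of_normal_right' hRp (hAL.trans hRn)
  have hARL : A ⊔ R ≤ L := sup_le hAL hRL
  obtain ⟨k', hk', hkM⟩ := CfsgLib.LocalEven.exists_sylow_conj_in hs.hM.2 hARp hAR
  obtain ⟨S, hS⟩ := (hARp.comap_of_injective L.subtype L.subtype_injective :
    IsPGroup p ((A ⊔ R).subgroupOf L)).exists_le_sylow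
  set TL := (S : Subgroup L).map L.subtype with hTL
  have hARTL : A ⊔ R ≤ TL := fun x hx => ⟨⟨x, hARL hx⟩, hS (mem_subgroupOf.2 hx), rfl⟩
  have hTLM : TL ≤ M' := by
    refine hprop TL hARTL (lt_of_le_of_ne (map_subtype_le _) fun e => hLM ?_)
    have hLp : IsPGroup p L := by rw [← e]; exact S.2.map _
    exact (CfsgLib.LocalEvenB.le_pCoreOf le_rfl hLp le_normalizer).trans (le_sup_right.trans hAR)
  -- proper subgroups over the pinned group
  have hsub : ∀ X : Subgroup L, (A ⊔ R).subgroupOf L ≤ X → X ≠ ⊤ → X.map L.subtype ≤ M' := by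
    intro X hX hne
    refine hprop _ (fun x hx => ⟨⟨x, hARL hx⟩, hX (mem_subgroupOf.2 hx), rfl⟩)
      (lt_of_le_of_ne (map_subtype_le _) fun e => hne ?_)
    exact eq_top_iff.2 fun x _ => by
      obtain ⟨y, hy, hyx⟩ := e.ge x.2
      exact (Subtype.ext hyx : y = x) ▸ hy
  have hFrat : ∀ N : Subgroup L, N.Normal → N.map L.subtype ≤ M' →
      ∀ x ∈ (S : Subgroup L) ⊓ N, (x : P) ∈ R := by
    intro N hN hNM x hx
    obtain ⟨Tk, hTk⟩ := CfsgLib.LocalEven.exists_sylow_inf S N
    have hfr := Sylow.normalizer_sup_eq_top Tk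
    rw [hTk] at hfr
    have hSn : (S : Subgroup L) ≤ normalizer (((S : Subgroup L) ⊓ N : Subgroup L) : Set L) :=
      (le_inf le_normalizer le_normalizer_of_normal).trans inf_normalizer_le_normalizer_inf
    have htop : normalizer (((S : Subgroup L) ⊓ N : Subgroup L) : Set L) = ⊤ := by
      by_contra hne
      refine hLM fun y hy => ?_
      have : (⊤ : Subgroup L) ≤ M'.subgroupOf L := hfr.ge.trans (sup_le
        (fun z hz => hsub _ (hS.trans hSn) hne ⟨z, hz, rfl⟩) (fun z hz => hNM ⟨z, hz, rfl⟩))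
      exact this (mem_top ⟨y, hy⟩)
    haveI : ((S : Subgroup L) ⊓ N).Normal := normalizer_eq_top_iff.1 htop
    exact ⟨x, CfsgLib.Core.le_pCore (S.2.to_le inf_le_left) hx, rfl⟩
  -- the elements of order prime to `p`
  have hfixRinv : ∀ l ∈ L, ∀ u ∈ fix act R, act l u ∈ fix act R := by
    intro l hl u hu a ha
    have h1 : l⁻¹ * a * l ∈ R := by simpa using (mem_normalizer_iff''.1 (hRn hl) a).1 ha
    rw [← act_mul, show a * l = l * (l⁻¹ * a * l) by group, act_mul, hu _ h1]
  set L0 : Subgroup L := Cfsg.pResidual p L with hL0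
  haveI : L0.Normal := CfsgLib.Transfer.pResidual_normal
  have hL0top : L0 ⊔ (S : Subgroup L) = ⊤ := CfsgLib.Transfer.pResidual_sup_sylow S
  have hL0M : ¬ L0.map L.subtype ≤ M' := fun h => hLM fun y hy => by
    have : (⊤ : Subgroup L) ≤ M'.subgroupOf L := hL0top.ge.trans (sup_le
      (fun z hz => h ⟨z, hz, rfl⟩) (fun z hz => hTLM ⟨z, hz, rfl⟩))
    exact this (mem_top ⟨y, hy⟩)
  set Z := fix act (L0.map L.subtype) with hZ
  have hZinv : ∀ l ∈ L, ∀ u ∈ Z, act l u ∈ Z := by
    rintro l hl u hu _ ⟨a, ha, rfl⟩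
    have h1 : (l⁻¹ * (a : P) * l) ∈ L0.map L.subtype :=
      ⟨(⟨l, hl⟩ : L)⁻¹ * a * ⟨l, hl⟩, (inferInstance : L0.Normal).conj_mem' a ha ⟨l, hl⟩, rfl⟩
    show act (a : P) (act l u) = act l u
    rw [← act_mul, show (a : P) * l = l * (l⁻¹ * (a : P) * l) by group, act_mul, hu _ h1]
  obtain ⟨U, ⟨hUinv, hUR, hUZ⟩, hUmin⟩ := Set.Finite.exists_minimal
    (Set.toFinite {U : AddSubgroup V | (∀ l ∈ L, ∀ u ∈ U, act l u ∈ U) ∧ U ≤ fix act R ∧ ¬ U ≤ Z})
    ⟨fix act R, hfixRinv, le_rfl, fun hle => by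
      obtain ⟨z, hz, hz0⟩ := exists_fixed (act := act) hs.hpV (T.2.map (MulAut.conj k').toMonoidHom)
      refine hL0M fun y hy => ?_
      rw [hM', ← hkM]
      exact hs.stabV_le hz0 hz
        (hle (fix_anti (act := act) (le_sup_right.trans hk') hz) y hy)⟩
  set ZU := (U ⊓ Z).addSubgroupOf U with hZU
  -- the action on the irreducible factor
  let gU : L → (U →+ U) := fun l => AddMonoidHom.mk'
    (fun u : U => (⟨act (l : P) (u : V), hUinv l l.2 u u.2⟩ : U))
    (fun u w => Subtype.ext (map_add (act (l : P)) (u : V) (w : V)))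
  let gB : L → (U ⧸ ZU →+ U ⧸ ZU) := fun l => QuotientAddGroup.map ZU ZU (gU l) fun u hu => by
    show act (l : P) (u : V) ∈ U ⊓ Z
    exact ⟨hUinv l l.2 u u.2, hZinv l l.2 u hu.2⟩
  have hgB : ∀ (l : L) (u : U), gB l (QuotientAddGroup.mk u) = QuotientAddGroup.mk (gU l u) :=
    fun _ _ => rfl
  let fB : L → AddMonoid.End (U ⧸ ZU) := gB
  let actB : L →* AddMonoid.End (U ⧸ ZU) :=
    { toFun := fB
      map_one' := AddMonoidHom.ext fun q => by
        induction q using QuotientAddGroup.induction_on with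
        | _ u => exact congrArg QuotientAddGroup.mk (Subtype.ext (act_one act (u : V)))
      map_mul' := fun l m => AddMonoidHom.ext fun q => by
        induction q using QuotientAddGroup.induction_on with
        | _ u => exact congrArg QuotientAddGroup.mk (Subtype.ext (act_mul act (l : P) m (u : V))) }
  have hBmk : ∀ (l : L) (u : U), actB l (QuotientAddGroup.mk u) =
      QuotientAddGroup.mk ⟨act (l : P) (u : V), hUinv l l.2 u u.2⟩ := fun _ _ => rfl
  have hmkeq : ∀ u w : U, (QuotientAddGroup.mk u : U ⧸ ZU) = QuotientAddGroup.mk w ↔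
      -(u : V) + w ∈ Z := fun u w => QuotientAddGroup.eq.trans
    ⟨fun h => h.2, fun h => ⟨U.add_mem (U.neg_mem u.2) w.2, h⟩⟩
  set Kr := actB.ker with hKr
  have hKrmem : ∀ l : L, l ∈ Kr ↔ ∀ u ∈ U, act (l : P) u - u ∈ Z := by
    intro l
    rw [hKr, MonoidHom.mem_ker]
    refine ⟨fun h u hu => ?_, fun h => AddMonoidHom.ext fun q => ?_⟩
    · have h1 := DFunLike.congr_fun h (QuotientAddGroup.mk ⟨u, hu⟩)
      rw [hBmk] at h1
      have h2 := neg_mem ((hmkeq _ ⟨u, hu⟩).1 h1)
      rwa [neg_add_rev, neg_neg, neg_add_eq_sub] at h2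
    · induction q using QuotientAddGroup.induction_on with
      | _ u =>
        show actB l (QuotientAddGroup.mk u) = QuotientAddGroup.mk u
        rw [hBmk]
        refine (hmkeq _ u).2 ?_
        have := neg_mem (h u u.2)
        rwa [neg_sub, sub_eq_neg_add] at this
  have hZfix : ∀ l ∈ L0, ∀ z ∈ Z, act (l : P) z = z := fun l hl z hz => hz _ ⟨l, hl, rfl⟩
  have hcop : ∀ l : L, (orderOf l).Coprime p → l ∈ L0 := fun l hl => subset_closure hl
  have hcopU : ∀ l : L, (orderOf l).Coprime p → l ∈ Kr → ∀ u ∈ U, act (l : P) u = u :=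
    fun l hl hlk u hu => trivial_of_layers hs.hpV (by rwa [orderOf_coe]) (hZfix l (hcop l hl))
      ((hKrmem l).1 hlk u hu)
  have hL0Kr : ¬ L0 ≤ Kr := fun h => hUZ fun u hu => by
    rintro _ ⟨l, hl, rfl⟩
    have : L0 ≤ (stabV act u).subgroupOf L := by
      rw [hL0, Cfsg.pResidual, closure_le]
      intro x hx
      exact hcopU x hx (h (subset_closure hx)) u hu
    exact this hl
  have hKrM : Kr.map L.subtype ≤ M' := by
    refine (map_mono le_sup_left).trans (hsub (Kr ⊔ (A ⊔ R).subgroupOf L) le_sup_right fun e => hL0Kr ?_)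
    exact CfsgLib.LocalEven.pResidual_le_of_sup_eq_top
      (hARp.comap_of_injective L.subtype L.subtype_injective) e
  have hRKr : R.subgroupOf L ≤ Kr := fun l hl => (hKrmem l).2 fun u hu => by
    rw [hUR hu _ (mem_subgroupOf.1 hl), sub_self]; exact zero_mem _
  have hKrR : ∀ x ∈ (S : Subgroup L) ⊓ Kr, (x : P) ∈ R := hFrat Kr inferInstance hKrM
  have hpKr : ∀ x : L, x ∈ Kr → (∃ n : ℕ, x ^ p ^ n = 1) → (x : P) ∈ R := by
    intro x hx ⟨n, hn⟩
    obtain ⟨Tk, hTk⟩ := CfsgLib.LocalEven.exists_sylow_inf S Kr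
    have hRsub : (Tk : Subgroup Kr).map Kr.subtype ≤ (R.subgroupOf L) := by
      rw [hTk]; exact fun y hy => mem_subgroupOf.2 (hKrR y hy)
    have hRp' : IsPGroup p ((R.subgroupOf L).subgroupOf Kr) :=
      (hRp.comap_of_injective L.subtype L.subtype_injective).comap_of_injective Kr.subtype Kr.subtype_injective
    haveI : (R.subgroupOf L).Normal := (normal_subgroupOf_iff_le_normalizer hRL).2 hRn
    have hle : (Tk : Subgroup Kr) ≤ (R.subgroupOf L).subgroupOf Kr := fun y hy =>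
      mem_subgroupOf.2 (hRsub ⟨y, hy, rfl⟩)
    have heq := Tk.3 hRp' hle
    have hzp : IsPGroup p (Subgroup.zpowers (⟨x, hx⟩ : Kr)) := by
      intro y
      obtain ⟨i, hi⟩ := y.2
      refine ⟨n, Subtype.ext ?_⟩
      have hx1 : (⟨x, hx⟩ : Kr) ^ (p ^ n) = 1 := Subtype.ext hn
      show ((y : Kr)) ^ (p ^ n) = 1
      rw [← hi]
      show ((⟨x, hx⟩ : Kr) ^ i) ^ (p ^ n) = 1
      rw [← zpow_natCast, ← _root_.zpow_mul, mul_comm, _root_.zpow_mul, zpow_natCast, hx1, _root_.one_zpow]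
    have hsup := hRp'.to_sup_of_normal_left hzp
    have h3 := Tk.3 hsup (hle.trans le_sup_left)
    have h4 : (⟨x, hx⟩ : Kr) ∈ (Tk : Subgroup Kr) := h3 ▸ mem_sup_right (mem_zpowers _)
    exact mem_subgroupOf.1 (mem_subgroupOf.1 (hle h4))
  -- the pair on the factor
  set rr := QuotientGroup.mk' Kr with hrr
  have hrrs : Function.Surjective rr := QuotientGroup.mk'_surjective Kr
  have hrrk : ∀ l, rr l = 1 ↔ l ∈ Kr := fun l => QuotientGroup.eq_one_iff l
  let actQ : L ⧸ Kr →* AddMonoid.End (U ⧸ ZU) := QuotientGroup.lift Kr actB le_rfl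
  have hactQ : ∀ l, actQ (rr l) = actB l := fun l => rfl
  set Mb := (M'.subgroupOf L).map rr with hMb
  have hMbc : ∀ l, rr l ∈ Mb → (l : P) ∈ M' := by
    rintro l ⟨m, hm, e⟩
    have h1 : m⁻¹ * l ∈ Kr := (hrrk _).1 (by rw [map_mul, map_inv, e, inv_mul_cancel])
    have h2 : ((m⁻¹ * l : L) : P) ∈ M' := hKrM ⟨_, h1, rfl⟩
    have := M'.mul_mem (mem_subgroupOf.1 hm) h2
    simpa [mul_assoc] using this
  have hMbne : Mb ≠ ⊤ := fun e => hLM fun x hx => hMbc ⟨x, hx⟩ (e ▸ mem_top _)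
  obtain ⟨x₀, hx₀, hx₀M⟩ : ∃ x ∈ L, x ∉ M' := SetLike.not_le_iff_exists.1 hLM
  have hAKr : ¬ A.subgroupOf L ≤ Kr := fun h => by
    have hAR' : A ≤ R := fun a ha => hKrR ⟨a, hAL ha⟩
      ⟨hS (mem_subgroupOf.2 (mem_sup_left ha)), h (mem_subgroupOf.2 ha)⟩
    refine hLM ((hgenL x₀ hx₀ hx₀M).ge.trans (sup_le (sup_le ?_ ?_) ?_) |>.trans (le_sup_right.trans hAR))
    · exact hAR'
    · exact (map_mono hAR').trans (CfsgLib.LocalEven.mem_normalizer_conj_iff.1 (hRn hx₀)).le
    · exact le_rfl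
  have hpair : Pair (P := L ⧸ Kr) actQ (S.mapSurjective hrrs) Mb
      ((A.subgroupOf L).map rr) := by
    refine ⟨(injective_iff_map_eq_one actQ).2 fun x hx => ?_, ?_, map_mono ?_, ?_, hMbne, ?_, ?_, ?_, ?_⟩
    · obtain ⟨l, rfl⟩ := hrrs x
      exact (hrrk l).2 (MonoidHom.mem_ker.2 hx)
    · intro W hW
      set W' : AddSubgroup V := (W.comap (QuotientAddGroup.mk' ZU)).map U.subtype with hW'
      have hW'U : W' ≤ U := by rintro _ ⟨u, -, rfl⟩; exact u.2
      have hW'inv : ∀ l ∈ L, ∀ u ∈ W', act l u ∈ W' := by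
        rintro l hl _ ⟨u, hu, rfl⟩
        exact ⟨⟨act l (u : V), hUinv l hl u u.2⟩, hW (rr ⟨l, hl⟩) _ hu, rfl⟩
      by_cases hWZ : W' ≤ Z
      · left
        refine (AddSubgroup.eq_bot_iff_forall _).2 fun q hq => ?_
        induction q using QuotientAddGroup.induction_on with
        | _ u => exact (QuotientAddGroup.eq_zero_iff u).2 ⟨u.2, hWZ ⟨u, hq, rfl⟩⟩
      · right
        have := hUmin ⟨hW'inv, hW'U.trans hUR, hWZ⟩ hW'U
        refine eq_top_iff.2 fun q _ => ?_
        induction q using QuotientAddGroup.induction_on with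
        | _ u =>
          obtain ⟨u', hu', e⟩ := this u.2
          exact (Subtype.ext e : u' = u) ▸ hu'
    · exact fun x hx => hS (mem_subgroupOf.2 (mem_sup_left (mem_subgroupOf.1 hx)))
    · exact map_mono fun x hx => hTLM ⟨x, hx, rfl⟩
    · intro e
      refine hAKr fun a ha => (hrrk a).1 ?_
      exact mem_bot.1 (e ▸ mem_map_of_mem rr ha)
    · rintro _ ⟨a, ha, rfl⟩ q
      induction q using QuotientAddGroup.induction_on with
      | _ u =>
        rintro _ ⟨b, hb, rfl⟩
        show actB b (actB a (QuotientAddGroup.mk u) - QuotientAddGroup.mk u) =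
          actB a (QuotientAddGroup.mk u) - QuotientAddGroup.mk u
        rw [map_sub, hBmk a, hBmk b u, hBmk b, ← QuotientAddGroup.mk_sub, ← QuotientAddGroup.mk_sub]
        refine congrArg _ (Subtype.ext ?_)
        show act (b : P) (act (a : P) (u : V)) - act (b : P) (u : V) = act (a : P) (u : V) - u
        rw [← map_sub]
        exact hA.quad hs.inj hs.hpV a ha u b hb
    · intro q hq
      obtain ⟨x, rfl⟩ := hrrs q
      have hxM : (x : P) ∉ M' := fun h => hq ⟨x, mem_subgroupOf.2 h, rfl⟩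
      refine eq_top_iff.2 fun q' _ => ?_
      obtain ⟨y, rfl⟩ := hrrs q'
      have hgen := hgenL x x.2 hxM
      have hle : (⊤ : Subgroup L) ≤ ((A.subgroupOf L).map rr ⊔
          ((A.subgroupOf L).map rr).map (MulAut.conj (rr x)).toMonoidHom).comap rr := by
        intro z _
        have hz : (z : P) ∈ (A ⊔ A.map (MulAut.conj (x : P)).toMonoidHom) ⊔ R := hgen.ge z.2
        have key : (A ⊔ A.map (MulAut.conj (x : P)).toMonoidHom) ⊔ R ≤
            (((A.subgroupOf L).map rr ⊔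
              ((A.subgroupOf L).map rr).map (MulAut.conj (rr x)).toMonoidHom).comap rr).map L.subtype := by
          refine sup_le (sup_le ?_ ?_) ?_
          · intro a ha
            exact ⟨⟨a, hAL ha⟩, mem_sup_left (mem_map_of_mem rr (show (⟨a, hAL ha⟩ : L) ∈ A.subgroupOf L from ha)), rfl⟩
          · rintro _ ⟨a, ha, rfl⟩
            refine ⟨x * ⟨a, hAL ha⟩ * x⁻¹, mem_sup_right ⟨rr ⟨a, hAL ha⟩,
              mem_map_of_mem rr (mem_subgroupOf.2 ha), ?_⟩, rfl⟩
            rw [map_mul, map_mul, map_inv]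
            rfl
          · intro a ha
            refine ⟨⟨a, hRL ha⟩, ?_, rfl⟩
            refine mem_comap.2 ?_
            rw [(hrrk _).2 (hRKr (mem_subgroupOf.2 (show ((⟨a, hRL ha⟩ : L) : P) ∈ R from ha)))]
            exact one_mem _
        obtain ⟨z', hz', e⟩ := key hz
        exact (Subtype.ext e : z' = z) ▸ hz'
      exact hle (mem_top y)
    · intro q hq hall g
      obtain ⟨s, hs', rfl⟩ := hq
      have hsN : s ∈ (Mb.normalCore).comap rr := fun g => by
        have := hall g⁻¹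
        rwa [inv_inv] at this
      have hle : ((Mb.normalCore).comap rr).map L.subtype ≤ M' := by
        rintro _ ⟨z, hz, rfl⟩
        exact hMbc z (normalCore_le Mb hz)
      have h1 : rr s = 1 := (hrrk s).2 (hRKr (mem_subgroupOf.2
        (hFrat _ inferInstance hle s ⟨hs', hsN⟩)))
      rw [h1, mul_one, inv_mul_cancel]
      exact one_mem _
  -- counting
  have hpB : ∀ q : U ⧸ ZU, p • q = 0 := fun q => by
    induction q using QuotientAddGroup.induction_on with
    | _ u => rw [← QuotientAddGroup.mk_nsmul, show p • u = 0 from Subtype.ext (hs.hpV u)]; rfl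
  obtain ⟨hbuni, hble, hbV, -⟩ := hpair.facts hpB
  set Ab := (A.subgroupOf L).map rr with hAb
  set c := Nat.card (fix actQ Ab) with hc
  set A1 := A ⊓ Kr.map L.subtype with hA1
  have hA1R : A1 ≤ R := by
    rintro a ⟨ha, l, hl, e⟩
    have hla : l = ⟨a, hAL ha⟩ := Subtype.ext e
    exact hKrR ⟨a, hAL ha⟩ ⟨hS (mem_subgroupOf.2 (mem_sup_left ha)), hla ▸ hl⟩
  have hAcard : Nat.card Ab * Nat.card A1 = Nat.card A := by
    let f : A →* L ⧸ Kr := rr.comp (Subgroup.inclusion hAL)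
    have hr : f.range = Ab := by
      ext q
      constructor
      · rintro ⟨a, rfl⟩
        exact mem_map_of_mem rr (mem_subgroupOf.2 a.2)
      · rintro ⟨a, ha, rfl⟩
        exact ⟨⟨a, ha⟩, rfl⟩
    have hk : f.ker = A1.subgroupOf A := by
      ext a
      rw [MonoidHom.mem_ker, mem_subgroupOf]
      show rr _ = 1 ↔ _
      rw [hrrk]
      exact ⟨fun h => ⟨a.2, _, h, rfl⟩, fun ⟨_, l, hl, e⟩ => (Subtype.ext e : l = Subgroup.inclusion hAL a) ▸ hl⟩
    rw [Subgroup.card_eq_card_quotient_mul_card_subgroup f.ker,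
      Nat.card_congr (QuotientGroup.quotientKerEquivRange f).toEquiv, hr, hk,
      Nat.card_congr (subgroupOfEquivOfLe (inf_le_left : A1 ≤ A)).toEquiv]
  set fU := fix act A ⊓ U with hfU
  set pre : AddSubgroup U := (fix actQ Ab).comap (QuotientAddGroup.mk' ZU) with hpre
  set Zp := pre.map U.subtype with hZp
  have hZpmem : ∀ (u : V) (hu : u ∈ U), u ∈ Zp ↔
      ∀ a ∈ A, act a u - u ∈ Z := by
    intro u hu
    constructor
    · rintro ⟨u', hu', e⟩ a ha
      have h1 : actB ⟨a, hAL ha⟩ (QuotientAddGroup.mk u') = QuotientAddGroup.mk u' :=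
        hu' _ (mem_map_of_mem rr (mem_subgroupOf.2 (show ((⟨a, hAL ha⟩ : L) : P) ∈ A from ha)))
      rw [hBmk] at h1
      have h2 := neg_mem ((hmkeq _ u').1 h1)
      rw [neg_add_rev, neg_neg, neg_add_eq_sub] at h2
      rwa [← e]
    · intro h
      refine ⟨⟨u, hu⟩, ?_, rfl⟩
      rintro _ ⟨a, ha, rfl⟩
      show actB a (QuotientAddGroup.mk ⟨u, hu⟩) = QuotientAddGroup.mk ⟨u, hu⟩
      rw [hBmk]
      refine (hmkeq _ _).2 ?_
      have := neg_mem (h a (mem_subgroupOf.1 ha))
      rwa [neg_sub, sub_eq_neg_add] at this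
  have hfUZp : fU ≤ Zp := fun u hu => (hZpmem u hu.2).2 fun a ha => by
    rw [hu.1 a ha, sub_self]; exact zero_mem _
  have hcZp : Nat.card Zp = c * Nat.card ZU := by
    rw [hZp, AddSubgroup.card_map_of_injective U.subtype_injective, hc, hpre]
    have h1 := card_map_mk (U := (fix actQ Ab).comap (QuotientAddGroup.mk' ZU)) (Z := ZU)
      (fun z hz => by
        show QuotientAddGroup.mk' ZU z ∈ fix actQ Ab
        rw [QuotientAddGroup.mk'_apply, (QuotientAddGroup.eq_zero_iff z).2 hz]; exact zero_mem _)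
    rw [AddSubgroup.map_comap_eq_self_of_surjective (QuotientAddGroup.mk'_surjective ZU)] at h1
    exact h1.symm
  have hcU : Nat.card U = c * Nat.card Zp := by
    rw [hcZp, AddSubgroup.card_eq_card_quotient_mul_card_addSubgroup ZU, hbV, mul_assoc]
  have hsup := card_sup_mul_inf (fix act A) U
  rw [← hfU] at hsup
  have hZp0 : 0 < Nat.card Zp := Nat.card_pos
  have hfU0 : 0 < Nat.card fU := Nat.card_pos
  have hfUle : Nat.card fU ≤ Nat.card Zp :=
    Nat.card_le_card_of_injective _ (AddSubgroup.inclusion_injective hfUZp)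
  have hA1bot : A1 = ⊥ := by
    by_contra hne
    have hA1A : A1 ≠ A := fun e => hAKr fun a ha => by
      obtain ⟨-, l, hl, e'⟩ := e.ge (mem_subgroupOf.1 ha)
      exact (Subtype.ext e' : l = a) ▸ hl
    refine absurd (hA.strict inf_le_left hne hA1A) (not_lt.2 ?_)
    have h3 : Nat.card ↥(fix act A ⊔ U) ≤ Nat.card (fix act A1) :=
      Nat.card_le_card_of_injective _ (AddSubgroup.inclusion_injective (sup_le (fix_anti inf_le_left)
        fun u hu a ha => hUR hu a (hA1R ha)))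
    rw [hA.card_eq hs.inj hs.hpV, ← hAcard]
    refine Nat.le_of_mul_le_mul_right ?_ hfU0
    calc Nat.card Ab * Nat.card A1 * Nat.card (fix act A) * Nat.card fU
        ≤ c * Nat.card A1 * Nat.card (fix act A) * Nat.card Zp :=
          Nat.mul_le_mul (Nat.mul_le_mul_right _ (Nat.mul_le_mul_right _ hble)) hfUle
      _ = Nat.card A1 * (Nat.card (fix act A) * Nat.card U) := by rw [hcU]; ring
      _ = Nat.card A1 * Nat.card ↥(fix act A ⊔ U) * Nat.card fU := by rw [← hsup]; ring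
      _ ≤ Nat.card A1 * Nat.card (fix act A1) * Nat.card fU :=
          Nat.mul_le_mul_right _ (Nat.mul_le_mul_left _ h3)
  rw [hA1bot, Subgroup.card_bot, mul_one] at hAcard
  have hUle : Nat.card U ≤ Nat.card A * Nat.card fU := by
    refine Nat.le_of_mul_le_mul_left ?_ (Nat.card_pos : 0 < Nat.card (fix act A))
    calc Nat.card (fix act A) * Nat.card U = Nat.card ↥(fix act A ⊔ U) * Nat.card fU := hsup.symm
      _ ≤ Nat.card V * Nat.card fU :=
          Nat.mul_le_mul_right _ (Nat.card_le_card_of_injective _ (fix act A ⊔ U).subtype_injective)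
      _ = _ := by rw [hA.card_eq hs.inj hs.hpV]; ring
  have hcA : c = Nat.card Ab := by
    refine le_antisymm ?_ hble
    rw [hAcard]
    refine Nat.le_of_mul_le_mul_right ?_ hZp0
    rw [← hcU]
    exact hUle.trans (Nat.mul_le_mul_left _ hfUle)
  have hfUeq : fU = Zp := by
    have h1 : Nat.card Zp ≤ Nat.card fU := by
      refine Nat.le_of_mul_le_mul_left ?_ (Nat.card_pos : 0 < Nat.card A)
      rw [← hAcard, ← hcA, ← hcU, hcA, hAcard]
      exact hUle
    refine le_antisymm hfUZp fun z hz => ?_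
    have := eq_top_of_card (fU.addSubgroupOf Zp) (by
      rw [Nat.card_congr (AddSubgroup.addSubgroupOfEquivOfLe hfUZp).toEquiv]; exact h1)
    exact AddSubgroup.mem_addSubgroupOf.1 (this.ge (AddSubgroup.mem_top (⟨z, hz⟩ : Zp)))
  have hVsum : fix act A ⊔ U = ⊤ := eq_top_of_card _ (by
    refine Nat.le_of_mul_le_mul_right ?_ hfU0
    rw [hsup, hA.card_eq hs.inj hs.hpV, hcU, hcA, hAcard, ← hfUeq]
    exact le_of_eq (by ring))
  have hZA : ∀ z, z ∈ U → z ∈ Z → ∀ a ∈ A, act a z = z := by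
    intro z hzU hzZ a ha
    have h1 : z ∈ fU := hfUeq ▸ (hZpmem z hzU).2 fun b hb =>
      sub_mem (hZinv b (hAL hb) z hzZ) hzZ
    exact h1.1 a ha
  obtain ⟨F, i1, i2, ψ, ρ, hF, hρ, hψact, hup, hupsurj⟩ := hpair.natural hpB (hcA.symm.trans hc)
  letI := i1
  let φ : L →* SL(2, F) := ρ.comp rr
  have hφs : Function.Surjective φ := hρ.2.comp hrrs
  have hφk : ∀ l, φ l = 1 ↔ l ∈ Kr := fun l => by
    rw [← hrrk]
    show ρ (rr l) = 1 ↔ _
    exact map_eq_one_iff ρ hρ.1
  have hφact : ∀ (l : L) (u : U), ψ (QuotientAddGroup.mk ⟨act (l : P) (u : V), hUinv l l.2 u u.2⟩) =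
      (φ l : Matrix (Fin 2) (Fin 2) F) *ᵥ ψ (QuotientAddGroup.mk u) := fun l u => by
    rw [← hBmk]; exact hψact (rr l) _
  -- elements trivial on `V/U` and on the fixed part
  let N₁ : Subgroup L :=
    { carrier := {l | (∀ v, act (l : P) v - v ∈ U) ∧ ∀ z, z ∈ U → z ∈ Z → act (l : P) z = z}
      one_mem' := ⟨fun v => by rw [Subgroup.coe_one, act_one, sub_self]; exact zero_mem _,
        fun z _ _ => act_one act z⟩
      mul_mem' := fun {l m} hl hm => ⟨fun v => by
        rw [Subgroup.coe_mul, act_mul, ← sub_add_sub_cancel _ (act (m : P) v) v]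
        exact add_mem (hl.1 _) (hm.1 v), fun z h1 h2 => by
        rw [Subgroup.coe_mul, act_mul, hm.2 z h1 h2, hl.2 z h1 h2]⟩
      inv_mem' := fun {l} hl => ⟨fun v => by
        rw [Subgroup.coe_inv]
        have := neg_mem (hl.1 (act (l : P)⁻¹ v))
        rwa [act_inv', neg_sub] at this, fun z h1 h2 => by
        rw [Subgroup.coe_inv]
        nth_rewrite 1 [← hl.2 z h1 h2]
        rw [act_inv]⟩ }
  haveI : N₁.Normal := ⟨fun l hl m => ⟨fun v => by
      have := hUinv m m.2 _ (hl.1 (act (m : P)⁻¹ v))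
      rw [map_sub, act_inv', ← act_mul, ← act_mul] at this
      simpa [Subgroup.coe_mul, Subgroup.coe_inv, mul_assoc] using this,
    fun z h1 h2 => by
      rw [Subgroup.coe_mul, Subgroup.coe_mul, Subgroup.coe_inv, act_mul, act_mul,
        hl.2 _ (hUinv _ (inv_mem m.2) z h1) (hZinv _ (inv_mem m.2) z h2), act_inv']⟩⟩
  have hAN₁ : A.subgroupOf L ≤ N₁ := fun l hl => ⟨fun v => by
    obtain ⟨f, hf, u, hu, rfl⟩ := AddSubgroup.mem_sup.1 (hVsum.ge (AddSubgroup.mem_top v))
    rw [map_add, hf _ (mem_subgroupOf.1 hl), add_sub_add_left_eq_sub]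
    exact sub_mem (hUinv _ l.2 u hu) hu, fun z h1 h2 => hZA z h1 h2 _ (mem_subgroupOf.1 hl)⟩
  set L1 := normalClosure ((A.subgroupOf L : Subgroup L) : Set L) with hL1
  have hL1N : L1 ≤ N₁ := normalClosure_le_normal hAN₁
  have hφL1 : ∀ g : SL(2, F), ∃ l ∈ L1, φ l = g := by
    intro g
    obtain ⟨q, rfl⟩ := hρ.2 g
    have hq : q ∈ Ab ⊔ Ab.map (MulAut.conj (rr ⟨x₀, hx₀⟩)).toMonoidHom := by
      rw [hpair.gen _ fun h => hx₀M (hMbc _ h)]; exact mem_top q
    have key : Ab ⊔ Ab.map (MulAut.conj (rr ⟨x₀, hx₀⟩)).toMonoidHom ≤ L1.map rr := by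
      refine sup_le (map_mono subset_normalClosure) ?_
      rintro _ ⟨_, ⟨a, ha, rfl⟩, rfl⟩
      exact ⟨⟨x₀, hx₀⟩ * a * ⟨x₀, hx₀⟩⁻¹, (normalClosure_normal.conj_mem a (subset_normalClosure ha) _),
        by rw [map_mul, map_mul, map_inv]; rfl⟩
    obtain ⟨l, hl, rfl⟩ := key hq
    exact ⟨l, hl, rfl⟩
  -- a lift of the Weyl element of order prime to `p`
  obtain ⟨w₀, hw₀, hw₀φ⟩ := hφL1 (CfsgLib.LocalEvenB.weyl (1 : F) one_ne_zero)
  set wF : SL(2, F) := CfsgLib.LocalEvenB.weyl (1 : F) one_ne_zero with hwF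
  have hwF2 : ((wF * wF : SL(2, F)) : Matrix (Fin 2) (Fin 2) F) = -1 := by
    ext i j
    fin_cases i <;> fin_cases j <;>
      simp [hwF, CfsgLib.LocalEvenB.coe_weyl, SpecialLinearGroup.coe_mul, mul_apply, Fin.sum_univ_two]
  have hz4 : (wF * wF) * (wF * wF) = 1 := Subtype.ext (by
    show ((wF * wF : SL(2, F)) : Matrix (Fin 2) (Fin 2) F) * ((wF * wF : SL(2, F)) : Matrix (Fin 2) (Fin 2) F) = 1
    rw [hwF2]; simp)
  have hzc : ∀ g : SL(2, F), (wF * wF) * g * (wF * wF) = g := fun g => Subtype.ext (by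
    show ((wF * wF : SL(2, F)) : Matrix (Fin 2) (Fin 2) F) * (g : Matrix (Fin 2) (Fin 2) F) *
      ((wF * wF : SL(2, F)) : Matrix (Fin 2) (Fin 2) F) = g
    rw [hwF2]; simp)
  have hwF4 : wF ^ 4 = 1 := by rw [← hz4, pow_succ, pow_succ, pow_two, mul_assoc]
  obtain ⟨ν, hν⟩ : ∃ ν, ν = (orderOf w₀).factorization p := ⟨_, rfl⟩
  set w := w₀ ^ p ^ (2 * ν) with hw
  have hwcop : (orderOf w).Coprime p := by
    have h1 : orderOf w ∣ orderOf w₀ / p ^ ν := by
      refine orderOf_dvd_of_pow_eq_one ?_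
      rw [hw, ← pow_mul]
      refine orderOf_dvd_iff_pow_eq_one.1 ?_
      have hd : p ^ ν ∣ orderOf w₀ := hν ▸ Nat.ordProj_dvd _ p
      conv_lhs => rw [← Nat.mul_div_cancel' hd]
      exact mul_dvd_mul_right (pow_dvd_pow p (by omega)) _
    refine Nat.Coprime.coprime_dvd_left h1 ?_
    rw [hν]
    exact (Nat.coprime_ordCompl hp.out (orderOf_pos w₀).ne').symm
  have hwφ : φ w = wF := by
    have hodd : p % 2 = 1 := (hp.out.eq_two_or_odd).resolve_left hs.odd
    have h4 : p ^ (2 * ν) % 4 = 1 := by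
      rw [pow_mul, Nat.pow_mod]
      have : p ^ 2 % 4 = 1 := by
        rcases Nat.odd_mod_four_iff.1 hodd with h | h <;> simp [Nat.pow_mod, h]
      rw [this]
      simp
    rw [hw, map_pow, hw₀φ, ← Nat.div_add_mod (p ^ (2 * ν)) 4, h4, pow_add, pow_mul, hwF4, one_pow,
      one_mul, pow_one]
  have hwL1 : w ∈ L1 := pow_mem hw₀ _
  have hwM : (w : P) ∉ M' := fun h => by
    refine hMbne ?_
    have hsl : ∀ g : SL(2, F), g ∈ Mb.map ρ := by
      refine CfsgLib.LocalEvenB.mem_of_up_weyl _ (fun b => ?_) ?_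
      · obtain ⟨a, ha, e⟩ := hupsurj b
        obtain ⟨y, hy, rfl⟩ := ha
        exact ⟨rr y, ⟨y, mem_subgroupOf.2 (hTLM (hARTL (mem_sup_left (mem_subgroupOf.1 hy)))), rfl⟩, e⟩
      · exact ⟨rr w, ⟨w, mem_subgroupOf.2 h, rfl⟩, hwφ⟩

    refine eq_top_iff.2 fun q _ => ?_
    obtain ⟨q', hq', e⟩ := hsl (ρ q)
    exact hρ.1 e ▸ hq'
  -- elements of the kernel of order prime to `p` which lie in `L1` are trivial
  have htriv : ∀ l : L, l ∈ L1 → l ∈ Kr → (orderOf l).Coprime p → l = 1 := by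
    intro l hl hlk hlc
    refine Subtype.ext (hs.inj ?_)
    rw [Subgroup.coe_one, map_one]
    exact AddMonoidHom.ext fun v => trivial_of_layers hs.hpV (by rwa [orderOf_coe])
      (hcopU l hlc hlk) ((hL1N hl).1 v)
  set t := w * w with ht
  have hφt : φ t = wF * wF := by rw [ht, map_mul, hwφ]
  have htL1 : t ∈ L1 := mul_mem hwL1 hwL1
  have htt : t * t = 1 := by
    refine htriv _ (mul_mem htL1 htL1) ((hφk _).1 ?_) ?_
    · rw [map_mul, hφt, hz4]
    · refine Nat.Coprime.coprime_dvd_left ?_ hwcop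
      rw [ht, ← pow_two, ← pow_two, ← pow_mul]
      exact orderOf_pow_dvd _
  have hact2 : ∀ v, act (t : P) (act (t : P) v) = v := fun v => by
    rw [← act_mul, ← Subgroup.coe_mul, htt, Subgroup.coe_one, act_one]
  have htneg : ∀ u : U, ψ (QuotientAddGroup.mk ⟨act (t : P) (u : V), hUinv t t.2 u u.2⟩) =
      - ψ (QuotientAddGroup.mk u) := fun u => by
    rw [hφact, hφt, hwF2, neg_mulVec, one_mulVec]
  obtain ⟨h2, hh2⟩ : ∃ h : ℕ, ∀ v : V, h • v + h • v = v := by
    refine ⟨(p + 1) / 2, fun v => ?_⟩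
    have hodd : p % 2 = 1 := (hp.out.eq_two_or_odd).resolve_left hs.odd
    rw [← add_nsmul, show (p + 1) / 2 + (p + 1) / 2 = p + 1 by omega, succ_nsmul, hs.hpV, zero_add]
  let π₀ : V →+ V :=
    { toFun := fun v => h2 • (v - act (t : P) v)
      map_zero' := by simp
      map_add' := fun u v => by rw [← nsmul_add, map_add]; congr 1; abel }
  have hπt : ∀ v, act (t : P) (π₀ v) = - π₀ v := fun v => by
    show act (t : P) (h2 • (v - act (t : P) v)) = -(h2 • (v - act (t : P) v))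
    rw [map_nsmul, map_sub, hact2, ← neg_nsmul, neg_sub]
  have hπK : ∀ v, act (t : P) (v - π₀ v) = v - π₀ v := fun v => by
    rw [map_sub, hπt]
    show act (t : P) v - -(h2 • (v - act (t : P) v)) = v - h2 • (v - act (t : P) v)
    have := hh2 (v - act (t : P) v)
    linear_combination (norm := abel) this
  have hneg0 : ∀ x : V, x = -x → x = 0 := fun x hx => by
    have h0 : x + x = 0 := eq_neg_iff_add_eq_zero.1 hx
    rw [← hh2 x, ← nsmul_add, h0, nsmul_zero]
  have hπK0 : ∀ v, act (t : P) v = v → π₀ v = 0 := fun v hv => by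
    show h2 • (v - act (t : P) v) = 0
    rw [hv, sub_self, nsmul_zero]
  have hπW : ∀ v, act (t : P) v = -v → π₀ v = v := fun v hv => by
    show h2 • (v - act (t : P) v) = v
    rw [hv, sub_neg_eq_add, nsmul_add, hh2]
  have hπU : ∀ v, π₀ v ∈ U := fun v => by
    show h2 • (v - act (t : P) v) ∈ U
    have := neg_mem ((hL1N htL1).1 v)
    rw [neg_sub] at this
    exact nsmul_mem this _
  have hWU0 : ∀ v, act (t : P) v = -v → ∀ hv : v ∈ U,
      ψ (QuotientAddGroup.mk ⟨v, hv⟩) = 0 → v = 0 := fun v hv hvU hz => by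
    have h1 : (QuotientAddGroup.mk (⟨v, hvU⟩ : U) : U ⧸ ZU) = 0 := ψ.injective (by rw [hz, map_zero])
    have h2' := ((QuotientAddGroup.eq_zero_iff _).1 h1)
    exact hneg0 v (((hL1N htL1).2 v h2'.1 h2'.2).symm.trans hv)
  have hKU : ∀ v, act (t : P) v = v → v ∈ U → v ∈ Z := fun v hv hvU => by
    have h1 := htneg ⟨v, hvU⟩
    rw [show (⟨act (t : P) v, hUinv t t.2 v hvU⟩ : U) = ⟨v, hvU⟩ from Subtype.ext hv] at h1
    have h2' : (QuotientAddGroup.mk (⟨v, hvU⟩ : U) : U ⧸ ZU) = 0 := ψ.injective (by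
      rw [map_zero]
      funext i
      have h3 := congrFun h1 i
      have hcF : (2 : F) ≠ 0 := by
        intro h2F
        have hcard : (Nat.card F : F) = 0 := by
          rw [Nat.card_eq_fintype_card]; exact Nat.cast_card_eq_zero F
        obtain ⟨n, hn⟩ := IsPGroup.iff_card.1 hA.isPGroup
        rw [Nat.card_eq_fintype_card, hF, hAcard, hn, Nat.cast_pow] at hcard
        have hpF : (p : F) = 0 := pow_eq_zero_iff'.1 hcard |>.1
        obtain ⟨m, hm⟩ := (hp.out.eq_two_or_odd').resolve_left hs.odd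
        rw [hm, Nat.cast_add, Nat.cast_mul, Nat.cast_two, h2F, zero_mul, zero_add, Nat.cast_one] at hpF
        exact one_ne_zero hpF
      have h4 : (2 : F) * ψ (QuotientAddGroup.mk ⟨v, hvU⟩) i = 0 := by
        rw [two_mul]; nth_rewrite 1 [h3]; simp
      exact (mul_eq_zero.1 h4).resolve_left hcF)
    exact ((QuotientAddGroup.eq_zero_iff _).1 h2').2
  -- `R` commutes with `t`
  have hRK : ∀ r ∈ R, ∀ v, act (t : P) v = v → act (t : P) (act r v) = act r v := by
    intro r hr v hv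
    by_contra hne
    set CR := comm act R with hCR
    have hCRinv : ∀ l ∈ L, ∀ x ∈ CR, act l x ∈ CR := by
      intro l hl x hx
      refine (show CR ≤ CR.comap (act l : V →+ V) from (AddSubgroup.closure_le _).2 ?_) hx
      rintro _ ⟨a, ha, y, rfl⟩
      refine AddSubgroup.subset_closure ⟨l * a * l⁻¹, (mem_normalizer_iff.1 (hRn hl) a).1 ha, act l y, ?_⟩
      show act l (act a y - y) = _
      rw [map_sub, act_mul, act_mul, act_inv]
    set d := π₀ (act r v - v) with hd
    have hdC : d ∈ CR := by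
      have h1 : act r v - v ∈ CR := AddSubgroup.subset_closure ⟨r, hr, v, rfl⟩
      exact nsmul_mem (sub_mem h1 (hCRinv _ t.2 _ h1)) _
    have hd0 : d ≠ 0 := fun h0 => hne (by
      have h1 := hπK (act r v - v)
      rw [← hd, h0, sub_zero, map_sub, hv, sub_left_inj] at h1
      exact h1)
    have hdW : act (t : P) d = -d := hπt _
    have hmin := hUmin (y := CR ⊓ U) ⟨fun l hl x hx => ⟨hCRinv l hl x hx.1, hUinv l hl x hx.2⟩,
      inf_le_right.trans hUR, fun hle => hd0 (hneg0 d (by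
        rw [← hdW]
        exact ((hL1N htL1).2 d (hπU _) (hle ⟨hdC, hπU _⟩)).symm))⟩ inf_le_right
    have hUI : U ≤ comm act ((T : Subgroup P).map (MulAut.conj k').toMonoidHom) := fun u hu => by
      refine AddSubgroup.closure_mono ?_ (hmin hu).1
      rintro _ ⟨a, ha, y, rfl⟩
      exact ⟨a, hk' (mem_sup_right ha), y, rfl⟩
    refine hwM ?_
    rw [hM', ← hkM]
    refine hs.stabS_le (fun x hx => ?_) (comm_ne_top hs.hpV (T.2.map _)) (fun e => hd0 ?_)
    · rw [← sub_add_cancel (act (w : P) x) x]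
      exact add_mem (hUI ((hL1N hwL1).1 x)) hx
    · exact AddSubgroup.mem_bot.1 (e ▸ hUI (hπU _))
  have hRW : ∀ r ∈ R, ∀ v, act r (π₀ v) = π₀ v := fun r hr v => hUR (hπU v) r hr
  have hRt : ∀ r ∈ R, (t : P) * r = r * t := fun r hr => hs.inj (AddMonoidHom.ext fun v => by
    show act ((t : P) * r) v = act (r * (t : P)) v
    rw [act_mul, act_mul]
    generalize hw1 : π₀ v = a₁
    have hv : v = a₁ + (v - a₁) := by abel
    have k1 : act (t : P) a₁ = -a₁ := hw1 ▸ hπt v
    have k2 : act (t : P) (v - a₁) = v - a₁ := hw1 ▸ hπK v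
    have k3 : act r a₁ = a₁ := hw1 ▸ hRW r hr v
    have k4 := hRK r hr _ k2
    rw [hv, map_add, map_add, map_add, map_add, k3, k1, k2, k4, map_neg, k3])
  -- `t` commutes with `L1`
  have hL1t : ∀ l : L, l ∈ L1 → t * l = l * t := by
    intro l hl
    set e := t * l * t * l⁻¹ with he
    have heL1 : e ∈ L1 := mul_mem (mul_mem (mul_mem htL1 hl) htL1) (inv_mem hl)
    have heK : e ∈ Kr := (hφk _).1 (by
      have h1 := hzc (φ l)
      rw [he, map_mul, map_mul, map_mul, map_inv, hφt, h1, mul_inv_cancel])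
    have hep : ∃ n : ℕ, e ^ p ^ n = 1 := by
      refine ⟨(orderOf e).factorization p, htriv _ (pow_mem heL1 _) (pow_mem heK _) ?_⟩
      rw [orderOf_pow_of_dvd (pow_ne_zero _ hp.out.ne_zero) (Nat.ordProj_dvd _ p)]
      exact (Nat.coprime_ordCompl hp.out (orderOf_pos e).ne').symm
    have hc : t * e = e * t := Subtype.ext (hRt _ (hpKr e heK hep))
    have htinv : t⁻¹ = t := inv_eq_of_mul_eq_one_right htt
    have h1 : t * e * t = e⁻¹ := by
      have e' : e⁻¹ = l * t * l⁻¹ * t := inv_eq_of_mul_eq_one_right (by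
        rw [he, show (t * l * t * l⁻¹) * (l * t * l⁻¹ * t) = t * l * (t * t) * l⁻¹ * t by group, htt,
          show t * l * 1 * l⁻¹ * t = t * t by group, htt])
      rw [e', he, show t * (t * l * t * l⁻¹) * t = (t * t) * (l * t * l⁻¹ * t) by group, htt, one_mul]
    rw [hc, mul_assoc, htt, mul_one] at h1
    have he1 : e = 1 := by
      obtain ⟨n, hn⟩ := hep
      have hsq : e ^ 2 = 1 := by rw [pow_two]; nth_rewrite 2 [h1]; exact mul_inv_cancel e
      refine orderOf_eq_one_iff.1 (Nat.eq_one_of_dvd_coprimes ?_ (orderOf_dvd_of_pow_eq_one hsq)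
        (orderOf_dvd_of_pow_eq_one hn))
      exact ((Nat.coprime_primes Nat.prime_two hp.out).2 (Ne.symm hs.odd)).pow_right n
    rw [he, mul_inv_eq_one] at he1
    calc t * l = t * l * (t * t) := by rw [htt, mul_one]
      _ = l * t := by rw [← mul_assoc, he1]
  have hLt : ∀ l : L, t * l = l * t := by
    intro l
    have hC : (⊤ : Subgroup L) ≤ Subgroup.centralizer {t} := by
      intro z _
      have key : (A ⊔ A.map (MulAut.conj x₀).toMonoidHom) ⊔ R ≤
          (Subgroup.centralizer ({t} : Set L)).map L.subtype := by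
        refine sup_le (sup_le ?_ ?_) ?_
        · intro a ha
          exact ⟨⟨a, hAL ha⟩, mem_centralizer_singleton_iff.2
            (hL1t _ (subset_normalClosure (mem_subgroupOf.2 ha))).symm, rfl⟩
        · rintro _ ⟨a, ha, rfl⟩
          exact ⟨⟨x₀, hx₀⟩ * ⟨a, hAL ha⟩ * ⟨x₀, hx₀⟩⁻¹, mem_centralizer_singleton_iff.2
            (hL1t _ (normalClosure_normal.conj_mem _ (subset_normalClosure
              (show (⟨a, hAL ha⟩ : L) ∈ A.subgroupOf L from ha)) _)).symm, rfl⟩
        · intro a ha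
          exact ⟨⟨a, hRL ha⟩, mem_centralizer_singleton_iff.2 (Subtype.ext (hRt a ha).symm), rfl⟩
      obtain ⟨z', hz', e⟩ := key ((hgenL x₀ hx₀ hx₀M).ge z.2)
      exact (Subtype.ext e : z' = z) ▸ hz'
    exact (mem_centralizer_singleton_iff.1 (hC (mem_top l))).symm
  have hcomm : ∀ (l : L) v, act (t : P) (act (l : P) v) = act (l : P) (act (t : P) v) := fun l v => by
    rw [← act_mul, ← act_mul, ← Subgroup.coe_mul, ← Subgroup.coe_mul, hLt l]
  have hπl : ∀ (l : L) v, π₀ (act (l : P) v) = act (l : P) (π₀ v) := fun l v => by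
    show h2 • (act (l : P) v - act (t : P) (act (l : P) v)) = act (l : P) (h2 • (v - act (t : P) v))
    rw [hcomm, map_nsmul, map_sub]
  let N₂ : Subgroup L :=
    { carrier := {l | ∀ v, act (t : P) v = v → act (l : P) v = v}
      one_mem' := fun v _ => act_one act v
      mul_mem' := fun {l m} hl hm v hv => by
        rw [Subgroup.coe_mul, act_mul, hm v hv, hl v hv]
      inv_mem' := fun {l} hl v hv => by
        rw [Subgroup.coe_inv]; nth_rewrite 1 [← hl v hv]; rw [act_inv] }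
  haveI : N₂.Normal := ⟨fun l hl m v hv => by
    rw [Subgroup.coe_mul, Subgroup.coe_mul, Subgroup.coe_inv, act_mul, act_mul,
      hl _ (by rw [← Subgroup.coe_inv, hcomm, hv]), act_inv']⟩
  have hAN₂ : A.subgroupOf L ≤ N₂ := fun l hl v hv => by
    obtain ⟨f, hf, u, hu, rfl⟩ := AddSubgroup.mem_sup.1 (hVsum.ge (AddSubgroup.mem_top v))
    have hv' : f + u = (f - π₀ f) + (u - π₀ u) := by
      have h0 : π₀ f + π₀ u = 0 := by rw [← map_add]; exact hπK0 _ hv
      linear_combination (norm := abel) h0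
    have hfl : act (l : P) (f - π₀ f) = f - π₀ f := by
      rw [map_sub, ← hπl, hf _ (mem_subgroupOf.1 hl)]
    rw [hv', map_add, hfl, hZA _ (sub_mem hu (hπU u)) (hKU _ (hπK u) (sub_mem hu (hπU u))) _
      (mem_subgroupOf.1 hl)]
  have hL1K : L1 ≤ N₂ := normalClosure_le_normal hAN₂
  have hinj1 : ∀ l ∈ L1, φ l = 1 → l = 1 := fun l hl h1 => by
    refine Subtype.ext (hs.inj ?_)
    rw [Subgroup.coe_one, map_one]
    refine AddMonoidHom.ext fun v => ?_
    have hv : v = π₀ v + (v - π₀ v) := by abel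
    show act (l : P) v = v
    rw [hv, map_add, hL1K hl _ (hπK v)]
    congr 1
    have h2' : act (l : P) (π₀ v) - π₀ v = 0 := by
      refine hWU0 _ (by rw [map_sub, hcomm, hπt, map_neg]; abel)
        (sub_mem (hUinv l l.2 _ (hπU v)) (hπU v)) ?_
      rw [show (⟨act (l : P) (π₀ v) - π₀ v, sub_mem (hUinv l l.2 _ (hπU v)) (hπU v)⟩ : U) =
          ⟨act (l : P) (π₀ v), hUinv l l.2 _ (hπU v)⟩ - ⟨π₀ v, hπU v⟩ from rfl,
        QuotientAddGroup.mk_sub, map_sub, hφact l ⟨π₀ v, hπU v⟩, h1, sl_one_mulVec, sub_self]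
    exact sub_eq_zero.1 h2'
  let φ1 : L1 →* SL(2, F) := φ.comp L1.subtype
  have hφ1 : Function.Bijective φ1 := by
    refine ⟨(injective_iff_map_eq_one φ1).2 fun l hl => Subtype.ext (hinj1 l l.2 hl), fun g => ?_⟩
    obtain ⟨l, hl, e⟩ := hφL1 g
    exact ⟨⟨l, hl⟩, e⟩
  let e1 := MulEquiv.ofBijective φ1 hφ1
  let emb : SL(2, F) →* P := (L.subtype.comp L1.subtype).comp e1.symm.toMonoidHom
  let π : V →+ (Fin 2 → F) :=
    { toFun := fun v => ψ (QuotientAddGroup.mk ⟨π₀ v, hπU v⟩)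
      map_zero' := by
        rw [show (⟨π₀ 0, hπU 0⟩ : U) = 0 from Subtype.ext (map_zero π₀), QuotientAddGroup.mk_zero, map_zero]
      map_add' := fun u v => by
        rw [← map_add, ← QuotientAddGroup.mk_add]
        exact congrArg _ (congrArg _ (Subtype.ext (map_add π₀ u v))) }
  have hπsurj : Function.Surjective π := fun x => by
    obtain ⟨q, rfl⟩ := ψ.surjective x
    induction q using QuotientAddGroup.induction_on with
    | _ u =>
      refine ⟨(u : V), congrArg ψ ?_⟩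
      refine (hmkeq _ u).2 ?_
      show -π₀ (u : V) + u ∈ Z
      rw [neg_add_eq_sub]
      exact hKU _ (hπK u) (sub_mem u.2 (hπU u))
  have hππ : ∀ v, π (π₀ v) = π v := fun v =>
    congrArg ψ (congrArg QuotientAddGroup.mk (Subtype.ext (hπW _ (hπt v))))
  have hπ0 : ∀ v, π v = 0 → π₀ v = 0 := fun v hv => hWU0 _ (hπt v) (hπU v) hv
  let ι : (Fin 2 → F) →+ V := AddMonoidHom.mk' (fun x => π₀ (Function.surjInv hπsurj x)) fun x y => by
    rw [← map_add]
    refine sub_eq_zero.1 ?_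
    rw [← map_sub]
    refine hπ0 _ ?_
    simp only [map_sub, map_add, Function.surjInv_eq hπsurj, sub_self]
  have hιπ : ∀ v, ι (π v) = π₀ v := fun v => by
    refine sub_eq_zero.1 ?_
    show π₀ _ - π₀ v = 0
    rw [← map_sub]
    exact hπ0 _ (by rw [map_sub, Function.surjInv_eq hπsurj, sub_self])
  let r : Root act F :=
    { emb := emb
      ι := ι
      π := π
      πι := fun x => by
        show π (π₀ _) = x
        rw [hππ, Function.surjInv_eq hπsurj]
      act_emb := fun g v => by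
        obtain ⟨l, rfl⟩ := e1.surjective g
        show act ((((e1.symm (e1 l) : L1) : L) : P)) v = v - ι (π v) + ι ((φ l : Matrix (Fin 2) (Fin 2) F) *ᵥ π v)
        rw [e1.symm_apply_apply, hιπ]
        have hm : (φ l : Matrix (Fin 2) (Fin 2) F) *ᵥ π v = π (act ((l : L) : P) v) := by
          show _ = ψ (QuotientAddGroup.mk ⟨π₀ (act ((l : L) : P) v), _⟩)
          refine (hφact l ⟨π₀ v, hπU v⟩).symm.trans (congrArg ψ (congrArg QuotientAddGroup.mk (Subtype.ext ?_)))
          exact (hπl l v).symm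
        rw [hm, hιπ, hπl]
        have hvv : v = π₀ v + (v - π₀ v) := by abel
        conv_lhs => rw [hvv, map_add, hL1K l.2 _ (hπK v)]
        abel }
  have hembφ : ∀ (l : L) (hl : l ∈ L1), emb (φ l) = (l : P) := fun l hl => by
    show (((e1.symm (e1 ⟨l, hl⟩) : L1) : L) : P) = l
    rw [e1.symm_apply_apply]
  have hrA : r.A = A := by
    refine le_antisymm ?_ fun a ha => ?_
    · intro y hy
      obtain ⟨b, rfl⟩ := Root.mem_A.1 hy
      obtain ⟨q, ⟨a, ha, rfl⟩, e⟩ := hupsurj b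
      show emb _ ∈ A
      rw [← e]
      exact (congrArg (· ∈ A) (hembφ a (subset_normalClosure ha))).mpr (mem_subgroupOf.1 ha)
    · obtain ⟨b, hb⟩ := hup _ (mem_map_of_mem rr (mem_subgroupOf.2 (show ((⟨a, hAL ha⟩ : L) : P) ∈ A from ha)))
      refine Root.mem_A.2 ⟨b, ?_⟩
      show emb _ = a
      rw [← hb]
      exact hembφ _ (subset_normalClosure (mem_subgroupOf.2 ha))
  refine ⟨F, i1, i2, r, D, k, hrA, fun B hB => hDgen B ?_ fun c hc => hB _ (hA.conj c) hc, ?_, ?_, ?_, ?_, ?_⟩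
  · rw [hs.core]; exact bot_le
  · intro d hd g
    obtain ⟨l, rfl⟩ := e1.surjective g
    show d * (((e1.symm (e1 l) : L1) : L) : P) = (((e1.symm (e1 l) : L1) : L) : P) * d
    rw [e1.symm_apply_apply]
    refine hs.inj (AddMonoidHom.ext fun v => ?_)
    show act (d * ((l : L) : P)) v = act (((l : L) : P) * d) v
    have hdR := hDR hd
    have hv : v = π₀ v + (v - π₀ v) := by abel
    rw [act_mul, act_mul, hv]
    simp only [map_add]
    rw [← hπl, hRW d hdR, hRW d hdR, hπl, hL1K l.2 _ (hπK v), hL1K l.2 _ (hRK d hdR _ (hπK v))]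
  · rw [hrA]; exact (sup_le_sup_left hDR A).trans hAR
  · exact fun h => hwM (h ⟨φ w, hembφ w hwL1⟩)
  · rw [hrA]; exact hARp.to_le (sup_le_sup_left hDR A)
  · rw [hrA]; exact hpin

end CfsgLib.Techniques.FocalOdd
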