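import Cfsg.Agent.Lib.Techniques.FocalOdd.Datum

/-!
# Normalisers of a root group
-/

set_option autoImplicit false
set_option linter.all false
set_option maxHeartbeats 1000000

namespace CfsgLib.Techniques.FocalOdd

open Subgroup Matrix CfsgLib.LocalEven CfsgLib.LocalEven.OffSL2
open scoped MatrixGroups

variable {P V : Type*} [Group P] [AddCommGroup V] [Finite P] [Finite V] {p : ℕ} [hp : Fact p.Prime]
  {act : P →* AddMonoid.End V} {T : Sylow p P} {M : Subgroup P} {F : Type} [Field F] {r : Root act F}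

local notation:max X:max "^ᶜ" g:max => Subgroup.map (MulEquiv.toMonoidHom (MulAut.conj g)) X

/-- A shear lies in the root group. -/
theorem shear_mem (hs : Setting act T M) (hA : IsMember act p r.A) {x : P} (σ : F → F)
    (hσ : ∀ v, act x v = v + r.u0 (σ (r.p1 v))) : x ∈ r.A := by
  classical
  by_contra hxA
  let X : Subgroup P :=
    { carrier := {x | ∃ σ : F → F, ∀ v, act x v = v + r.u0 (σ (r.p1 v))}
      one_mem' := ⟨fun _ => 0, fun v => by rw [act_one, map_zero, add_zero]⟩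
      mul_mem' := fun {a b} ⟨sa, ha⟩ ⟨sb, hb⟩ => ⟨fun y => sa y + sb y, fun v => by
        rw [act_mul, hb, ha, map_add, r.p1_u0, add_zero, map_add]; abel⟩
      inv_mem' := fun {a} ⟨sa, ha⟩ => ⟨fun y => -sa y, fun v => by
        have h := ha (v + r.u0 (-sa (r.p1 v)))
        rw [map_add r.p1, r.p1_u0, add_zero, add_assoc, ← map_add r.u0, neg_add_cancel, map_zero,
          add_zero] at h
        conv_lhs => rw [← h]
        rw [act_inv]⟩ }
  have hAX : r.A ≤ X := r.A_eq_iff.2 fun b => ⟨fun y => b * y, fun v => r.act_a b v⟩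
  have hXc : ∀ a ∈ X, ∀ b ∈ X, a * b = b * a := by
    rintro a ⟨sa, ha⟩ b ⟨sb, hb⟩
    refine hs.inj (AddMonoidHom.ext fun v => ?_)
    show act (a * b) v = act (b * a) v
    rw [act_mul, act_mul, hb, ha, ha v, hb, map_add r.p1, map_add r.p1, r.p1_u0, r.p1_u0]
    simp only [add_zero]
    abel
  have hXp : ∀ a ∈ X, a ^ p = 1 := by
    rintro a ⟨sa, ha⟩
    have hn : ∀ (n : ℕ) v, act (a ^ n) v = v + n • r.u0 (sa (r.p1 v)) := by
      intro n
      induction n with
      | zero => intro v; rw [pow_zero, act_one, zero_smul, add_zero]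
      | succ n ih =>
        intro v
        rw [pow_succ, act_mul, ih, ha, map_add r.p1, r.p1_u0, add_zero, succ_nsmul]
        abel
    refine hs.inj (AddMonoidHom.ext fun v => ?_)
    show act (a ^ p) v = act 1 v
    rw [hn, hs.hpV, add_zero, act_one]
  have hfix : fix act r.A ≤ fix act X := by
    rintro v hv a ⟨sa, ha⟩
    have h0 : sa 0 = 0 := r.u0_injective (by
      have := ha 0
      rw [map_zero, map_zero, zero_add] at this
      rw [← this, map_zero])
    rw [ha, (r.mem_fix_A v).1 hv, h0, map_zero, add_zero]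
  have hxX : x ∈ X := ⟨σ, hσ⟩
  set x' := r.a (-(σ 1)) * x with hx'
  have hx'X : x' ∈ X := mul_mem (hAX (r.a_mem _)) hxX
  have hx'1 : x' ≠ 1 := fun e => hxA (by
    rw [hx', mul_eq_one_iff_eq_inv'] at e
    rw [e]; exact inv_mem (r.a_mem _))
  have hfx : act x' (r.l0 1) = r.l0 1 := by
    rw [hx', act_mul, hσ, r.p1_l0, r.act_a, map_add r.p1, r.p1_l0, r.p1_u0, add_zero, mul_one, add_assoc,
      ← map_add, add_neg_cancel, map_zero, add_zero]
  obtain ⟨i, hi⟩ := IsPGroup.iff_card.1 hA.isPGroup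
  have hi0 : i ≠ 0 := fun e => hA.ne (Subgroup.eq_bot_of_card_eq _ (by rw [hi, e, pow_zero]))
  have hXpg : IsPGroup p X := fun a => ⟨1, Subtype.ext (by rw [pow_one]; exact hXp a a.2)⟩
  obtain ⟨j, hj⟩ := IsPGroup.iff_card.1 hXpg
  have hord : orderOf (⟨x', hx'X⟩ : X) = p := by
    refine orderOf_eq_prime (Subtype.ext (hXp x' hx'X)) fun e => hx'1 (congrArg Subtype.val e)
  have hij : i ≤ j := (Nat.pow_le_pow_iff_right hp.out.one_lt).1 (by
    rw [← hi, ← hj]; exact Nat.card_le_card_of_injective _ (Subgroup.inclusion_injective hAX))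
  obtain ⟨K, hK, hxK⟩ := Sylow.exists_subgroup_card_pow_prime_le p (hj ▸ pow_dvd_pow p hij)
    (Subgroup.zpowers (⟨x', hx'X⟩ : X)) (n := 1) (by rw [Nat.card_zpowers, hord, pow_one]) (by omega)
  set Y := K.map X.subtype with hY
  have hYle : Y ≤ X := map_subtype_le K
  have hYc : Nat.card Y = Nat.card r.A := by rw [hY, card_map_of_injective X.subtype_injective, hK, hi]
  have hx'Y : x' ∈ Y := ⟨⟨x', hx'X⟩, hxK (mem_zpowers _), rfl⟩
  have hfY : fix act r.A ≤ fix act Y := hfix.trans (fix_anti hYle)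
  have hYo : IsOff act p Y := ⟨fun a ha b hb => hXc a (hYle ha) b (hYle hb), fun a ha => hXp a (hYle ha),
    fun e => hx'1 (Subgroup.mem_bot.1 (e ▸ hx'Y)), by
      rw [hA.card_eq hs.inj hs.hpV, hYc]
      exact Nat.mul_le_mul_left _ (Nat.card_le_card_of_injective _ (AddSubgroup.inclusion_injective hfY))⟩
  have hYm : IsMember act p Y := ⟨hYo, fun B hB => hYc ▸ hA.min B hB⟩
  have hl : r.l0 1 ∈ fix act Y := hYm.fix_of_ne_one hs hx'Y hx'1 hfx
  have hne : fix act r.A ≠ fix act Y := fun e => one_ne_zero (α := F) (by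
    rw [← r.p1_l0 1]; exact (r.mem_fix_A _).1 (e.ge hl))
  have h4 := hYm.card_eq hs.inj hs.hpV
  rw [hYc, hA.card_eq hs.inj hs.hpV] at h4
  exact hne (AddSubgroup.eq_of_le_of_card_ge hfY (Nat.eq_of_mul_eq_mul_left Nat.card_pos h4).ge)

/-- The coordinates of an element normalising the root group. -/
theorem norm_rel (hs : Setting act T M) {x : P} (hx : r.A^ᶜx = r.A) :
    ∃ (β γ : F →+ F) (θ : F → F), (∀ u, act x (r.u0 u) = r.u0 (β u)) ∧
      (∀ v, r.p1 (act x v) = γ (r.p1 v)) ∧ (∀ c, x * r.a c = r.a (θ c) * x) ∧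
      (∀ c y, β (c * y) = θ c * γ y) ∧ γ 1 ≠ 0 := by
  have hc : ∀ c, ∃ c', x * r.a c = r.a c' * x := by
    intro c
    obtain ⟨c', hc'⟩ := Root.mem_A.1 (hx.le (conj_mem_conj (g := x) (r.a_mem c)))
    exact ⟨c', by rw [show r.a c' = x * r.a c * x⁻¹ from hc', inv_mul_cancel_right]⟩
  choose θ hθ using hc
  have hfix : ∀ v, r.p1 v = 0 → r.p1 (act x v) = 0 := by
    intro v hv
    have h1 : act x v ∈ fix act (r.A^ᶜx) := (mem_fix_conj act).2 (by
      rw [act_inv]; exact (r.mem_fix_A v).2 hv)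
    rw [hx] at h1
    exact (r.mem_fix_A _).1 h1
  let γ : F →+ F := r.p1.comp ((act x : V →+ V).comp r.l0)
  let β : F →+ F := r.p0.comp ((act x : V →+ V).comp r.u0)
  have hγ : ∀ v, r.p1 (act x v) = γ (r.p1 v) := by
    intro v
    have h1 := hfix (v - r.l0 (r.p1 v)) (by rw [map_sub, r.p1_l0, sub_self])
    rw [map_sub, map_sub, sub_eq_zero] at h1
    exact h1
  have key : ∀ c y, act x (r.u0 (c * y)) = r.u0 (θ c * γ y) := by
    intro c y
    have h1 := congrArg (fun g => act g (r.l0 y)) (hθ c)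
    simp only [act_mul, r.act_a, r.p1_l0, map_add (act x)] at h1
    rw [hγ, r.p1_l0, add_right_inj] at h1
    exact h1
  have hβ : ∀ c y, β (c * y) = θ c * γ y := fun c y => by
    show r.p0 (act x (r.u0 (c * y))) = _
    rw [key, r.p0_u0]
  refine ⟨β, γ, θ, fun u => ?_, hγ, hθ, hβ, fun e => one_ne_zero (α := F) ?_⟩
  · have h1 := key u 1
    rw [mul_one] at h1
    rw [h1]
    show _ = r.u0 (r.p0 (act x (r.u0 u)))
    rw [h1, r.p0_u0]
  · refine r.u0_injective (act_injective act x ?_)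
    have h1 := key 1 1
    rw [mul_one, e, mul_zero, map_zero] at h1
    rw [h1, map_zero, map_zero]

theorem iterate_scalar (r : Root act F) {x : P} {g : F} (hg : ∀ v, r.p1 (act x v) = g * r.p1 v)
    (n : ℕ) (v : V) : r.p1 (act (x ^ n) v) = g ^ n * r.p1 v := by
  induction n with
  | zero => rw [pow_zero, act_one, pow_zero, one_mul]
  | succ n ih => rw [pow_succ', act_mul, hg, ih, pow_succ', mul_assoc]

theorem scalar_p1_eq_one (hs : Setting act T M) (r : Root act F) {x : P} {n : ℕ} (hn : x ^ p ^ n = 1)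
    {g : F} (hg : ∀ v, r.p1 (act x v) = g * r.p1 v) : g = 1 := by
  haveI := r.charP hs.hpV
  refine eq_one_of_pow (p := p) (n := n) ?_
  have h1 := iterate_scalar r hg (p ^ n) (r.l0 1)
  rw [hn, act_one, r.p1_l0, mul_one] at h1
  exact h1.symm

/-- An element commuting with the root group is trivial on both layers. -/
theorem triv_of_comm (hs : Setting act T M) {x : P} {n : ℕ} (hn : x ^ p ^ n = 1)
    (hc : ∀ c, x * r.a c = r.a c * x) : Triv r x := by
  have hx : r.A^ᶜx = r.A := mem_normalizer_conj_iff.1 (by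
    rw [mem_normalizer_iff]
    refine fun a => ⟨fun ha => ?_, fun ha => ?_⟩
    · obtain ⟨c, rfl⟩ := Root.mem_A.1 ha
      show x * r.a c * x⁻¹ ∈ r.A
      rw [hc, mul_inv_cancel_right]
      exact r.a_mem c
    · obtain ⟨c, hc'⟩ := Root.mem_A.1 ha
      have h1 : r.a c = a := by
        have h2 := hc c
        rw [show r.a c = x * a * x⁻¹ from hc', inv_mul_cancel_right] at h2
        rw [show r.a c = x * a * x⁻¹ from hc']
        exact mul_left_cancel h2
      rw [← h1]
      exact r.a_mem c)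
  obtain ⟨β, γ, θ, hu, hv, hθ, hrel, hγ1⟩ := norm_rel hs hx
  have hθ' : ∀ c, θ c = c := fun c => r.a_injective (mul_right_cancel ((hθ c).symm.trans (hc c)))
  have hg : ∀ y, γ y = γ 1 * y := fun y => by
    have h1 := hrel 1 y
    have h2 := hrel y 1
    rw [hθ', one_mul, one_mul] at h1
    rw [hθ', mul_one] at h2
    rw [← h1, h2, mul_comm]
  have h1 := scalar_p1_eq_one hs r hn fun v => by rw [hv, hg]
  refine ⟨fun u => ?_, fun v => by rw [hv, hg, h1, one_mul]⟩
  have h2 := hrel u 1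
  rw [mul_one, hθ', h1, mul_one] at h2
  rw [hu, h2]

/-- An element fixing the axis is trivial on both layers. -/
theorem triv_of_fix (hs : Setting act T M) {x : P} {n : ℕ} (hn : x ^ p ^ n = 1) (hx : r.A^ᶜx = r.A)
    (hu1 : ∀ u, act x (r.u0 u) = r.u0 u) : Triv r x := by
  obtain ⟨β, γ, θ, hu, hv, hθ, hrel, hγ1⟩ := norm_rel hs hx
  have hβ : ∀ u, β u = u := fun u => r.u0_injective ((hu u).symm.trans (hu1 u))
  have hθ0 : θ 1 ≠ 0 := fun e => one_ne_zero (α := F) (by
    rw [← hβ (1 : F), ← one_mul (1 : F), hrel, e, zero_mul])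
  have hg : ∀ y, γ y = (θ 1)⁻¹ * y := fun y => by
    have h1 := hrel 1 y
    rw [one_mul, hβ] at h1
    conv_rhs => rw [h1, inv_mul_cancel_left₀ hθ0]
  have h1 := scalar_p1_eq_one hs r hn fun v => by rw [hv, hg]
  exact ⟨hu1, fun v => by rw [hv, hg, h1, one_mul]⟩

/-- A quadratic element is trivial on both layers. -/
theorem triv_of_quad (hs : Setting act T M) {x : P} (hx : r.A^ᶜx = r.A)
    (hq : ∀ v, act x (act x v - v) = act x v - v) : Triv r x := by
  obtain ⟨β, γ, θ, hu, hv, hθ, hrel, hγ1⟩ := norm_rel hs hx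
  have h2F : (2 : F) ≠ 0 := r.two_ne hs.odd hs.hpV
  have hqβ : ∀ u, β (β u - u) = β u - u := fun u => r.u0_injective (by
    rw [← hu, map_sub r.u0, ← hu]; exact hq _)
  obtain ⟨x0, hx0, hx0'⟩ : ∃ x0, x0 ≠ 0 ∧ β x0 = x0 := by
    by_cases h : β 1 - 1 = 0
    · exact ⟨1, one_ne_zero, sub_eq_zero.1 h⟩
    · exact ⟨_, h, hqβ 1⟩
  have hβc : ∀ c, θ c = β c / γ 1 := fun c => by
    rw [eq_div_iff hγ1, ← hrel, mul_one]
  have hγ : ∀ y, γ y / γ 1 = β (x0 * y) / x0 := fun y => by
    rw [hrel, hβc, hx0']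
    field_simp
  have hbs : ∀ c y, β (c * y) = β c * (β (x0 * y) / x0) := fun c y => by
    rw [← hγ, hrel c y, hβc]; ring
  set σ : F → F := fun y => β (x0 * y) / x0 with hσ
  have hσadd : ∀ a b, σ (a + b) = σ a + σ b := fun a b => by
    simp only [hσ, mul_add, map_add, add_div]
  have hσid : ∀ y, σ y = y := eq_id_of_quadratic h2F hσadd
    (fun a b => by
      show β (x0 * (a * b)) / x0 = β (x0 * a) / x0 * (β (x0 * b) / x0)
      rw [← mul_assoc, hbs (x0 * a) b]
      ring)
    (fun y => by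
      have h1 := hqβ (x0 * y)
      show β (x0 * (β (x0 * y) / x0 - y)) / x0 = β (x0 * y) / x0 - y
      rw [mul_sub, mul_div_cancel₀ _ hx0, h1, sub_div, mul_div_cancel_left₀ _ hx0])
  have hβ : ∀ u, β u = u := fun u => by
    have h1 := hσid (u / x0)
    simp only [hσ, mul_div_cancel₀ _ hx0] at h1
    field_simp at h1
    exact h1
  have hg : ∀ y, γ y = γ 1 * y := fun y => by
    have h1 := hγ y
    rw [show β (x0 * y) / x0 = y from hσid y] at h1
    rw [div_eq_iff hγ1] at h1
    rw [h1, mul_comm]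
  refine ⟨fun u => by rw [hu, hβ], fun v => ?_⟩
  have h1 := congrArg r.p1 (hq (r.l0 1))
  rw [hv, map_sub, hv, r.p1_l0, hg (γ 1 - 1)] at h1
  have h3 : γ 1 - 1 = 0 := mul_self_eq_zero.1 (by linear_combination h1)
  rw [hv, hg, sub_eq_zero.1 h3, one_mul]

omit [Finite P] [Finite V] in
/-- Elements trivial on both layers commute with the root group. -/
theorem Triv.comm (hinj : Function.Injective act) {x : P} (h : Triv r x) (c : F) :
    x * r.a c = r.a c * x := by
  refine hinj (AddMonoidHom.ext fun v => ?_)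
  show act (x * r.a c) v = act (r.a c * x) v
  rw [act_mul, act_mul, r.act_a, r.act_a, map_add, h.1, h.2]

/-- An element trivial on both layers and commuting with the involution acts as a root element. -/
theorem linearise (hs : Setting act T M) (hA : IsMember act p r.A) {x : P} (h : Triv r x)
    (ht : x * r.t = r.t * x) : Nice r x := by
  obtain ⟨hK, hW⟩ := r.comm_t hs.two ht
  set σ : F → F := fun y => r.p0 (act x (r.l0 y)) with hσ
  have hxv : ∀ v, act x v = r.u0 (r.p0 v + σ (r.p1 v)) + r.l0 (r.p1 v) + act x (r.kp v) := by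
    intro v
    conv_lhs => rw [← r.decomp v, map_add, map_add, h.1]
    have h1 : act x (r.l0 (r.p1 v)) = r.u0 (σ (r.p1 v)) + r.l0 (r.p1 v) := by
      conv_lhs => rw [← r.decomp (act x (r.l0 (r.p1 v))), h.2, r.p1_l0,
        show r.kp (act x (r.l0 (r.p1 v))) = 0 from hW _, add_zero]
    rw [h1, map_add]
    abel
  have hπ : ∀ v, r.p0 (act x (r.kp v)) = 0 ∧ r.p1 (act x (r.kp v)) = 0 ∧
      r.kp (act x (r.kp v)) = act x (r.kp v) := fun v =>
    ⟨((r.π_zero_iff _).1 (hK _ (r.π_kp v))).1, ((r.π_zero_iff _).1 (hK _ (r.π_kp v))).2,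
      r.kp_eq_self (hK _ (r.π_kp v))⟩
  have hlin : ∀ μ : F, μ ≠ 0 → ∃ ν, ∀ y, μ * σ (μ * y) - σ y = ν * y := by
    intro μ hμ
    set τ := r.emb (CfsgLib.LocalEvenB.diagH μ hμ) with hτ
    set τ' := r.emb (CfsgLib.LocalEvenB.diagH μ⁻¹ (inv_ne_zero hμ)) with hτ'
    have key : ∀ u, act (τ * x * τ') u = act x u + r.u0 (μ * σ (μ * r.p1 u) - σ (r.p1 u)) := by
      intro u
      rw [act_mul, act_mul, hτ', r.act_diag (inv_ne_zero hμ) u, inv_inv, hxv, hτ, r.act_diag]
      simp only [map_add, r.p0_u0, r.p0_l0, r.p0_kp, r.p1_u0, r.p1_l0, r.p1_kp, r.kp_u0, r.kp_l0,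
        r.kp_kp, (hπ u).1, (hπ u).2.1, (hπ u).2.2, map_zero, add_zero, zero_add]
      rw [hxv u, mul_add μ, ← mul_assoc μ μ⁻¹, mul_inv_cancel₀ hμ, one_mul, ← mul_assoc μ⁻¹ μ,
        inv_mul_cancel₀ hμ, one_mul]
      simp only [map_add, map_sub]
      abel
    obtain ⟨ν, hν⟩ := Root.mem_A.1 (shear_mem hs hA (x := τ * x * τ' * x⁻¹)
      (fun y => μ * σ (μ * y) - σ y) fun v => by
        rw [act_mul, key, act_inv']
        have : r.p1 (act x⁻¹ v) = r.p1 v := by
          conv_rhs => rw [← act_inv' act x v, h.2]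
        rw [this])
    refine ⟨ν, fun y => r.u0_injective (act_injective act x ?_)⟩
    have h1 := congrArg (fun g => act g (act x (r.l0 y))) hν
    rw [← Root.a, r.act_a, h.2, r.p1_l0, act_mul, key, act_inv, r.p1_l0, add_right_inj] at h1
    rw [h1]
  have hσa : ∀ a b, σ (a + b) = σ a + σ b := fun a b => by simp only [hσ, map_add]
  refine ⟨ht, σ 1, fun w => ?_⟩
  rw [hxv, r.act_a, r.kp_ι, map_zero, add_zero,
    linear_of_torus (r.two_ne hs.odd hs.hpV) hσa hlin (r.p1 (r.ι w)), map_add r.u0]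
  conv_rhs => rw [← r.decomp (r.ι w), r.kp_ι, add_zero]
  simp only [map_add r.p1, r.p1_u0, r.p1_l0, zero_add]
  abel

end CfsgLib.Techniques.FocalOdd
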